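import Cfsg.Agent.TwoFusion.TwoDihedral.CaseRot

/-!
In a group without a normal subgroup of index two whose non-abelian Sylow 2-subgroup is a product of
two dihedral groups, the factors can be chosen strongly closed.
-/

set_option autoImplicit false
set_option linter.style.haveILetI false
set_option linter.unusedSectionVars false
set_option linter.unusedVariables false

namespace Cfsg.Lib.TwoDihedral

open Subgroup Cfsg.Lib.Fusion

/-- Conclusion: strongly closed factors isomorphic to the given ones. -/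
def Factors {G : Type*} [Group G] (S D₁ D₂ : Subgroup G) : Prop :=
  ∃ S₁ S₂ : Subgroup G, Cfsg.IsInternalDirectProduct S₁ S₂ S ∧
    Nonempty (D₁ ≃* S₁) ∧ Nonempty (D₂ ≃* S₂) ∧
    Cfsg.IsStronglyClosed S₁ S ∧ Cfsg.IsStronglyClosed S₂ S

variable {G : Type*} [Group G] [Finite G] {S : Sylow 2 G} {D₁ D₂ : Subgroup G}
  (hp : Cfsg.IsInternalDirectProduct D₁ D₂ (S : Subgroup G)) (d₁ : Dih D₁) (d₂ : Dih D₂)

include hp

/-- The four-group factor can be taken invariant under a rotation. -/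
theorem exists_rot (hk₁ : 1 ≤ d₁.k) (hk₂ : d₂.k = 0) {n : G}
    (hn : n ∈ normalizer ((S : Subgroup G) : Set G)) (ho : Odd (orderOf n)) {x : G}
    (hx : x ∈ (S : Subgroup G)) (hxc : ∀ y ∈ (S : Subgroup G), x * y = y * x)
    (hmove : n * x * n⁻¹ ≠ x) :
    ∃ (U : Subgroup G) (u : Dih U), Cfsg.IsInternalDirectProduct D₁ U (S : Subgroup G) ∧
      Nonempty (D₂ ≃* U) ∧ u.k = 0 ∧ n * u.c * n⁻¹ = u.t ∧ n * u.t * n⁻¹ = u.c * u.t := by
  classical
  set q := hp_symm hp
  have hz := four_fix_z hp d₁ d₂ hk₁ hk₂ hn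
  obtain ⟨d, hd, hdm⟩ : ∃ d ∈ D₂, n * d * n⁻¹ ≠ d := by
    by_contra hno
    push Not at hno
    apply hmove
    have e := pr_decomp hp hx
    have h2 := hno _ (pr_mem q x)
    rw [e, ← conj_mul, h2]
    rcases central_comp hp d₁ hk₁ hx hxc with h | h <;> rw [h]
    · simp
    · rw [hz]
  have hdd := four_sq d₂ hk₂ hd
  have hcen : ∀ {y : G}, y ∈ (S : Subgroup G) → (∀ u ∈ (S : Subgroup G), y * u = u * y) →
      n * y * n⁻¹ ∈ (S : Subgroup G) ∧
        ∀ u ∈ (S : Subgroup G), n * y * n⁻¹ * u = u * (n * y * n⁻¹) := fun {y} hy hyc =>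
    ⟨conj_mem_of_mem_normalizer hn hy, fun u hu => by
      have h := hyc _ (conj_mem_of_mem_normalizer (inv_mem hn) hu)
      rw [inv_inv] at h
      calc n * y * n⁻¹ * u = n * (y * (n⁻¹ * u * n)) * n⁻¹ := by group
        _ = n * (n⁻¹ * u * n * y) * n⁻¹ := by rw [h]
        _ = _ := by group⟩
  have hdS := hp.2.1 hd
  have hdc := four_central hp d₁ d₂ hk₁ hk₂ hdS (Or.inl (pr_right hp hd))
  obtain ⟨hw1S, hw1c⟩ := hcen hdS hdc
  set w₁ := n * d * n⁻¹ with hw1
  obtain ⟨hw2S, hw2c⟩ := hcen hw1S hw1c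
  set w₂ := n * w₁ * n⁻¹ with hw2
  -- an element whose second component is trivial is fixed
  have hfix1 : ∀ {y : G}, y ∈ (S : Subgroup G) → (∀ u ∈ (S : Subgroup G), y * u = u * y) →
      pr q y = 1 → n * y * n⁻¹ = y := fun {y} hy hyc h => by
    have e := pr_decomp hp hy
    rw [h, mul_one] at e
    rcases central_comp hp d₁ hk₁ hy hyc with h' | h' <;> rw [h'] at e <;> rw [e]
    · simp
    · exact hz
  -- an element moved to its own coset of `⟨z⟩` is fixed
  have hfix2 : ∀ {y : G}, y ∈ (S : Subgroup G) → (∀ u ∈ (S : Subgroup G), y * u = u * y) →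
      pr q (n * y * n⁻¹) = pr q y → n * y * n⁻¹ = y := fun {y} hy hyc h => by
    obtain ⟨hy'S, hy'c⟩ := hcen hy hyc
    refine fix_of_fix_twice ho ?_
    have hy2 : y * y = 1 := by
      refine eq_of_pr hp (mul_mem hy hy) (one_mem _) ?_ ?_
      · rw [pr_mul hp hy hy, pr_one]
        rcases central_comp hp d₁ hk₁ hy hyc with h' | h' <;> rw [h']
        exacts [one_mul 1, d₁.z_sq]
      · rw [pr_mul q hy hy, pr_one, four_sq d₂ hk₂ (pr_mem q y)]
    have hmS := mul_mem hy hy'S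
    have hp2 : pr q (y * (n * y * n⁻¹)) = 1 := by
      rw [pr_mul q hy hy'S, h, four_sq d₂ hk₂ (pr_mem q y)]
    have hf := hfix1 hmS (fun u hu => (Commute.mul_left (hyc u hu) (hy'c u hu)).eq) hp2
    set p := y * (n * y * n⁻¹) with hpdef
    have e : n * y * n⁻¹ = y * p := by rw [hpdef, ← mul_assoc, hy2, one_mul]
    have hpp : p * p = 1 := by
      rw [hpdef, show y * (n * y * n⁻¹) * (y * (n * y * n⁻¹)) =
        y * (n * y * n⁻¹ * y) * (n * y * n⁻¹) by group, hy'c y hy,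
        show y * (y * (n * y * n⁻¹)) * (n * y * n⁻¹) = y * y * (n * (y * y) * n⁻¹) by group, hy2]
      group
    rw [e, ← conj_mul, e, hf, mul_assoc, hpp, mul_one]
  have hd1 : d ≠ 1 := fun h => hdm (by rw [hw1, h, mul_one, mul_inv_cancel])
  have hne1 : pr q w₁ ≠ d := fun h => hdm (hfix2 hdS hdc (by rw [pr_left q hd]; exact h))
  have hne0 : pr q w₁ ≠ 1 := fun h => by
    have := hfix1 hw1S hw1c h
    exact hdm (mul_left_cancel (mul_right_cancel this))
  have hne2 : pr q w₂ ≠ pr q w₁ := fun h => by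
    have := hfix2 hw1S hw1c h
    exact hdm (mul_left_cancel (mul_right_cancel this))
  have hne3 : pr q w₂ ≠ 1 := fun h => by
    have := hfix1 hw2S hw2c h
    exact hdm (mul_left_cancel (mul_right_cancel (mul_left_cancel (mul_right_cancel this))))
  have hne4 : pr q w₂ ≠ d := by
    intro h
    -- then the square of the rotation moves `d` inside its coset
    obtain ⟨m, hm⟩ := ho
    have hn2 : n ^ 2 ∈ normalizer ((S : Subgroup G) : Set G) := pow_mem hn 2
    have ho2 : Odd (orderOf (n ^ 2)) := Odd.of_dvd_nat ⟨m, hm⟩ (orderOf_pow_dvd 2)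
    have e2 : n ^ 2 * d * (n ^ 2)⁻¹ = w₂ := by rw [hw2, hw1, pow_two]; group
    have hp' : pr q (n ^ 2 * d * (n ^ 2)⁻¹) = d := by rw [e2, h]
    have hmS := mul_mem hdS hw2S
    have e : w₂ = d * (d * w₂) := by rw [← mul_assoc, hdd, one_mul]
    have hpp2 : pr q (d * w₂) = 1 := by rw [pr_mul q hdS hw2S, pr_left q hd, h, hdd]
    have hmc : ∀ u ∈ (S : Subgroup G), d * w₂ * u = u * (d * w₂) := fun u hu =>
      (Commute.mul_left (hdc u hu) (hw2c u hu)).eq
    have hf := hfix1 hmS hmc hpp2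
    have hf2 : n ^ 2 * (d * w₂) * (n ^ 2)⁻¹ = d * w₂ := by
      rw [show n ^ 2 * (d * w₂) * (n ^ 2)⁻¹ = n * (n * (d * w₂) * n⁻¹) * n⁻¹ by rw [pow_two]; group,
        hf, hf]
    have hsq : d * w₂ * (d * w₂) = 1 := by
      refine eq_of_pr hp (mul_mem hmS hmS) (one_mem _) ?_ (by rw [pr_mul q hmS hmS, hpp2, mul_one, pr_one])
      rw [pr_mul hp hmS hmS, pr_one]
      rcases central_comp hp d₁ hk₁ hmS hmc with h' | h' <;> rw [h']
      exacts [one_mul 1, d₁.z_sq]
    have hfx := fix_of_fix_twice ho2 (x := d) (by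
      rw [e2, e, ← conj_mul, e2, hf2, e, mul_assoc, ← e, hsq, mul_one])
    rw [e2, hw2, hw1] at hfx
    exact hdm (fix_of_fix_twice ⟨m, hm⟩ hfx)
  -- the third element
  have hfour : ∀ {a b c : G}, a ∈ D₂ → b ∈ D₂ → c ∈ D₂ → a ≠ 1 → b ≠ 1 → c ≠ 1 → a ≠ b →
      c ≠ a → c ≠ b → c = a * b := by
    intro a b c ha hb hc a1 b1 c1 ab ca cb
    have hcc := four_sq d₂ hk₂ d₂.c_mem
    have htt := d₂.t_sq
    have hcomm := four_comm d₂ hk₂ d₂.t_mem d₂.c_mem
    have e1 : d₂.c * (d₂.c * d₂.t) = d₂.t := by rw [← mul_assoc, hcc, one_mul]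
    have e2 : d₂.t * (d₂.c * d₂.t) = d₂.c := by rw [← mul_assoc, hcomm, mul_assoc, htt, mul_one]
    have e3 : d₂.c * d₂.t * d₂.c = d₂.t := by rw [mul_assoc, hcomm, e1]
    have e4 : d₂.c * d₂.t * d₂.t = d₂.c := by rw [mul_assoc, htt, mul_one]
    rcases d₂.four_elems hk₂ ha with rfl | rfl | rfl | rfl <;>
      rcases d₂.four_elems hk₂ hb with rfl | rfl | rfl | rfl <;>
      rcases d₂.four_elems hk₂ hc with rfl | rfl | rfl | rfl <;>
      first | exact absurd rfl a1 | exact absurd rfl b1 | exact absurd rfl c1 | exact absurd rfl ab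
            | exact absurd rfl ca | exact absurd rfl cb | rfl | exact e1.symm | exact e2.symm
            | exact e3.symm | exact e4.symm | exact hcomm.symm
  have h3 : pr q w₂ = d * pr q w₁ :=
    hfour hd (pr_mem q w₁) (pr_mem q w₂) hd1 hne0 hne3 (Ne.symm hne1) hne4 hne2
  -- choose the member of the coset of `d` in the invariant complement
  obtain ⟨u, huS, huc, hu2, hup, hun⟩ : ∃ u, u ∈ (S : Subgroup G) ∧
      (∀ y ∈ (S : Subgroup G), u * y = y * u) ∧ u * u = 1 ∧ pr q u = d ∧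
      n * (n * u * n⁻¹) * n⁻¹ = u * (n * u * n⁻¹) := by
    have hm := mul_mem hdS hw1S
    have hpp : pr q (w₂ * (d * w₁)) = 1 := by
      rw [pr_mul q hw2S hm, pr_mul q hdS hw1S, pr_left q hd, ← h3, four_sq d₂ hk₂ (pr_mem q w₂)]
    have hmc : ∀ y ∈ (S : Subgroup G), w₂ * (d * w₁) * y = y * (w₂ * (d * w₁)) := fun y hy =>
      (Commute.mul_left (hw2c y hy) (Commute.mul_left (hdc y hy) (hw1c y hy))).eq
    have hw1sq : w₁ * w₁ = 1 := by
      rw [hw1, conj_mul, hdd, mul_one, mul_inv_cancel]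
    have hw2sq : w₂ * w₂ = 1 := by
      rw [hw2, conj_mul, hw1sq, mul_one, mul_inv_cancel]
    rcases central_comp hp d₁ hk₁ (mul_mem hw2S hm) hmc with h' | h'
    · refine ⟨d, hdS, hdc, hdd, pr_left q hd, ?_⟩
      have e := pr_decomp hp (mul_mem hw2S hm)
      rw [h', hpp, one_mul] at e
      rw [← hw1, ← hw2, eq_inv_of_mul_eq_one_left e, mul_inv_rev,
        inv_eq_of_mul_eq_one_right hw1sq, inv_eq_of_mul_eq_one_right hdd]
      exact (hdc w₁ hw1S).symm
    · have hzS := hp.1 d₁.z_mem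
      have hzc := fun y (hy : y ∈ (S : Subgroup G)) => (z_central hp d₁ hy).symm
      refine ⟨d * d₁.z, mul_mem hdS hzS, fun y hy => (Commute.mul_left (hdc y hy) (hzc y hy)).eq,
        ?_, ?_, ?_⟩
      · rw [show d * d₁.z * (d * d₁.z) = d * (d₁.z * d) * d₁.z by group, hp.2.2.1 _ d₁.z_mem d hd,
          show d * (d * d₁.z) * d₁.z = d * d * (d₁.z * d₁.z) by group, hdd, d₁.z_sq, one_mul]
      · exact pr_mul_of q hd d₁.z_mem
      · have e := pr_decomp hp (mul_mem hw2S hm)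
        rw [h', hpp, mul_one] at e
        have eu : n * (d * d₁.z) * n⁻¹ = w₁ * d₁.z := by rw [← conj_mul, hz]
        have eu2 : n * (w₁ * d₁.z) * n⁻¹ = w₂ * d₁.z := by rw [← conj_mul, hz]
        rw [eu, eu2,
          show d * d₁.z * (w₁ * d₁.z) = d * (d₁.z * w₁) * d₁.z by group, hzc w₁ hw1S,
          show d * (w₁ * d₁.z) * d₁.z = d * w₁ * (d₁.z * d₁.z) by group, d₁.z_sq, mul_one, ← e,
          ← mul_assoc, hw2sq, one_mul]
  obtain ⟨hvS, hvc⟩ := hcen huS huc
  set v := n * u * n⁻¹ with hv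
  have hvv : v * v = 1 := by rw [hv, conj_mul, hu2, mul_one, mul_inv_cancel]
  have hvp : pr q v = pr q w₁ := by
    -- `u` and `d` differ by an element with trivial second component
    have hm := mul_mem hdS huS
    have hmc : ∀ y ∈ (S : Subgroup G), d * u * y = y * (d * u) := fun y hy =>
      (Commute.mul_left (hdc y hy) (huc y hy)).eq
    have h0 : pr q (d * u) = 1 := by rw [pr_mul q hdS huS, pr_left q hd, hup, hdd]
    have hf := hfix1 hm hmc h0
    rw [← conj_mul, ← hw1, ← hv] at hf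
    have := congrArg (pr q) hf
    rw [pr_mul q hw1S hvS, h0] at this
    rw [eq_inv_of_mul_eq_one_right this, inv_eq_of_mul_eq_one_right (four_sq d₂ hk₂ (pr_mem q w₁))]
  let U : Subgroup G :=
    { carrier := {y | y = 1 ∨ y = u ∨ y = v ∨ y = u * v}
      one_mem' := Or.inl rfl
      inv_mem' := by
        rintro y (rfl | rfl | rfl | rfl)
        · exact Or.inl inv_one
        · exact Or.inr (Or.inl (inv_eq_of_mul_eq_one_right hu2))
        · exact Or.inr (Or.inr (Or.inl (inv_eq_of_mul_eq_one_right hvv)))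
        · refine Or.inr (Or.inr (Or.inr ?_))
          rw [mul_inv_rev, inv_eq_of_mul_eq_one_right hu2, inv_eq_of_mul_eq_one_right hvv,
            huc v hvS]
      mul_mem' := by
        have c := huc v hvS
        have a1 : u * (u * v) = v := by rw [← mul_assoc, hu2, one_mul]
        have a2 : v * (u * v) = u := by rw [← mul_assoc, ← c, mul_assoc, hvv, mul_one]
        have a3 : u * v * u = v := by rw [mul_assoc, ← c, a1]
        have a4 : u * v * v = u := by rw [mul_assoc, hvv, mul_one]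
        have a5 : u * v * (u * v) = 1 := by rw [← mul_assoc, a3, hvv]
        rintro y y' (rfl | rfl | rfl | rfl) (rfl | rfl | rfl | rfl) <;>
          simp [hu2, hvv, a1, a2, a3, a4, a5, c.symm] }
  have huU : u ∈ U := Or.inr (Or.inl rfl)
  have hvU : v ∈ U := Or.inr (Or.inr (Or.inl rfl))
  have huvU : u * v ∈ U := Or.inr (Or.inr (Or.inr rfl))
  have hu1 : u ≠ 1 := fun h => hd1 (by rw [← hup, h, pr_one])
  have hv1 : v ≠ 1 := fun h => hu1 (conj_eq_one_iff.mp h)
  have huv1 : pr q (u * v) ≠ 1 := fun h => hne1 (by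
    rw [pr_mul q huS hvS, hup, hvp] at h
    rw [← inv_eq_of_mul_eq_one_right h, inv_eq_of_mul_eq_one_right hdd])
  have hUS : U ≤ (S : Subgroup G) := by
    rintro y (rfl | rfl | rfl | rfl)
    exacts [one_mem _, huS, hvS, mul_mem huS hvS]
  have hUinj : ∀ y ∈ U, pr q y = 1 → y = 1 := by
    rintro y (rfl | rfl | rfl | rfl) h
    · rfl
    · exact absurd (hup ▸ h) hd1
    · exact absurd (hvp ▸ h) hne0
    · exact absurd h huv1
  have hzU : d₁.z ∉ U := fun h => d₁.z_ne (hUinj _ h (pr_right (hp := q) d₁.z_mem))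
  have hUsurj : ∀ b ∈ D₂, ∃ y ∈ U, pr q y = b := by
    intro b hb
    by_cases b1 : b = 1
    · exact ⟨1, one_mem _, b1 ▸ pr_one q⟩
    by_cases bd : b = d
    · exact ⟨u, huU, bd ▸ hup⟩
    by_cases bw : b = pr q w₁
    · exact ⟨v, hvU, hvp.trans bw.symm⟩
    refine ⟨u * v, huvU, ?_⟩
    rw [pr_mul q huS hvS, hup, hvp]
    exact (hfour hd (pr_mem q w₁) hb hd1 hne0 b1 (Ne.symm hne1) bd bw).symm
  have hUzc : ∀ y ∈ U, pr hp y = 1 ∨ pr hp y = d₁.z := fun y hy => by
    refine central_comp hp d₁ hk₁ (hUS hy) fun s hs => ?_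
    rcases hy with rfl | rfl | rfl | rfl
    · simp
    · exact huc s hs
    · exact hvc s hs
    · exact (Commute.mul_left (huc s hs) (hvc s hs)).eq
  let g : G → G := fun b => if b ∈ U then 1 else d₁.z
  have hgb : ∀ b ∈ D₂, g b * b ∈ U ∧ (g b = 1 ∨ g b = d₁.z) := by
    intro b hb
    by_cases h : b ∈ U
    · simp [g, h]
    · refine ⟨?_, by simp [g, h]⟩
      obtain ⟨y, hy, e⟩ := hUsurj b hb
      have e' := pr_decomp hp (hUS hy)
      rw [e] at e'
      rcases hUzc y hy with h' | h' <;> rw [h'] at e'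
      · exact absurd (by rw [one_mul] at e'; exact e' ▸ hy) h
      · simpa [g, h] using e' ▸ hy
  have hgD : ∀ b ∈ D₂, g b ∈ D₁ ∧ ∀ y ∈ D₁, g b * y = y * g b := fun b hb => by
    rcases (hgb b hb).2 with h | h <;> rw [h]
    exacts [⟨one_mem _, fun y _ => by simp⟩, ⟨d₁.z_mem, fun y hy => (d₁.z_comm hy).symm⟩]
  obtain ⟨S₁, S₂, hp', -, hi, hm1, hm2⟩ := twist hp (fun _ => (1 : G)) g
    (fun a _ => ⟨one_mem _, fun y _ => by simp⟩) (fun a _ b _ => (one_mul 1).symm) hgD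
    (fun a ha b hb => by
      have h1 := (hgb _ (mul_mem ha hb)).1
      have h2 := mul_mem (hgb a ha).1 (hgb b hb).1
      rw [show g a * a * (g b * b) = g a * (a * g b) * b by group,
        ← hp.2.2.1 _ (hgD b hb).1 a ha, show g a * (g b * a) * b = g a * g b * (a * b) by group] at h2
      have h3 := U.mul_mem h1 (U.inv_mem h2)
      rw [show g (a * b) * (a * b) * (g a * g b * (a * b))⁻¹ = g (a * b) * (g a * g b)⁻¹ by group] at h3
      have hD : g (a * b) * (g a * g b)⁻¹ ∈ D₁ :=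
        mul_mem (hgD _ (mul_mem ha hb)).1 (inv_mem (mul_mem (hgD a ha).1 (hgD b hb).1))
      exact mul_inv_eq_one.mp (hUinj _ h3 (pr_right (hp := q) hD)))
    (fun _ _ => rfl) (fun _ _ => by
      show g 1 = 1
      simp [g, one_mem U])
  have hS1 : S₁ = D₁ := ext fun y => (hm1 y).trans
    ⟨fun ⟨a, ha, e⟩ => by rw [mul_one] at e; exact e ▸ ha, fun h => ⟨y, h, mul_one y⟩⟩
  have hS2 : S₂ = U := by
    ext y
    rw [hm2]
    refine ⟨fun ⟨b, hb, e⟩ => e ▸ (hgb b hb).1, fun hy => ⟨pr q y, pr_mem q y, ?_⟩⟩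
    have hb := hgb _ (pr_mem q y)
    refine mul_inv_eq_one.mp (hUinj _ (U.mul_mem hb.1 (U.inv_mem hy)) ?_)
    rw [pr_mul q (mul_mem (hp.1 (hgD _ (pr_mem q y)).1) (hp.2.1 (pr_mem q y))) (inv_mem (hUS hy)),
      hp.2.2.1 _ (hgD _ (pr_mem q y)).1 _ (pr_mem q y),
      pr_mul_of q (pr_mem q y) (hgD _ (pr_mem q y)).1, pr_inv q (hUS hy), mul_inv_cancel]
  subst hS1 hS2
  have hzp : ∀ y ∈ zpowers u, y = 1 ∨ y = u := by
    rintro _ ⟨i, rfl⟩
    show u ^ i = 1 ∨ u ^ i = u
    have hu2' : u ^ (2 : ℤ) = 1 := by rw [zpow_two]; exact hu2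
    rcases Int.even_or_odd i with ⟨l, rfl⟩ | ⟨l, rfl⟩
    · exact Or.inl (by rw [← two_mul, zpow_mul, hu2', one_zpow])
    · exact Or.inr (by rw [zpow_add, zpow_mul, hu2', one_zpow, one_mul, zpow_one])
  refine ⟨U, { c := u, t := v, k := 0, c_mem := huU, t_mem := hvU,
               ord := by rw [zero_add, pow_one]; exact orderOf_eq_prime (by rw [pow_two]; exact hu2) hu1,
               t_out := fun h => ?_, dec := fun y hy => ?_, refl := fun y hy _ => ?_ },
    hp', hi, rfl, hv.symm, hun⟩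
  · rcases hzp v h with e | e
    · exact hv1 e
    · exact huv1 (by rw [e, hu2, pr_one])
  · rcases hy with rfl | rfl | rfl | rfl
    · exact Or.inl (one_mem _)
    · exact Or.inl (mem_zpowers _)
    · exact Or.inr (by rw [hvv]; exact one_mem _)
    · exact Or.inr (by rw [mul_assoc, hvv, mul_one]; exact mem_zpowers _)
  · rcases hy with rfl | rfl | rfl | rfl
    · exact one_mul 1
    · exact hu2
    · exact hvv
    · calc u * v * (u * v) = u * (v * u) * v := by group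
        _ = u * u * (v * v) := by rw [← huc v hvS]; group
        _ = 1 := by rw [hu2, hvv, one_mul]

include d₂ in
/-- One factor of order at least eight. -/
theorem factors_of_big (h2 : ∀ N : Subgroup G, N.Normal → N.index ≠ 2) (hk₁ : 1 ≤ d₁.k) :
    Factors (S : Subgroup G) D₁ D₂ := by
  rcases Nat.eq_zero_or_pos d₂.k with hk₂ | hk₂
  swap
  · exact big_factors hp d₁ d₂ hk₁ hk₂ h2
  by_cases hfix : ∀ b ∈ normalizer ((S : Subgroup G) : Set G), Odd (orderOf b) →
      ∀ x ∈ (S : Subgroup G), (∀ y ∈ (S : Subgroup G), x * y = y * x) → b * x * b⁻¹ = x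
  · exact (four_contra hp d₁ d₂ hk₁ hk₂ h2 hfix).elim
  push Not at hfix
  obtain ⟨n, hn, ho, x, hx, hxc, hne⟩ := hfix
  obtain ⟨U, u, hp', ⟨i⟩, huk, hct, htct⟩ := exists_rot hp d₁ d₂ hk₁ hk₂ hn ho hx hxc hne
  obtain ⟨S₁, S₂, h, i₁, ⟨i₂⟩, hc₁, hc₂⟩ := rot_factors hp' d₁ u hk₁ huk hn ho hct htct h2
  exact ⟨S₁, S₂, h, i₁, ⟨i.trans i₂⟩, hc₁, hc₂⟩

include d₁ d₂ in
theorem exists_closed_factors (h2 : ∀ N : Subgroup G, N.Normal → N.index ≠ 2)
    (hS : ¬ IsMulCommutative (S : Subgroup G)) : Factors (S : Subgroup G) D₁ D₂ := by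
  set q := hp_symm hp
  rcases Nat.eq_zero_or_pos d₁.k with hk₁ | hk₁
  swap
  · exact factors_of_big hp d₁ d₂ h2 hk₁
  rcases Nat.eq_zero_or_pos d₂.k with hk₂ | hk₂
  · refine absurd ⟨⟨fun a b => Subtype.ext (comm_of_pr hp a.2 b.2
      (four_comm d₁ hk₁ (pr_mem hp _) (pr_mem hp _)) (four_comm d₂ hk₂ (pr_mem q _) (pr_mem q _)))⟩⟩ hS
  · obtain ⟨S₁, S₂, h, i₁, i₂, c₁, c₂⟩ := factors_of_big q d₂ d₁ h2 hk₂
    exact ⟨S₂, S₁, hp_symm h, i₂, i₁, c₂, c₁⟩

end Cfsg.Lib.TwoDihedral
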