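import Cfsg.Agent.TwoFusion.TwoDihedral.Basic
import Cfsg.Agent.Fusion.SmallElements

/-!
Automorphisms of odd order of products of two dihedral 2-groups.
-/

set_option autoImplicit false
set_option linter.style.haveILetI false
set_option linter.unusedSectionVars false
set_option linter.unusedVariables false

namespace Cfsg.Lib.TwoDihedral

open Subgroup

instance instFactTwo : Fact (Nat.Prime 2) := ⟨Nat.prime_two⟩

section Aut

variable {Q : Type*} [Group Q] (hQ : IsPGroup 2 Q)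

include hQ

theorem fix_of_diff {α : MulAut Q} (hα : Odd (orderOf α)) {x : Q}
    (h : α (x⁻¹ * α x) = x⁻¹ * α x) : α x = x :=
  Cfsg.Lib.Fusion.fix_of_fix_diff (p := 2) hQ (Nat.coprime_two_right.mpr hα) h

/-- An odd automorphism fixing the involutions of an invariant abelian subgroup fixes it. -/
theorem fix_abelian {α : MulAut Q} (hα : Odd (orderOf α)) (M : Subgroup Q)
    (hM : ∀ x ∈ M, α x ∈ M) (hab : ∀ x ∈ M, ∀ y ∈ M, x * y = y * x)
    (hinv : ∀ x ∈ M, x * x = 1 → α x = x) : ∀ x ∈ M, α x = x := by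
  intro x
  obtain ⟨k, hk⟩ := hQ x
  induction k generalizing x with
  | zero => intro _; rw [pow_zero, pow_one] at hk; rw [hk, map_one]
  | succ k ih =>
    intro hx
    have h2 : α (x * x) = x * x := by
      refine ih (x * x) ?_ (mul_mem hx hx)
      rw [← pow_two, ← pow_mul, ← pow_succ']; exact hk
    refine fix_of_diff hQ hα (hinv _ (mul_mem (inv_mem hx) (hM x hx)) ?_)
    have hc : Commute x⁻¹ (α x) := hab _ (inv_mem hx) _ (hM x hx)
    calc x⁻¹ * α x * (x⁻¹ * α x) = x⁻¹ * (α x * x⁻¹) * α x := by group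
      _ = x⁻¹ * (x⁻¹ * α x) * α x := by rw [← hc.eq]
      _ = (x * x)⁻¹ * (α x * α x) := by group
      _ = 1 := by rw [← map_mul, h2, inv_mul_cancel]

end Aut

theorem exists_pow_odd {M : Type*} [Group M] [Finite M] (α : M) :
    ∃ k, Odd (orderOf (α ^ 2 ^ k)) := by
  obtain ⟨k, m, hm, hk⟩ := Nat.exists_eq_pow_mul_and_not_dvd (orderOf_pos α).ne' 2 (by norm_num)
  refine ⟨k, ?_⟩
  have h : orderOf (α ^ 2 ^ k) = m := by
    rw [orderOf_pow' _ (pow_ne_zero _ two_ne_zero), hk, Nat.gcd_eq_right (dvd_mul_right _ m),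
      Nat.mul_div_cancel_left _ (pow_pos two_pos k)]
  rw [h, Nat.odd_iff, ← Nat.two_dvd_ne_zero]
  exact hm

theorem isPGroup_of_odd_trivial {M : Type*} [Group M] [Finite M] (K : Subgroup M)
    (h : ∀ α ∈ K, Odd (orderOf α) → α = 1) : IsPGroup 2 K := by
  intro x
  obtain ⟨k, hk⟩ := exists_pow_odd (x : M)
  exact ⟨k, Subtype.ext (by push_cast; exact h _ (pow_mem x.2 _) hk)⟩

variable {G : Type*} [Group G] {S D₁ D₂ : Subgroup G}
  (hp : Cfsg.IsInternalDirectProduct D₁ D₂ S) (d₁ : Dih D₁) (d₂ : Dih D₂)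

include hp

theorem z_central {x : G} (hx : x ∈ S) : x * d₁.z = d₁.z * x := by
  obtain ⟨a, ha, b, hb, rfl⟩ := exists_decomp hp hx
  rw [mul_assoc, ← hp.2.2.1 _ d₁.z_mem b hb, ← mul_assoc, d₁.z_comm ha, mul_assoc]

/-- In `P × R`, with `P` dihedral of order at least eight, an odd automorphism fixing the centre
fixes `P`. -/
theorem odd_fix_left (hS : IsPGroup 2 S) {Q : Subgroup G} (hQS : Q ≤ S)
    (h1 : ∀ x ∈ Q, pr hp x ∈ Q)
    (hr : d₁.Ref (Q ⊓ D₁)) (hb : d₁.Big (Q ⊓ D₁)) (hr2 : d₂.Ref (Q ⊓ D₂))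
    {α : MulAut Q} (hα : Odd (orderOf α))
    (hfix : ∀ x : Q, (∀ y : Q, x * y = y * x) → α x = x) :
    ∀ x : Q, (x : G) ∈ D₁ → α x = x := by
  set q := hp_symm hp
  have hQp : IsPGroup 2 Q := hS.of_injective _ (inclusion_injective hQS)
  have h2 : ∀ x ∈ Q, pr q x ∈ Q := fun x hx => by
    have := Q.mul_mem (Q.inv_mem (h1 x hx)) hx
    nth_rw 2 [pr_decomp hp (hQS hx)] at this
    rwa [inv_mul_cancel_left] at this
  have hP : ∀ x : Q, pr hp x ∈ Q ⊓ D₁ := fun x => ⟨h1 x x.2, pr_mem hp x⟩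
  have hR : ∀ x : Q, pr q x ∈ Q ⊓ D₂ := fun x => ⟨h2 x x.2, pr_mem q x⟩
  have hmS : ∀ x : Q, (x : G) ∈ S := fun x => hQS x.2
  -- elements with central-type components are central
  have hcent : ∀ x : Q, (∀ y ∈ Q ⊓ D₁, pr hp x * y = y * pr hp x) →
      (∀ y ∈ Q ⊓ D₂, pr q x * y = y * pr q x) → ∀ y : Q, x * y = y * x := fun x ha hb y =>
    Subtype.ext (comm_of_pr hp (hmS x) (hmS y) (ha _ (hP y)) (hb _ (hR y)))
  -- the subgroup generated by squares
  let A : Subgroup Q :=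
    { carrier := {x | pr hp x ∈ d₁.C ∧ pr q x ∈ d₂.C}
      one_mem' := by simp [pr_one]
      mul_mem' := fun {a b} ha hb => ⟨by
        rw [Subgroup.coe_mul, pr_mul hp (hmS a) (hmS b)]; exact mul_mem ha.1 hb.1, by
        rw [Subgroup.coe_mul, pr_mul q (hmS a) (hmS b)]; exact mul_mem ha.2 hb.2⟩
      inv_mem' := fun {a} ha => ⟨by
        rw [Subgroup.coe_inv, pr_inv hp (hmS a)]; exact d₁.C.inv_mem ha.1, by
        rw [Subgroup.coe_inv, pr_inv q (hmS a)]; exact d₂.C.inv_mem ha.2⟩ }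
  let K : Subgroup Q := closure {x | ∃ y : Q, x = y * y}
  have hKA : K ≤ A := (closure_le _).mpr fun x ⟨y, e⟩ => by
    subst e
    refine ⟨?_, ?_⟩
    · rw [Subgroup.coe_mul, pr_mul hp (hmS y) (hmS y)]; exact d₁.sq_mem (pr_mem hp _)
    · rw [Subgroup.coe_mul, pr_mul q (hmS y) (hmS y)]; exact d₂.sq_mem (pr_mem q _)
  have hKinv : ∀ x ∈ K, α x ∈ K := by
    intro x hx
    have h : K ≤ K.comap α.toMonoidHom := (closure_le _).mpr fun x ⟨y, e⟩ =>
      subset_closure ⟨α y, by show α x = _; rw [e, map_mul]⟩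
    exact h hx
  have hKfix : ∀ x ∈ K, α x = x := by
    refine fix_abelian hQp hα K hKinv (fun x hx y hy => Subtype.ext (comm_of_pr hp (hmS x) (hmS y)
      (d₁.comm_C (hKA hx).1 (hKA hy).1) (d₂.comm_C (hKA hx).2 (hKA hy).2))) fun x hx hxx => ?_
    have e1 : pr hp x * pr hp x = 1 := by
      rw [← pr_mul hp (hmS x) (hmS x), ← Subgroup.coe_mul, hxx]; exact pr_one hp
    have e2 : pr q x * pr q x = 1 := by
      rw [← pr_mul q (hmS x) (hmS x), ← Subgroup.coe_mul, hxx]; exact pr_one q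
    refine hfix x (hcent x (fun y hy => ?_) fun y hy => ?_)
    · rcases d₁.sq_eq_one_C (hKA hx).1 e1 with e | e <;> rw [e]
      · simp
      · exact (d₁.z_comm hy.2).symm
    · rcases d₂.sq_eq_one_C (hKA hx).2 e2 with e | e <;> rw [e]
      · simp
      · exact (d₂.z_comm hy.2).symm
  have hcomm : ∀ x y : Q, x * y * x⁻¹ * y⁻¹ ∈ K := fun x y => by
    have e : x * y * x⁻¹ * y⁻¹ = (x * x) * ((x⁻¹ * y) * (x⁻¹ * y)) * (y⁻¹ * y⁻¹) := by group
    rw [e]
    exact mul_mem (mul_mem (subset_closure ⟨x, rfl⟩) (subset_closure ⟨_, rfl⟩))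
      (subset_closure ⟨_, rfl⟩)
  -- second component central
  let N : Subgroup Q :=
    { carrier := {x | ∀ y ∈ Q ⊓ D₂, pr q x * y = y * pr q x}
      one_mem' := fun y _ => by simp [pr_one]
      mul_mem' := fun {a b} ha hb y hy => by
        rw [Subgroup.coe_mul, pr_mul q (hmS a) (hmS b)]
        exact (Commute.mul_left (ha y hy) (hb y hy)).eq
      inv_mem' := fun {a} ha y hy => by
        rw [Subgroup.coe_inv, pr_inv q (hmS a)]
        exact (Commute.inv_left (ha y hy)).eq }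
  have hNiff : ∀ x : Q, x ∈ N ↔ ∀ y : Q, ((x * y * x⁻¹ * y⁻¹ : Q) : G) ∈ D₁ := by
    intro x
    have key : ∀ y : Q, pr q ((x * y * x⁻¹ * y⁻¹ : Q) : G) =
        pr q x * pr q y * (pr q x)⁻¹ * (pr q y)⁻¹ := fun y => by
      simp only [Subgroup.coe_mul, Subgroup.coe_inv]
      rw [pr_mul q (mul_mem (mul_mem (hmS x) (hmS y)) (inv_mem (hmS x))) (inv_mem (hmS y)),
        pr_mul q (mul_mem (hmS x) (hmS y)) (inv_mem (hmS x)), pr_mul q (hmS x) (hmS y),
        pr_inv q (hmS x), pr_inv q (hmS y)]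
    constructor
    · intro hx y
      refine mem_left hp (hmS _) ?_
      rw [key, hx _ (hR y), mul_inv_cancel_right, mul_inv_cancel]
    · intro hx y hy
      have h := key ⟨y, hy.1⟩
      rw [pr_right (hp := q) (hx _), pr_left q hy.2] at h
      exact mul_inv_eq_iff_eq_mul.mp (mul_inv_eq_one.mp h.symm)
  have hN2 : ∀ x ∈ N, pr q x * pr q x = 1 := by
    intro x hx
    by_cases hbR : d₂.Big (Q ⊓ D₂)
    · rcases d₂.center_of_big inf_le_right hr2 hbR (pr_mem q x) hx with e | e <;> rw [e]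
      · simp
      · exact d₂.z_sq
    · exact d₂.sq_of_not_big inf_le_right hbR (hR x)
  have hNinv : ∀ x ∈ N, α x ∈ N := by
    intro x hx
    rw [hNiff] at hx ⊢
    intro y
    have e : α (x * α⁻¹ y * x⁻¹ * (α⁻¹ y)⁻¹) = α x * y * (α x)⁻¹ * y⁻¹ := by
      simp only [map_mul, map_inv, show α (α⁻¹ y) = y from α.apply_symm_apply y]
    rw [← e, hKfix _ (hcomm _ _)]
    exact hx _
  let M : Subgroup Q :=
    { carrier := {x | x ∈ N ∧ pr hp x ∈ d₁.C}
      one_mem' := ⟨one_mem _, by simp [pr_one]⟩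
      mul_mem' := fun {a b} ha hb => ⟨mul_mem ha.1 hb.1, by
        rw [Subgroup.coe_mul, pr_mul hp (hmS a) (hmS b)]; exact mul_mem ha.2 hb.2⟩
      inv_mem' := fun {a} ha => ⟨inv_mem ha.1, by
        rw [Subgroup.coe_inv, pr_inv hp (hmS a)]; exact d₁.C.inv_mem ha.2⟩ }
  have hsq : ∀ x ∈ N, x * x ≠ 1 → x ∈ M := fun x hx hxx => ⟨hx, by
    by_contra hC
    refine hxx (Subtype.ext (eq_of_pr hp (hmS _) (one_mem S) ?_ ?_))
    · rw [Subgroup.coe_mul, pr_mul hp (hmS x) (hmS x), d₁.refl _ (pr_mem hp _) hC, Subgroup.coe_one, pr_one]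
    · rw [Subgroup.coe_mul, pr_mul q (hmS x) (hmS x), hN2 x hx, Subgroup.coe_one, pr_one]⟩
  have hMinv : ∀ x ∈ M, α x ∈ M := by
    intro x hx
    have key : ∀ u ∈ N, u * u ≠ 1 → α u ∈ M := fun u hu huu => hsq _ (hNinv u hu) fun e =>
      huu (α.injective (by rw [map_mul, e, map_one]))
    by_cases hxx : x * x = 1
    · obtain ⟨a, ha, haC, haa⟩ := hb
      let a' : Q := ⟨a, ha.1⟩
      have haN : a' ∈ N := fun y _ => by simp [a', pr_right q ha.2]
      have haa' : a' * a' ≠ 1 := fun e => haa (congrArg Subtype.val e)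
      have hxa : x * a' * (x * a') ≠ 1 := by
        intro e
        refine haa ?_
        have e' := congrArg (fun u : Q => pr hp (u : G)) e
        simp only [Subgroup.coe_mul, Subgroup.coe_one, pr_one] at e'
        rw [pr_mul hp (mul_mem (hmS x) (hmS a')) (mul_mem (hmS x) (hmS a')),
          pr_mul hp (hmS x) (hmS a'), show pr hp (a' : G) = a from pr_left hp ha.2] at e'
        have exx : pr hp x * pr hp x = 1 := by
          rw [← pr_mul hp (hmS x) (hmS x), ← Subgroup.coe_mul, hxx]; exact pr_one hp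
        rw [show pr hp x * a * (pr hp x * a) = pr hp x * (a * pr hp x) * a by group,
          d₁.comm_C haC hx.2,
          show pr hp x * (pr hp x * a) * a = pr hp x * pr hp x * (a * a) by group, exx, one_mul] at e'
        exact e'
      have := M.mul_mem (key _ (N.mul_mem hx.1 haN) hxa) (M.inv_mem (key _ haN haa'))
      rwa [map_mul, mul_inv_cancel_right] at this
    · exact key x hx.1 hxx
  have hMfix : ∀ x ∈ M, α x = x := by
    refine fix_abelian hQp hα M hMinv (fun x hx y hy => Subtype.ext (comm_of_pr hp (hmS x) (hmS y)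
      (d₁.comm_C hx.2 hy.2) (hx.1 _ (hR y)))) fun x hx hxx => ?_
    have e1 : pr hp x * pr hp x = 1 := by
      rw [← pr_mul hp (hmS x) (hmS x), ← Subgroup.coe_mul, hxx]; exact pr_one hp
    refine hfix x (hcent x (fun y hy => ?_) hx.1)
    rcases d₁.sq_eq_one_C hx.2 e1 with e | e <;> rw [e]
    · simp
    · exact (d₁.z_comm hy.2).symm
  intro x hx
  have hxN : x ∈ N := fun y _ => by simp [pr_right q hx]
  by_cases hxM : x ∈ M
  · exact hMfix x hxM
  have haxM : α x ∉ M := fun h => hxM (by have := α.injective (hMfix _ h); rwa [this] at h)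
  refine fix_of_diff hQp hα (hMfix _ ⟨N.mul_mem (N.inv_mem hxN) (hNinv x hxN), ?_⟩)
  rw [Subgroup.coe_mul, Subgroup.coe_inv, pr_mul hp (inv_mem (hmS x)) (hmS _), pr_inv hp (hmS x)]
  have n1 : pr hp x ∉ d₁.C := fun h => hxM ⟨hxN, h⟩
  have n2 : pr hp (α x : Q) ∉ d₁.C := fun h => haxM ⟨hNinv x hxN, h⟩
  refine d₁.mul_refl (D₁.inv_mem (pr_mem hp _)) (fun h => n1 ?_) (pr_mem hp _) n2
  simpa using d₁.C.inv_mem h

/-- The same for `Q = P × R` as a whole. -/
theorem odd_fix (hS : IsPGroup 2 S) {Q : Subgroup G} (hQS : Q ≤ S)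
    (h1 : ∀ x ∈ Q, pr hp x ∈ Q)
    (hr : d₁.Ref (Q ⊓ D₁)) (hb : d₁.Big (Q ⊓ D₁)) (hr2 : d₂.Ref (Q ⊓ D₂))
    {α : MulAut Q} (hα : Odd (orderOf α))
    (hfix : ∀ x : Q, (∀ y : Q, x * y = y * x) → α x = x) : α = 1 := by
  set q := hp_symm hp
  have h2 : ∀ x ∈ Q, pr q x ∈ Q := fun x hx => by
    have := Q.mul_mem (Q.inv_mem (h1 x hx)) hx
    nth_rw 2 [pr_decomp hp (hQS hx)] at this
    rwa [inv_mul_cancel_left] at this
  have hl := odd_fix_left hp d₁ d₂ hS hQS h1 hr hb hr2 hα hfix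
  have hrt : ∀ x : Q, (x : G) ∈ D₂ → α x = x := by
    by_cases hbR : d₂.Big (Q ⊓ D₂)
    · exact odd_fix_left q d₂ d₁ hS hQS h2 hr2 hbR hr hα hfix
    · refine fun x hx => hfix x fun y => Subtype.ext (comm_of_pr hp (hQS x.2) (hQS y.2) ?_ ?_)
      · rw [pr_right hp hx, one_mul, mul_one]
      · rw [pr_left q hx]
        exact d₂.comm_of_not_big inf_le_right hbR ⟨x.2, hx⟩ ⟨h2 y y.2, pr_mem q y⟩
  refine MulEquiv.ext fun x => ?_
  have e : x = (⟨pr hp x, h1 x x.2⟩ : Q) * ⟨pr q x, h2 x x.2⟩ :=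
    Subtype.ext (pr_decomp hp (hQS x.2))
  show α x = x
  rw [e, map_mul, hl _ (pr_mem hp _), hrt _ (pr_mem q _)]

end Cfsg.Lib.TwoDihedral
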