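import Mathlib
import Cfsg.Prelude.Def_TwoFusion

/-!
Dihedral 2-groups as subgroups, and the projections of an internal direct product.
-/

set_option autoImplicit false
set_option linter.style.haveILetI false
set_option linter.unusedVariables false

namespace Cfsg.Lib.TwoDihedral

open Subgroup

variable {G : Type*} [Group G]

/-- `D` is dihedral of order `2^(k+2)`, with rotations generated by `c` and `t` a reflection. -/
structure Dih (D : Subgroup G) where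
  c : G
  t : G
  k : ℕ
  c_mem : c ∈ D
  t_mem : t ∈ D
  ord : orderOf c = 2 ^ (k + 1)
  t_out : t ∉ zpowers c
  dec : ∀ x ∈ D, x ∈ zpowers c ∨ x * t ∈ zpowers c
  refl : ∀ x ∈ D, x ∉ zpowers c → x * x = 1

theorem nonempty_dih {D : Subgroup G} [Finite D] (hD : IsPGroup 2 D) {m : ℕ} (hm : 2 ≤ m)
    (e : D ≃* DihedralGroup m) : Nonempty (Dih D) := by
  haveI : Fact (Nat.Prime 2) := ⟨Nat.prime_two⟩
  obtain ⟨n, hn⟩ := hD.exists_card_eq
  rw [Nat.card_congr e.toEquiv, DihedralGroup.nat_card] at hn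
  obtain ⟨n, rfl⟩ : ∃ i, n = i + 2 := by
    refine ⟨n - 2, ?_⟩
    rcases n with _ | _ | n
    · omega
    · omega
    · omega
  have hm' : m = 2 ^ (n + 1) := by
    have : 2 * m = 2 * 2 ^ (n + 1) := by rw [hn]; ring
    omega
  let f : DihedralGroup m →* G := D.subtype.comp e.symm.toMonoidHom
  have hf : Function.Injective f := D.subtype_injective.comp e.symm.injective
  have hr : ∀ i, DihedralGroup.r i ∈ zpowers (DihedralGroup.r (1 : ZMod m)) := fun i => by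
    haveI : NeZero m := ⟨by omega⟩
    exact ⟨(i.val : ℤ), by simp⟩
  have hC : ∀ a, f a ∈ zpowers (f (DihedralGroup.r 1)) ↔ ∃ i, a = DihedralGroup.r i := by
    intro a
    rw [← MonoidHom.map_zpowers, Subgroup.mem_map]
    constructor
    · rintro ⟨b, hb, hba⟩
      obtain ⟨j, rfl⟩ := hb
      refine ⟨(j : ZMod m), (hf hba).symm.trans ?_⟩
      show DihedralGroup.r 1 ^ j = _
      rw [DihedralGroup.r_one_zpow]
    · rintro ⟨i, rfl⟩
      exact ⟨_, hr i, rfl⟩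
  have hsurj : ∀ x ∈ D, ∃ a, f a = x := fun x hx => ⟨e ⟨x, hx⟩, by simp [f]⟩
  refine ⟨{ c := f (DihedralGroup.r 1), t := f (DihedralGroup.sr 0), k := n,
            c_mem := SetLike.coe_mem _, t_mem := SetLike.coe_mem _,
            ord := ?_, t_out := ?_, dec := ?_, refl := ?_ }⟩
  · rw [orderOf_injective f hf, DihedralGroup.orderOf_r_one, hm']
  · rw [hC]
    rintro ⟨i, hi⟩
    cases hi
  · intro x hx
    obtain ⟨a, rfl⟩ := hsurj x hx
    rcases a with i | i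
    · exact Or.inl ((hC _).mpr ⟨i, rfl⟩)
    · refine Or.inr ?_
      rw [← map_mul]
      exact (hC _).mpr ⟨_, DihedralGroup.sr_mul_sr i 0⟩
  · intro x hx hxC
    obtain ⟨a, rfl⟩ := hsurj x hx
    rcases a with i | i
    · exact absurd ((hC _).mpr ⟨i, rfl⟩) hxC
    · rw [← map_mul, DihedralGroup.sr_mul_self, map_one]

namespace Dih

variable {D : Subgroup G} (d : Dih D)

/-- The rotations. -/
def C : Subgroup G := zpowers d.c

/-- The central involution. -/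
def z : G := d.c ^ 2 ^ d.k

theorem C_le : d.C ≤ D := zpowers_le.mpr d.c_mem

theorem c_mem_C : d.c ∈ d.C := mem_zpowers _

theorem z_mem_C : d.z ∈ d.C := pow_mem (mem_zpowers _) _

theorem z_mem : d.z ∈ D := d.C_le d.z_mem_C

theorem z_sq : d.z * d.z = 1 := by
  rw [z, ← pow_add, ← two_mul, ← pow_succ', ← d.ord, pow_orderOf_eq_one]

theorem z_ne : d.z ≠ 1 := by
  intro h
  have h1 := orderOf_dvd_of_pow_eq_one (show d.c ^ 2 ^ d.k = 1 from h)
  rw [d.ord] at h1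
  have := Nat.le_of_dvd (pow_pos two_pos _) h1
  have h2 : 2 ^ d.k < 2 ^ (d.k + 1) := Nat.pow_lt_pow_right one_lt_two (Nat.lt_succ_self _)
  omega

theorem comm_C {x y : G} (hx : x ∈ d.C) (hy : y ∈ d.C) : x * y = y * x := by
  obtain ⟨i, rfl⟩ := hx
  obtain ⟨j, rfl⟩ := hy
  exact ((Commute.refl d.c).zpow_zpow i j).eq

theorem sq_eq_one_C {y : G} (hy : y ∈ d.C) (h : y * y = 1) : y = 1 ∨ y = d.z := by
  obtain ⟨i, rfl⟩ := hy
  change d.c ^ i * d.c ^ i = 1 at h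
  rw [← zpow_add] at h
  have h1 := orderOf_dvd_iff_zpow_eq_one.mpr h
  rw [d.ord, Nat.cast_pow, pow_succ] at h1
  have h1' : (((2 : ℕ) : ℤ)) ^ d.k * 2 ∣ i * 2 := by
    rw [mul_two i]
    exact_mod_cast h1
  have h2 : ((2 : ℤ) ^ d.k) ∣ i := by
    refine (Int.mul_dvd_mul_iff_right (by norm_num : (2 : ℤ) ≠ 0)).mp ?_
    exact_mod_cast h1'
  obtain ⟨j, rfl⟩ := h2
  have hz : d.c ^ ((2 : ℤ) ^ d.k) = d.z := by
    rw [z, show ((2 : ℤ) ^ d.k) = ((2 ^ d.k : ℕ) : ℤ) by push_cast; ring, zpow_natCast]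
  have hz2 : d.z ^ (2 : ℤ) = 1 := by rw [zpow_two]; exact d.z_sq
  show d.c ^ ((2 : ℤ) ^ d.k * j) = 1 ∨ d.c ^ ((2 : ℤ) ^ d.k * j) = d.z
  rw [zpow_mul, hz]
  rcases Int.even_or_odd j with ⟨l, rfl⟩ | ⟨l, rfl⟩
  · left; rw [← two_mul, zpow_mul, hz2, one_zpow]
  · right; rw [zpow_add, zpow_mul, hz2, one_zpow, one_mul, zpow_one]

theorem mul_refl {x y : G} (hx : x ∈ D) (hxC : x ∉ d.C) (hy : y ∈ D) (hyC : y ∉ d.C) :
    x * y ∈ d.C := by
  have h1 := (d.dec x hx).resolve_left hxC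
  have h2 := (d.dec y hy).resolve_left hyC
  have := d.C.mul_mem h1 (d.C.inv_mem h2)
  rw [mul_inv_rev, ← mul_assoc, mul_assoc x, mul_inv_cancel, mul_one] at this
  rwa [inv_eq_of_mul_eq_one_right (d.refl y hy hyC)] at this

theorem conj_inv {x y : G} (hx : x ∈ D) (hxC : x ∉ d.C) (hy : y ∈ d.C) : x * y * x⁻¹ = y⁻¹ := by
  have h1 : x * y ∉ d.C := fun h => hxC (by simpa using d.C.mul_mem h (d.C.inv_mem hy))
  have h2 := d.refl _ (D.mul_mem hx (d.C_le hy)) h1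
  have h3 := d.refl x hx hxC
  rw [inv_eq_of_mul_eq_one_right h3]
  refine eq_inv_of_mul_eq_one_left ?_
  rw [mul_assoc]
  exact h2

theorem z_comm {x : G} (hx : x ∈ D) : x * d.z = d.z * x := by
  by_cases hxC : x ∈ d.C
  · exact d.comm_C hxC d.z_mem_C
  · have := d.conj_inv hx hxC d.z_mem_C
    rw [inv_eq_of_mul_eq_one_right d.z_sq] at this
    exact mul_inv_eq_iff_eq_mul.mp this

theorem sq_mem {x : G} (hx : x ∈ D) : x * x ∈ d.C := by
  by_cases hxC : x ∈ d.C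
  · exact d.C.mul_mem hxC hxC
  · rw [d.refl x hx hxC]; exact one_mem _

theorem refl_cases {x : G} (hx : x ∈ D) (hxC : x ∉ d.C) :
    ∃ u ∈ d.C, x = u * d.t * u⁻¹ ∨ x = u * (d.c * d.t) * u⁻¹ := by
  obtain ⟨i, hi⟩ := (d.dec x hx).resolve_left hxC
  change d.c ^ i = x * d.t at hi
  have htt : d.t * d.t = 1 := d.refl _ d.t_mem d.t_out
  have hx' : x = d.c ^ i * d.t := by rw [hi, mul_assoc, htt, mul_one]
  have key : ∀ (j : ℤ), d.t * (d.c ^ j)⁻¹ = d.c ^ j * d.t := by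
    intro j
    have := d.conj_inv d.t_mem d.t_out (d.C.inv_mem (zpow_mem d.c_mem_C j))
    rw [inv_inv] at this
    exact mul_inv_eq_iff_eq_mul.mp this
  rcases Int.even_or_odd i with ⟨l, rfl⟩ | ⟨l, rfl⟩
  · refine ⟨d.c ^ l, zpow_mem d.c_mem_C _, Or.inl ?_⟩
    rw [hx', mul_assoc (d.c ^ l), key, ← mul_assoc, ← zpow_add]
  · refine ⟨d.c ^ l, zpow_mem d.c_mem_C _, Or.inr ?_⟩
    rw [hx', show d.c ^ l * (d.c * d.t) * (d.c ^ l)⁻¹ = d.c ^ l * d.c * (d.t * (d.c ^ l)⁻¹) by group,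
      key]
    simp only [← mul_assoc, ← zpow_add, ← zpow_add_one]
    congr 2
    ring

/-- A subgroup containing a rotation of order at least four. -/
def Big (P : Subgroup G) : Prop := ∃ a ∈ P, a ∈ d.C ∧ a * a ≠ 1

/-- A subgroup containing a reflection. -/
def Ref (P : Subgroup G) : Prop := ∃ r ∈ P, r ∉ d.C

theorem eq_C_or_ref {P : Subgroup G} (hP : P ≤ D)
    (hcen : ∀ x ∈ D, (∀ y ∈ P, x * y = y * x) → x ∈ P) : P = d.C ∨ d.Ref P := by
  by_cases h : P ≤ d.C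
  · exact Or.inl (le_antisymm h fun x hx => hcen x (d.C_le hx) fun y hy => d.comm_C hx (h hy))
  · exact Or.inr (SetLike.not_le_iff_exists.mp h)

theorem center_of_big {P : Subgroup G} (hP : P ≤ D) (hr : d.Ref P) (hb : d.Big P) {x : G}
    (hx : x ∈ D) (hc : ∀ y ∈ P, x * y = y * x) : x = 1 ∨ x = d.z := by
  obtain ⟨r, hr, hrC⟩ := hr
  obtain ⟨a, ha, haC, haa⟩ := hb
  by_cases hxC : x ∈ d.C
  · refine d.sq_eq_one_C hxC ?_
    have h1 := d.conj_inv (hP hr) hrC hxC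
    rw [← hc r hr, mul_inv_cancel_right] at h1
    exact mul_eq_one_iff_eq_inv.mpr h1
  · refine absurd ?_ haa
    have h1 := d.conj_inv hx hxC haC
    rw [hc a ha, mul_inv_cancel_right] at h1
    exact mul_eq_one_iff_eq_inv.mpr h1

theorem four_mem {P : Subgroup G} (hb : ¬ d.Big P) {a : G} (ha : a ∈ P) (haC : a ∈ d.C) :
    a = 1 ∨ a = d.z :=
  d.sq_eq_one_C haC (by by_contra h; exact hb ⟨a, ha, haC, h⟩)

theorem sq_of_not_big {P : Subgroup G} (hP : P ≤ D) (hb : ¬ d.Big P) {a : G} (ha : a ∈ P) :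
    a * a = 1 := by
  by_cases haC : a ∈ d.C
  · by_contra h
    exact hb ⟨a, ha, haC, h⟩
  · exact d.refl a (hP ha) haC

theorem comm_of_not_big {P : Subgroup G} (hP : P ≤ D) (hb : ¬ d.Big P) {x y : G} (hx : x ∈ P)
    (hy : y ∈ P) : x * y = y * x := by
  have hxx := d.sq_of_not_big hP hb hx
  have hyy := d.sq_of_not_big hP hb hy
  have hxy := d.sq_of_not_big hP hb (P.mul_mem hx hy)
  have := eq_inv_of_mul_eq_one_left hxy
  rw [mul_inv_rev, inv_eq_of_mul_eq_one_right hxx, inv_eq_of_mul_eq_one_right hyy] at this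
  exact this

end Dih

/-! ### Projections -/

section Proj

variable {S D₁ D₂ : Subgroup G} (hp : Cfsg.IsInternalDirectProduct D₁ D₂ S)

include hp

theorem hp_symm : Cfsg.IsInternalDirectProduct D₂ D₁ S :=
  ⟨hp.2.1, hp.1, fun a ha b hb => (hp.2.2.1 b hb a ha).symm, by rw [inf_comm]; exact hp.2.2.2.1,
    by rw [sup_comm]; exact hp.2.2.2.2⟩

theorem exists_decomp {x : G} (hx : x ∈ S) : ∃ a ∈ D₁, ∃ b ∈ D₂, x = a * b := by
  obtain ⟨h1, h2, hc, -, hsup⟩ := hp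
  rw [← hsup] at hx
  let M : Subgroup G :=
    { carrier := {x | ∃ a ∈ D₁, ∃ b ∈ D₂, x = a * b}
      one_mem' := ⟨1, one_mem _, 1, one_mem _, (mul_one 1).symm⟩
      mul_mem' := by
        rintro _ _ ⟨a, ha, b, hb, rfl⟩ ⟨a', ha', b', hb', rfl⟩
        refine ⟨a * a', mul_mem ha ha', b * b', mul_mem hb hb', ?_⟩
        rw [mul_assoc, ← mul_assoc b, ← hc a' ha' b hb]; group
      inv_mem' := by
        rintro _ ⟨a, ha, b, hb, rfl⟩
        exact ⟨a⁻¹, D₁.inv_mem ha, b⁻¹, D₂.inv_mem hb, by rw [hc a ha b hb, mul_inv_rev]⟩ }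
  have : D₁ ⊔ D₂ ≤ M := sup_le (fun a ha => ⟨a, ha, 1, one_mem _, (mul_one a).symm⟩)
    fun b hb => ⟨1, one_mem _, b, hb, (one_mul b).symm⟩
  exact this hx

open Classical in
/-- The first projection. -/
noncomputable def pr (x : G) : G :=
  if h : x ∈ S then (exists_decomp hp h).choose else 1

theorem pr_mem (x : G) : pr hp x ∈ D₁ := by
  unfold pr
  split
  · exact (Exists.choose_spec (exists_decomp hp (by assumption))).1
  · exact one_mem _

theorem uniq {a a' b b' : G} (ha : a ∈ D₁) (ha' : a' ∈ D₁) (hb : b ∈ D₂) (hb' : b' ∈ D₂)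
    (h : a * b = a' * b') : a = a' ∧ b = b' := by
  have h1 : a'⁻¹ * a = b' * b⁻¹ := by
    rw [eq_mul_inv_iff_mul_eq, mul_assoc, h, inv_mul_cancel_left]
  have : a'⁻¹ * a ∈ D₁ ⊓ D₂ :=
    ⟨D₁.mul_mem (D₁.inv_mem ha') ha, h1 ▸ D₂.mul_mem hb' (D₂.inv_mem hb)⟩
  rw [hp.2.2.2.1, mem_bot] at this
  obtain rfl := (inv_mul_eq_one.mp this)
  exact ⟨rfl, mul_left_cancel h⟩

theorem pr_mul_of {a b : G} (ha : a ∈ D₁) (hb : b ∈ D₂) : pr hp (a * b) = a := by
  have hx : a * b ∈ S := mul_mem (hp.1 ha) (hp.2.1 hb)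
  rw [pr, dif_pos hx]
  obtain ⟨h1, b', hb', e⟩ := (exists_decomp hp hx).choose_spec
  exact (uniq hp h1 ha hb' hb e.symm).1

theorem pr_left {a : G} (ha : a ∈ D₁) : pr hp a = a := by
  simpa using pr_mul_of hp ha (one_mem D₂)

theorem pr_right {b : G} (hb : b ∈ D₂) : pr hp b = 1 := by
  simpa using pr_mul_of hp (one_mem D₁) hb

theorem pr_decomp {x : G} (hx : x ∈ S) : x = pr hp x * pr (hp_symm hp) x := by
  obtain ⟨a, ha, b, hb, rfl⟩ := exists_decomp hp hx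
  rw [pr_mul_of hp ha hb]
  conv_rhs => rw [hp.2.2.1 a ha b hb, pr_mul_of (hp_symm hp) hb ha]

theorem pr_mul {x y : G} (hx : x ∈ S) (hy : y ∈ S) : pr hp (x * y) = pr hp x * pr hp y := by
  obtain ⟨a, ha, b, hb, rfl⟩ := exists_decomp hp hx
  obtain ⟨a', ha', b', hb', rfl⟩ := exists_decomp hp hy
  rw [pr_mul_of hp ha hb, pr_mul_of hp ha' hb',
    show a * b * (a' * b') = a * (b * a') * b' by group, ← hp.2.2.1 a' ha' b hb,
    show a * (a' * b) * b' = a * a' * (b * b') by group,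
    pr_mul_of hp (mul_mem ha ha') (mul_mem hb hb')]

theorem pr_one : pr hp 1 = 1 := pr_left hp (one_mem _)

theorem pr_inv {x : G} (hx : x ∈ S) : pr hp x⁻¹ = (pr hp x)⁻¹ := by
  refine eq_inv_of_mul_eq_one_left ?_
  rw [← pr_mul hp (inv_mem hx) hx, inv_mul_cancel, pr_one]

theorem eq_of_pr {x y : G} (hx : x ∈ S) (hy : y ∈ S) (h1 : pr hp x = pr hp y)
    (h2 : pr (hp_symm hp) x = pr (hp_symm hp) y) : x = y := by
  rw [pr_decomp hp hx, pr_decomp hp hy, h1, h2]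

theorem mem_left {x : G} (hx : x ∈ S) (h : pr (hp_symm hp) x = 1) : x ∈ D₁ := by
  rw [pr_decomp hp hx, h, mul_one]; exact pr_mem hp x

theorem comm_of_pr {x y : G} (hx : x ∈ S) (hy : y ∈ S)
    (h1 : pr hp x * pr hp y = pr hp y * pr hp x)
    (h2 : pr (hp_symm hp) x * pr (hp_symm hp) y = pr (hp_symm hp) y * pr (hp_symm hp) x) :
    x * y = y * x :=
  eq_of_pr hp (mul_mem hx hy) (mul_mem hy hx) (by rw [pr_mul hp hx hy, pr_mul hp hy hx, h1])
    (by rw [pr_mul _ hx hy, pr_mul _ hy hx, h2])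

end Proj

end Cfsg.Lib.TwoDihedral
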