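import Cfsg.Agent.TwoFusion.TwoDihedral.Tools

/-!
Two dihedral factors of order at least eight: twisted factors which are strongly closed.
-/

set_option autoImplicit false
set_option linter.style.haveILetI false
set_option linter.unusedSectionVars false
set_option linter.unusedVariables false

namespace Cfsg.Lib.TwoDihedral

open Subgroup Cfsg.Lib.Fusion

section Common

variable {G : Type*} [Group G] {S D₁ D₂ : Subgroup G}
  (hp : Cfsg.IsInternalDirectProduct D₁ D₂ S) (d₁ : Dih D₁)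

include hp

theorem central_comp (hk : 1 ≤ d₁.k) {x : G} (hx : x ∈ S) (hc : ∀ y ∈ S, x * y = y * x) :
    pr hp x = 1 ∨ pr hp x = d₁.z :=
  d₁.center_of_big le_rfl ⟨d₁.t, d₁.t_mem, d₁.t_out⟩ ⟨d₁.c, d₁.c_mem, d₁.c_mem_C, d₁.cc_ne hk⟩
    (pr_mem hp x) fun y hy => central_pr hp hx hc hy

theorem proj_mem {Q : Subgroup G} (hQS : Q ≤ S) (hD : D₂ ≤ Q) : ∀ x ∈ Q, pr hp x ∈ Q := by
  intro x hx
  have e : pr hp x = x * (pr (hp_symm hp) x)⁻¹ := by
    conv_rhs => arg 1; rw [pr_decomp hp (hQS hx)]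
    rw [mul_inv_cancel_right]
  rw [e]
  exact Q.mul_mem hx (Q.inv_mem (hD (pr_mem (hp_symm hp) x)))

theorem invol_comp {a b : G} (ha : a ∈ D₁) (hb : b ∈ D₂) (h : a * b * (a * b) = 1) :
    a * a = 1 ∧ b * b = 1 :=
  uniq hp (mul_mem ha ha) (one_mem _) (mul_mem hb hb) (one_mem _) (by
    rw [mul_one, ← h, show a * b * (a * b) = a * (b * a) * b by group, ← hp.2.2.1 a ha b hb]
    group)

omit hp in
theorem invol_cases {a : G} (ha : a ∈ D₁) (haa : a * a = 1) (ha1 : a ≠ 1) :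
    a = d₁.z ∨ a ∉ d₁.C := by
  by_cases haC : a ∈ d₁.C
  · exact Or.inl ((d₁.sq_eq_one_C haC haa).resolve_left ha1)
  · exact Or.inr haC

omit hp in
theorem mem_zpowers_z {y : G} (hy : y ∈ zpowers d₁.z) : y = 1 ∨ y = d₁.z := by
  have hC : zpowers d₁.z ≤ d₁.C := zpowers_le.mpr d₁.z_mem_C
  refine d₁.sq_eq_one_C (hC hy) ?_
  obtain ⟨i, rfl⟩ := hy
  show d₁.z ^ i * d₁.z ^ i = 1
  rw [← (Commute.refl d₁.z).mul_zpow, d₁.z_sq, one_zpow]

end Common

variable {G : Type*} [Group G] [Finite G] {S : Sylow 2 G} {D₁ D₂ : Subgroup G}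
  (hp : Cfsg.IsInternalDirectProduct D₁ D₂ (S : Subgroup G)) (d₁ : Dih D₁) (d₂ : Dih D₂)
  (hk₁ : 1 ≤ d₁.k) (hk₂ : 1 ≤ d₂.k)

include hp hk₁ hk₂

theorem center_mem {x : G} (hx : x ∈ (S : Subgroup G))
    (hc : ∀ y ∈ (S : Subgroup G), x * y = y * x) :
    ∃ a b : G, (a = 1 ∨ a = d₁.z) ∧ (b = 1 ∨ b = d₂.z) ∧ x = a * b :=
  ⟨pr hp x, pr (hp_symm hp) x, central_comp hp d₁ hk₁ hx hc,
    central_comp (hp_symm hp) d₂ hk₂ hx hc, pr_decomp hp hx⟩

/-- Elements of odd order normalizing `S` fix the central involutions of both factors. -/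
theorem big_fix_z {b : G} (hb : b ∈ normalizer ((S : Subgroup G) : Set G))
    (ho : Odd (orderOf b)) : b * d₁.z * b⁻¹ = d₁.z ∧ b * d₂.z * b⁻¹ = d₂.z := by
  set q := hp_symm hp
  have hz : ∀ y ∈ (S : Subgroup G), d₁.z * y = y * d₁.z := fun y hy => (z_central hp d₁ hy).symm
  have hz' : ∀ y ∈ (S : Subgroup G), d₂.z * y = y * d₂.z := fun y hy => (z_central q d₂ hy).symm
  let P : G → Prop := fun z => ∃ s ∈ (S : Subgroup G), s * s = z ∧ ∃ x ∈ (S : Subgroup G),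
    ∃ y ∈ (S : Subgroup G), s * x = x * s ∧ s * y = y * s ∧ x * y ≠ y * x
  have hP : ∀ {A B : Subgroup G}, Cfsg.IsInternalDirectProduct A B (S : Subgroup G) →
      ∀ (a : Dih A) (b' : Dih B), 1 ≤ a.k → 1 ≤ b'.k → P a.z := by
    intro A B w a b' ha hb'
    have hs : a.c ^ 2 ^ (a.k - 1) ∈ A := pow_mem a.c_mem _
    refine ⟨_, w.1 hs, ?_, b'.c, w.2.1 b'.c_mem, b'.t, w.2.1 b'.t_mem,
      w.2.2.1 _ hs _ b'.c_mem, w.2.2.1 _ hs _ b'.t_mem, fun e => b'.cc_ne hb' ?_⟩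
    · rw [← pow_add, ← two_mul, ← pow_succ', Nat.sub_add_cancel ha]; rfl
    · have h1 := b'.conj_inv b'.t_mem b'.t_out b'.c_mem_C
      rw [← e, mul_inv_cancel_right] at h1
      exact mul_eq_one_iff_eq_inv.mpr h1
  have hnP : ¬ P (d₁.z * d₂.z) := by
    rintro ⟨s, hs, hss, x, hx, y, hy, hsx, hsy, hne⟩
    apply hne
    have key : ∀ {A B : Subgroup G} (w : Cfsg.IsInternalDirectProduct A B (S : Subgroup G))
        (a : Dih A), pr w (d₁.z * d₂.z) = a.z → pr w x * pr w y = pr w y * pr w x := by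
      intro A B w a ha
      have hsq : pr w s * pr w s = a.z := by rw [← pr_mul w hs hs, hss, ha]
      have hsC : pr w s ∈ a.C := by
        by_contra h
        exact a.z_ne (hsq ▸ a.refl _ (pr_mem w s) h)
      have hin : ∀ u ∈ (S : Subgroup G), s * u = u * s → pr w u ∈ a.C := by
        intro u hu hsu
        by_contra h
        have h1 := a.conj_inv (pr_mem w u) h hsC
        have h2 := congrArg (pr w) hsu
        rw [pr_mul w hs hu, pr_mul w hu hs] at h2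
        rw [← h2, mul_inv_cancel_right] at h1
        exact a.z_ne (hsq ▸ mul_eq_one_iff_eq_inv.mpr h1)
      exact a.comm_C (hin x hx hsx) (hin y hy hsy)
    exact comm_of_pr hp hx hy (key hp d₁ (pr_mul_of hp d₁.z_mem d₂.z_mem))
      (key q d₂ (by rw [hp.2.2.1 _ d₁.z_mem _ d₂.z_mem]; exact pr_mul_of q d₂.z_mem d₁.z_mem))
  have himg : ∀ z, z ∈ (S : Subgroup G) → (∀ y ∈ (S : Subgroup G), z * y = y * z) → z ≠ 1 → P z →
      b * z * b⁻¹ = d₁.z ∨ b * z * b⁻¹ = d₂.z := by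
    intro z hzS hzc hz1 ⟨s, hs, hss, x, hx, y, hy, hsx, hsy, hne⟩
    have hbS := fun {u : G} (hu : u ∈ (S : Subgroup G)) => conj_mem_of_mem_normalizer hb hu
    have hbc : ∀ u ∈ (S : Subgroup G), b * z * b⁻¹ * u = u * (b * z * b⁻¹) := fun u hu => by
      have h1 := hzc _ (conj_mem_of_mem_normalizer (inv_mem hb) hu)
      rw [inv_inv] at h1
      calc b * z * b⁻¹ * u = b * (z * (b⁻¹ * u * b)) * b⁻¹ := by group
        _ = b * (b⁻¹ * u * b * z) * b⁻¹ := by rw [h1]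
        _ = _ := by group
    have hPb : P (b * z * b⁻¹) := ⟨_, hbS hs, by rw [← hss]; group, _, hbS hx, _, hbS hy,
      by rw [conj_mul, conj_mul, hsx], by rw [conj_mul, conj_mul, hsy],
      fun e => hne (mul_left_cancel (mul_right_cancel (by rw [← conj_mul, ← conj_mul, e] :
        b * (x * y) * b⁻¹ = b * (y * x) * b⁻¹)))⟩
    obtain ⟨a, c, ha, hc, e⟩ := center_mem hp d₁ d₂ hk₁ hk₂ (hbS hzS) hbc
    rcases ha with rfl | rfl <;> rcases hc with rfl | rfl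
    · exact absurd (conj_eq_one_iff.mp (e.trans (one_mul 1))) hz1
    · exact Or.inr (e.trans (one_mul _))
    · exact Or.inl (e.trans (mul_one _))
    · exact absurd (e ▸ hPb) hnP
  rcases himg _ (hp.1 d₁.z_mem) hz d₁.z_ne (hP hp d₁ d₂ hk₁ hk₂) with e1 | e1 <;>
    rcases himg _ (hp.2.1 d₂.z_mem) hz' d₂.z_ne (hP q d₂ d₁ hk₂ hk₁) with e2 | e2
  · exact absurd (mul_left_cancel (mul_right_cancel (e1.trans e2.symm))) fun e => d₁.z_ne
      (uniq hp d₁.z_mem (one_mem _) (one_mem _) d₂.z_mem (by rw [mul_one, one_mul, e])).1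
  · exact ⟨e1, e2⟩
  · have h := fix_of_fix_twice ho (x := d₁.z) (by rw [e1, e2])
    rw [e1] at h
    exact absurd (uniq hp d₁.z_mem (one_mem _) (one_mem _) d₂.z_mem (by rw [mul_one, one_mul, h])).1
      d₁.z_ne
  · exact absurd (mul_left_cancel (mul_right_cancel (e1.trans e2.symm))) fun e => d₁.z_ne
      (uniq hp d₁.z_mem (one_mem _) (one_mem _) d₂.z_mem (by rw [mul_one, one_mul, e])).1

theorem big_fix_center {b : G} (hb : b ∈ normalizer ((S : Subgroup G) : Set G))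
    (ho : Odd (orderOf b)) {x : G} (hx : x ∈ (S : Subgroup G))
    (hc : ∀ y ∈ (S : Subgroup G), x * y = y * x) : b * x * b⁻¹ = x := by
  obtain ⟨e1, e2⟩ := big_fix_z hp d₁ d₂ hk₁ hk₂ hb ho
  obtain ⟨a, c, ha, hc', rfl⟩ := center_mem hp d₁ d₂ hk₁ hk₂ hx hc
  rw [← conj_mul]
  rcases ha with rfl | rfl <;> rcases hc' with rfl | rfl <;> simp [e1, e2]

theorem big_eq_of_conj {x y : G} (hx : x ∈ (S : Subgroup G)) (hy : y ∈ (S : Subgroup G))
    (hxc : ∀ z ∈ (S : Subgroup G), x * z = z * x) (hyc : ∀ z ∈ (S : Subgroup G), y * z = z * y)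
    (h : IsConj x y) : x = y := by
  obtain ⟨b, hb, ho, e⟩ := central_conj S hx hy hxc hyc h
  rw [← e, big_fix_center hp d₁ d₂ hk₁ hk₂ hb ho hx hxc]

theorem big_classes :
    ¬ IsConj d₁.z d₂.z ∧ ¬ IsConj d₁.z (d₁.z * d₂.z) ∧ ¬ IsConj d₂.z (d₁.z * d₂.z) := by
  set q := hp_symm hp
  have hz : ∀ y ∈ (S : Subgroup G), d₁.z * y = y * d₁.z := fun y hy => (z_central hp d₁ hy).symm
  have hz' : ∀ y ∈ (S : Subgroup G), d₂.z * y = y * d₂.z := fun y hy => (z_central q d₂ hy).symm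
  have hzz : ∀ y ∈ (S : Subgroup G), d₁.z * d₂.z * y = y * (d₁.z * d₂.z) := fun y hy =>
    (Commute.mul_left (hz y hy) (hz' y hy)).eq
  have hm := mul_mem (hp.1 d₁.z_mem) (hp.2.1 d₂.z_mem)
  refine ⟨fun h => d₁.z_ne (uniq hp d₁.z_mem (one_mem _) (one_mem _) d₂.z_mem ?_).1,
    fun h => d₂.z_ne (uniq hp d₁.z_mem d₁.z_mem d₂.z_mem (one_mem _) ?_).2,
    fun h => d₁.z_ne (uniq hp d₁.z_mem (one_mem _) d₂.z_mem d₂.z_mem ?_).1⟩
  · rw [mul_one, one_mul]
    exact big_eq_of_conj hp d₁ d₂ hk₁ hk₂ (hp.1 d₁.z_mem) (hp.2.1 d₂.z_mem) hz hz' h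
  · rw [mul_one]
    exact (big_eq_of_conj hp d₁ d₂ hk₁ hk₂ (hp.1 d₁.z_mem) hm hz hzz h).symm
  · rw [one_mul]
    exact (big_eq_of_conj hp d₁ d₂ hk₁ hk₂ (hp.2.1 d₂.z_mem) hm hz' hzz h).symm

omit hp hk₁ hk₂ in
/-- A reflection `r` of the first factor receives, up to a central element of the second, the
central involution. -/
def Moves (r : G) : Prop :=
  ∃ n e : G, (e = 1 ∨ e = d₂.z) ∧ n * d₁.z * n⁻¹ = r * e ∧ n * d₂.z * n⁻¹ = d₂.z ∧
    ∀ b ∈ D₂, b ∉ d₂.C → ∃ u ∈ D₂, ∃ v : G, (v = 1 ∨ v = d₁.z ∨ v = r ∨ v = r * d₁.z) ∧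
      n * b * n⁻¹ = u * b * u⁻¹ * v

theorem moves_conj {r u : G} (hu : u ∈ D₁) (h : Moves d₁ d₂ r) :
    Moves d₁ d₂ (u * r * u⁻¹) := by
  obtain ⟨n, e, he, h1, h2, h3⟩ := h
  have hue : u * e = e * u := hp.2.2.1 u hu e (by rcases he with rfl | rfl; exacts [one_mem _, d₂.z_mem])
  have huz : u * d₁.z = d₁.z * u := d₁.z_comm hu
  refine ⟨u * n, e, he, ?_, ?_, fun b hb hbC => ?_⟩
  · rw [show u * n * d₁.z * (u * n)⁻¹ = u * (n * d₁.z * n⁻¹) * u⁻¹ by group, h1,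
      show u * r * u⁻¹ * e = u * r * (e * u)⁻¹ * e * e by group, ← hue]
    rcases he with rfl | rfl
    · group
    · rw [mul_assoc _ d₂.z d₂.z, d₂.z_sq, mul_one, hue]
      rw [show u * (r * d₂.z) * u⁻¹ = u * r * (d₂.z * u⁻¹) by group]
      congr 1
      rw [mul_inv_rev, inv_eq_of_mul_eq_one_right d₂.z_sq]
      exact (hp.2.2.1 _ (inv_mem hu) _ d₂.z_mem).symm
  · rw [show u * n * d₂.z * (u * n)⁻¹ = u * (n * d₂.z * n⁻¹) * u⁻¹ by group, h2,
      hp.2.2.1 u hu _ d₂.z_mem, mul_inv_cancel_right]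
  · obtain ⟨u', hu', v, hv, e'⟩ := h3 b hb hbC
    refine ⟨u', hu', u * v * u⁻¹, ?_, ?_⟩
    · rcases hv with rfl | rfl | rfl | rfl
      · exact Or.inl (by group)
      · exact Or.inr (Or.inl (by rw [huz, mul_inv_cancel_right]))
      · exact Or.inr (Or.inr (Or.inl rfl))
      · refine Or.inr (Or.inr (Or.inr ?_))
        rw [show u * (r * d₁.z) * u⁻¹ = u * r * u⁻¹ * (u * d₁.z * u⁻¹) by group, huz,
          mul_inv_cancel_right]
    · have hc : u * (u' * b * u'⁻¹) = u' * b * u'⁻¹ * u :=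
        hp.2.2.1 u hu _ (mul_mem (mul_mem hu' hb) (inv_mem hu'))
      rw [show u * n * b * (u * n)⁻¹ = u * (n * b * n⁻¹) * u⁻¹ by group, e', ← mul_assoc u, hc]
      group

/-- A special site `V × D₂` either gives `Moves` for the reflections of `V`, or its elements of odd
order centralize it. -/
theorem left_site {Q : Subgroup G} (hQS : Q ≤ (S : Subgroup G))
    (hC : Cfsg.FusionSystem.centralizerIn (S : Subgroup G) Q ≤ Q) (hr : d₁.Ref (Q ⊓ D₁))
    (hb : ¬ d₁.Big (Q ⊓ D₁)) (hD : D₂ ≤ Q) {r : G} (hrQ : r ∈ Q ⊓ D₁) (hrC : r ∉ d₁.C)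
    (hno : ¬ Moves d₁ d₂ r) {n : G} (hn : n ∈ normalizer (Q : Set G)) (ho : Odd (orderOf n)) :
    ∀ x ∈ Q, n * x * n⁻¹ = x := by
  set q := hp_symm hp
  have h1 := proj_mem hp hQS hD
  have hconj : ∀ {x : G}, x ∈ Q → n * x * n⁻¹ ∈ Q := fun hx => conj_mem_of_mem_normalizer hn hx
  have hV : ∀ x ∈ Q, pr hp x = 1 ∨ pr hp x = d₁.z ∨ pr hp x = r ∨ pr hp x = r * d₁.z := fun x hx =>
    d₁.four_cases inf_le_right hb hrQ hrC ⟨h1 x hx, pr_mem hp x⟩
  have hB : ∀ x ∈ Q, (∀ y ∈ Q, x * y = y * x) → pr q x = 1 ∨ pr q x = d₂.z := by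
    intro x hx hc
    refine d₂.center_of_big le_rfl ⟨d₂.t, d₂.t_mem, d₂.t_out⟩
      ⟨d₂.c, d₂.c_mem, d₂.c_mem_C, d₂.cc_ne hk₂⟩ (pr_mem q x) fun y hy => ?_
    have := congrArg (pr q) (hc y (hD hy))
    rwa [pr_mul q (hQS hx) (hp.2.1 hy), pr_mul q (hp.2.1 hy) (hQS hx), pr_left q hy] at this
  have hz1Q : d₁.z ∈ Q := hC ⟨hp.1 d₁.z_mem, mem_centralizer_iff.mpr fun y hy =>
    z_central hp d₁ (hQS hy)⟩
  have hz2 : n * d₂.z * n⁻¹ = d₂.z := by
    set s := d₂.c ^ 2 ^ (d₂.k - 1)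
    have hss : s * s = d₂.z := by
      rw [← pow_add, ← two_mul, ← pow_succ', Nat.sub_add_cancel hk₂]; rfl
    have hsQ : n * s * n⁻¹ ∈ Q := hconj (hD (pow_mem d₂.c_mem _))
    set y := n * s * n⁻¹ with hy
    have hyy : y * y = n * d₂.z * n⁻¹ := by rw [hy, ← hss]; group
    rw [← hyy]
    have hyS := hQS hsQ
    have e1 : pr hp (y * y) = 1 := by
      rw [pr_mul hp hyS hyS]
      exact d₁.sq_of_not_big inf_le_right hb ⟨h1 y hsQ, pr_mem hp y⟩
    have e2 : pr q (y * y) ∈ d₂.C := by rw [pr_mul q hyS hyS]; exact d₂.sq_mem (pr_mem q y)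
    have e3 : pr q (y * y) * pr q (y * y) = 1 := by
      rw [← pr_mul q (mul_mem hyS hyS) (mul_mem hyS hyS), hyy, conj_mul, d₂.z_sq, mul_one,
        mul_inv_cancel, pr_one]
    have e4 : y * y = pr q (y * y) := by
      conv_lhs => rw [pr_decomp hp (mul_mem hyS hyS), e1, one_mul]
    rcases d₂.sq_eq_one_C e2 e3 with h | h <;> rw [h] at e4
    · exact absurd (conj_eq_one_iff.mp (hyy.symm.trans e4)) d₂.z_ne
    · exact e4
  have hz1c : ∀ y ∈ Q, n * d₁.z * n⁻¹ * y = y * (n * d₁.z * n⁻¹) := fun y hy => by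
    have h := z_central hp d₁ (hQS (conj_mem_of_mem_normalizer (inv_mem hn) hy))
    rw [inv_inv] at h
    calc n * d₁.z * n⁻¹ * y = n * (d₁.z * (n⁻¹ * y * n)) * n⁻¹ := by group
      _ = n * (n⁻¹ * y * n * d₁.z) * n⁻¹ := by rw [← h]
      _ = _ := by group
  obtain ⟨k1, k2, k3⟩ := big_classes hp d₁ d₂ hk₁ hk₂
  have hz1 : n * d₁.z * n⁻¹ = d₁.z := by
    have hyQ := hconj hz1Q
    have e := pr_decomp hp (hQS hyQ)
    have hbz := hB _ hyQ hz1c
    have hav := hV _ hyQ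
    by_cases haC : pr hp (n * d₁.z * n⁻¹) ∈ d₁.C
    · rcases d₁.four_mem hb ⟨h1 _ hyQ, pr_mem hp _⟩ haC with ha | ha <;>
        rcases hbz with hb' | hb' <;> rw [ha, hb'] at e
      · exact absurd (conj_eq_one_iff.mp (e.trans (one_mul 1))) d₁.z_ne
      · exact absurd (isConj_map n (e.trans (one_mul _))) k1
      · exact e.trans (mul_one _)
      · exact absurd (isConj_map n e) k2
    · exfalso
      apply hno
      set a := pr hp (n * d₁.z * n⁻¹) with ha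
      have hmov : Moves d₁ d₂ a := by
        refine ⟨n, _, hbz, e, hz2, fun b hbD hbC => ?_⟩
        have hbQ := hD hbD
        have hnb := hconj hbQ
        have hpar : ∀ j, b ∈ d₂.half j ↔ pr q (n * b * n⁻¹) ∈ d₂.half j := fun j => by
          have := parity q d₂ hQS hD (fun x hx => d₁.sq_of_not_big inf_le_right hb
            ⟨h1 x hx, pr_mem hp x⟩) hk₂ hn ho j b hbQ
          rwa [pr_left q hbD] at this
        have hout : pr q (n * b * n⁻¹) ∉ d₂.C := by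
          intro h
          have e0 := (d₂.half_pow 0 h).trans (d₂.half_pow 1 h).symm
          rw [← hpar 0, ← hpar 1, d₂.half_one_iff hbD hbC] at e0
          tauto
        obtain ⟨u, hu, eu⟩ := d₂.refl_class hbD hbC (pr_mem q _) hout (hpar 0)
        refine ⟨u, hu, pr hp (n * b * n⁻¹),
          d₁.four_cases inf_le_right hb ⟨h1 _ hyQ, pr_mem hp _⟩ haC ⟨h1 _ hnb, pr_mem hp _⟩, ?_⟩
        rw [← eu, ← hp.2.2.1 _ (pr_mem hp _) _ (pr_mem q _)]
        exact pr_decomp hp (hQS hnb)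
      rcases hav with h | h | h | h
      · exact absurd (h ▸ one_mem _) haC
      · exact absurd (h ▸ d₁.z_mem_C) haC
      · rwa [h] at hmov
      · obtain ⟨u, hu, eu⟩ := d₁.conj_z hk₁ hrQ.2 hrC
        have := moves_conj hp d₁ d₂ hk₁ hk₂ (inv_mem hu) hmov
        rwa [h, ← eu, show u⁻¹ * (u * r * u⁻¹) * u⁻¹⁻¹ = r by group] at this
  -- the centre of `Q` is fixed
  have hfixz : ∀ {a b : G}, (a = 1 ∨ a = d₁.z) → (b = 1 ∨ b = d₂.z) →
      n * (a * b) * n⁻¹ = a * b := by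
    intro a b ha hb'
    rw [← conj_mul]
    rcases ha with rfl | rfl <;> rcases hb' with rfl | rfl <;> simp [hz1, hz2]
  have hrc : ∀ y ∈ Q, r * y = y * r := fun y hy => comm_of_pr hp (hp.1 hrQ.2) (hQS hy)
    (by rw [pr_left hp hrQ.2]; exact d₁.comm_of_not_big inf_le_right hb hrQ ⟨h1 y hy, pr_mem hp y⟩)
    (by rw [pr_right (hp := q) hrQ.2, one_mul, mul_one])
  have hrr : n * r * n⁻¹ = r := by
    refine fix_of_fix_twice ho ?_
    have hyQ := hconj hrQ.1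
    have e := pr_decomp hp (hQS hyQ)
    have hbz := hB _ hyQ fun y hy => by
      have h := hrc _ (conj_mem_of_mem_normalizer (inv_mem hn) hy)
      rw [inv_inv] at h
      calc n * r * n⁻¹ * y = n * (r * (n⁻¹ * y * n)) * n⁻¹ := by group
        _ = n * (n⁻¹ * y * n * r) * n⁻¹ := by rw [h]
        _ = _ := by group
    have hbad : ∀ a, (a = 1 ∨ a = d₁.z) → pr hp (n * r * n⁻¹) = a → False := by
      intro a ha he
      rw [he] at e
      have h2 := hfixz ha hbz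
      rw [← e] at h2
      have h3 : n * r * n⁻¹ = r := mul_left_cancel (mul_right_cancel h2)
      rw [h3, pr_left hp hrQ.2] at he
      rcases ha with rfl | rfl
      · exact hrC (he ▸ one_mem _)
      · exact hrC (he ▸ d₁.z_mem_C)
    have hw : ∀ w, n * r * n⁻¹ = r * w → n * w * n⁻¹ = w → w * w = 1 →
        n * (n * r * n⁻¹) * n⁻¹ = r := by
      intro w h1' h2' h3'
      rw [h1', ← conj_mul, h1', h2', mul_assoc, h3', mul_one]
    set b := pr q (n * r * n⁻¹)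
    have hbb : b * b = 1 := by
      rcases hbz with h | h <;> rw [h]
      · exact one_mul 1
      · exact d₂.z_sq
    have hbd : b ∈ D₂ := pr_mem q _
    rcases hV _ hyQ with h | h | h | h
    · exact (hbad _ (Or.inl rfl) h).elim
    · exact (hbad _ (Or.inr rfl) h).elim
    · rw [h] at e
      exact hw b e (by have := hfixz (Or.inl rfl) hbz; rwa [one_mul] at this) hbb
    · rw [h, mul_assoc r] at e
      refine hw _ e (hfixz (Or.inr rfl) hbz) ?_
      rw [show d₁.z * b * (d₁.z * b) = d₁.z * (b * d₁.z) * b by group, ← hp.2.2.1 _ d₁.z_mem _ hbd,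
        show d₁.z * (d₁.z * b) * b = d₁.z * d₁.z * (b * b) by group, d₁.z_sq, hbb, one_mul]
  refine odd_centralizes q d₂ d₁ hQS (fun x _ => hD (pr_mem q x))
    ⟨d₂.t, ⟨hD d₂.t_mem, d₂.t_mem⟩, d₂.t_out⟩
    ⟨d₂.c, ⟨hD d₂.c_mem, d₂.c_mem⟩, d₂.c_mem_C, d₂.cc_ne hk₂⟩ hr hn ho fun x hx hc => ?_
  have e := pr_decomp hp (hQS hx)
  have hbz := hB x hx hc
  rcases hV x hx with h | h | h | h <;> rw [h] at e <;> rw [e]
  · exact hfixz (Or.inl rfl) hbz
  · exact hfixz (Or.inr rfl) hbz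
  · have := hfixz (Or.inl rfl) hbz
    rw [one_mul] at this
    rw [← conj_mul, hrr, this]
  · rw [mul_assoc r, ← conj_mul, hrr, hfixz (Or.inr rfl) hbz]

end Cfsg.Lib.TwoDihedral
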