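import Cfsg.Agent.TwoFusion.TwoDihedral.CaseBig

/-!
Two dihedral factors of order at least eight: every class of reflections moves to the centre, and
the twisted factors are strongly closed.
-/

set_option autoImplicit false
set_option linter.style.haveILetI false
set_option linter.unusedSectionVars false
set_option linter.unusedVariables false

namespace Cfsg.Lib.TwoDihedral

open Subgroup Cfsg.Lib.Fusion

theorem Dih.exists_other_half {G : Type*} [Group G] {D : Subgroup G} (d : Dih D) {r : G}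
    (hr : r ∈ D) (hrC : r ∉ d.C) :
    ∃ j, r ∉ d.half j ∧ ∀ a ∈ D, a ∉ d.C → a ∉ d.half j → ∃ u ∈ D, a = u * r * u⁻¹ := by
  by_cases h : r ∈ d.half 0
  · refine ⟨1, fun h' => (d.half_one_iff hr hrC).mp h' h, fun a ha haC ha1 =>
      d.refl_class hr hrC ha haC (iff_of_true h ?_)⟩
    by_contra h'
    exact ha1 ((d.half_one_iff ha haC).mpr h')
  · exact ⟨0, h, fun a ha haC ha0 => d.refl_class hr hrC ha haC (iff_of_false h ha0)⟩

variable {G : Type*} [Group G] [Finite G] {S : Sylow 2 G} {D₁ D₂ : Subgroup G}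
  (hp : Cfsg.IsInternalDirectProduct D₁ D₂ (S : Subgroup G)) (d₁ : Dih D₁) (d₂ : Dih D₂)
  (hk₁ : 1 ≤ d₁.k) (hk₂ : 1 ≤ d₂.k)

include hp hk₁ hk₂

theorem moves_refl (h2 : ∀ N : Subgroup G, N.Normal → N.index ≠ 2) {r : G} (hr : r ∈ D₁)
    (hrC : r ∉ d₁.C) : Moves d₁ d₂ r := by
  by_contra hno
  set q := hp_symm hp
  obtain ⟨j, hrj, hother⟩ := d₁.exists_other_half hr hrC
  let K : Subgroup G :=
    { carrier := {x | x ∈ (S : Subgroup G) ∧ pr hp x ∈ d₁.half j}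
      one_mem' := ⟨one_mem _, by rw [pr_one]; exact one_mem _⟩
      mul_mem' := fun {a b} ha hb =>
        ⟨mul_mem ha.1 hb.1, by rw [pr_mul hp ha.1 hb.1]; exact mul_mem ha.2 hb.2⟩
      inv_mem' := fun {a} ha =>
        ⟨inv_mem ha.1, by rw [pr_inv hp ha.1]; exact (d₁.half j).inv_mem ha.2⟩ }
  refine contra_index_two hp h2 K (fun x hx => hx.1) (g := r) (hp.1 hr)
    (fun h => hrj (pr_left hp hr ▸ h.2)) (fun b hb => ?_) fun hK => ?_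
  · have h := d₁.mul_half j (pr_mem hp b) hr
    constructor
    · rintro ⟨-, h'⟩ ⟨-, h''⟩
      rw [pr_mul hp hb (hp.1 hr), pr_left hp hr] at h'
      exact hrj ((h.mp h').mp h'')
    · intro hn
      refine ⟨mul_mem hb (hp.1 hr), ?_⟩
      rw [pr_mul hp hb (hp.1 hr), pr_left hp hr]
      exact h.mpr (iff_of_false (fun h' => hn ⟨hb, h'⟩) hrj)
  refine memInv hp d₁ d₂ K hK ?_ ?_
  · refine resp_all S (fullyNormalized_top S) hK fun n hn ho x hx => ?_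
    rw [odd_centralizes hp d₁ d₂ le_rfl (fun y _ => hp.1 (pr_mem hp y))
      ⟨d₁.t, ⟨hp.1 d₁.t_mem, d₁.t_mem⟩, d₁.t_out⟩
      ⟨d₁.c, ⟨hp.1 d₁.c_mem, d₁.c_mem⟩, d₁.c_mem_C, d₁.cc_ne hk₁⟩
      ⟨d₂.t, ⟨hp.2.1 d₂.t_mem, d₂.t_mem⟩, d₂.t_out⟩ hn ho
      (fun y hy hc => big_fix_center hp d₁ d₂ hk₁ hk₂ hn ho hy hc) x hx]
  rintro Q hQS hC hQn (⟨hrQ, hb, hnD, hD⟩ | ⟨hrQ, hb, hnD, hD⟩)
  · obtain ⟨r', hr'Q, hr'C⟩ := id hrQ
    by_cases hr'j : r' ∈ d₁.half j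
    · intro n hn x hx _
      have hy := conj_mem_of_mem_normalizer hn hx
      refine ⟨hQS hy, ?_⟩
      rcases d₁.four_cases inf_le_right hb hr'Q hr'C
        ⟨proj_mem hp hQS hD _ hy, pr_mem hp _⟩ with h | h | h | h <;> rw [h]
      · exact one_mem _
      · exact d₁.z_half hk₁ j
      · exact hr'j
      · exact mul_mem hr'j (d₁.z_half hk₁ j)
    · refine resp_all S hQn hK fun n hn ho x hx => ?_
      rw [left_site hp d₁ d₂ hk₁ hk₂ hQS hC hrQ hb hD hr'Q hr'C (fun h => hno ?_) hn ho x hx]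
      obtain ⟨u, hu, rfl⟩ := hother r' hr'Q.2 hr'C hr'j
      have := moves_conj hp d₁ d₂ hk₁ hk₂ (inv_mem hu) h
      rwa [show u⁻¹ * (u * r * u⁻¹) * u⁻¹⁻¹ = r by group] at this
  · refine resp_all S hQn hK fun n hn ho x hx => ?_
    have h := parity hp d₁ hQS hD (fun y hy => d₂.sq_of_not_big inf_le_right hb
      ⟨proj_mem q hQS hD y hy, pr_mem q y⟩) hk₁ hn ho j x hx
    exact ⟨fun hh => ⟨hQS (conj_mem_of_mem_normalizer hn hx), h.mp hh.2⟩,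
      fun hh => ⟨hQS hx, h.mpr hh.2⟩⟩

omit hk₁ hk₂ in
theorem conj_pair (hk₁ : 1 ≤ d₁.k) (hk₂ : 1 ≤ d₂.k) {a b g f : G} (ha : a ∈ D₁) (haC : a ∉ d₁.C)
    (hb : b ∈ D₂) (hbC : b ∉ d₂.C) (hg : g = 1 ∨ g = d₁.z) (hf : f = 1 ∨ f = d₂.z) :
    IsConj (a * b) (a * g * (b * f)) := by
  obtain ⟨u, hu, eu⟩ : ∃ u ∈ D₁, u * a * u⁻¹ = a * g := by
    rcases hg with rfl | rfl
    · exact ⟨1, one_mem _, by group⟩
    · exact d₁.conj_z hk₁ ha haC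
  obtain ⟨v, hv, ev⟩ : ∃ v ∈ D₂, v * b * v⁻¹ = b * f := by
    rcases hf with rfl | rfl
    · exact ⟨1, one_mem _, by group⟩
    · exact d₂.conj_z hk₂ hb hbC
  refine isConj_iff.mpr ⟨u * v, ?_⟩
  rw [← eu, ← ev]
  calc u * v * (a * b) * (u * v)⁻¹ = u * (v * a) * b * v⁻¹ * u⁻¹ := by group
    _ = u * (a * v) * b * v⁻¹ * u⁻¹ := by rw [hp.2.2.1 a ha v hv]
    _ = u * a * ((v * b * v⁻¹) * u⁻¹) := by group
    _ = u * a * (u⁻¹ * (v * b * v⁻¹)) := by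
      rw [← hp.2.2.1 _ (inv_mem hu) _ (mul_mem (mul_mem hv hb) (inv_mem hv))]
    _ = _ := by group

/-- The product of two reflections is conjugate to one of the two classes seen from the second
factor. -/
theorem cross {a b e : G} (ha : a ∈ D₁) (haC : a ∉ d₁.C) (he : e = 1 ∨ e = d₂.z)
    (ha1 : IsConj (a * e) d₁.z) (ha2 : IsConj (a * e * d₂.z) (d₁.z * d₂.z))
    (hb : b ∈ D₂) (hbC : b ∉ d₂.C) (hm : Moves d₂ d₁ b) :
    IsConj (a * b) d₁.z ∨ IsConj (a * b) (d₁.z * d₂.z) := by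
  obtain ⟨k1, k2, k3⟩ := big_classes hp d₁ d₂ hk₁ hk₂
  have hA : IsConj a d₁.z ∧ IsConj (a * d₂.z) (d₁.z * d₂.z) ∨
      IsConj a (d₁.z * d₂.z) ∧ IsConj (a * d₂.z) d₁.z := by
    rcases he with rfl | rfl
    · rw [mul_one] at ha1 ha2; exact Or.inl ⟨ha1, ha2⟩
    · rw [mul_assoc, d₂.z_sq, mul_one] at ha2; exact Or.inr ⟨ha2, ha1⟩
  obtain ⟨n, f, hf, h1, -, h3⟩ := hm
  obtain ⟨u, hu, v, hv, e'⟩ := h3 a ha haC
  have hvD : v ∈ D₂ := by
    rcases hv with rfl | rfl | rfl | rfl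
    exacts [one_mem _, d₂.z_mem, hb, mul_mem hb d₂.z_mem]
  have hfD : f ∈ D₁ := by rcases hf with rfl | rfl; exacts [one_mem _, d₁.z_mem]
  have huv : ∀ y ∈ D₂, u * a * u⁻¹ * y = u * (a * y) * u⁻¹ := fun y hy => by
    rw [show u * (a * y) * u⁻¹ = u * a * (y * u⁻¹) by group, ← hp.2.2.1 _ (inv_mem hu) y hy]
    group
  have A1 : IsConj a (a * v) :=
    (isConj_map n (e'.trans (huv v hvD))).trans (isConj_conj u (a * v)).symm
  have A2 : IsConj (a * d₂.z) (a * f * (v * b)) := by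
    refine (isConj_map n ?_).trans (isConj_conj u (a * f * (v * b))).symm
    rw [← conj_mul, e', h1, ← hp.2.2.1 f hfD b hb,
      show u * (a * f * (v * b)) * u⁻¹ = u * (a * f) * (v * b * u⁻¹) by group,
      ← hp.2.2.1 _ (inv_mem hu) _ (mul_mem hvD hb),
      show u * a * u⁻¹ * v * (f * b) = u * a * u⁻¹ * (v * f) * b by group, ← hp.2.2.1 f hfD v hvD]
    rcases hf with rfl | rfl
    · group
    · rw [show u * a * u⁻¹ * (d₁.z * v) * b = u * a * (u⁻¹ * d₁.z) * (v * b) by group,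
        d₁.z_comm (inv_mem hu)]
      group
  have key : IsConj (a * b) a ∨ IsConj (a * b) (a * d₂.z) := by
    rcases hv with hv | hv | hv | hv <;> rw [hv] at A1 A2
    · refine Or.inr ((conj_pair hp d₁ d₂ hk₁ hk₂ ha haC hb hbC hf (Or.inl rfl)).trans ?_)
      rw [one_mul] at A2
      rw [mul_one]
      exact A2.symm
    · rcases hA with ⟨h, h'⟩ | ⟨h, h'⟩
      · exact absurd ((h.symm.trans A1).trans h') k2
      · exact absurd ((h.symm.trans A1).trans h') (fun c => k2 c.symm)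
    · exact Or.inl A1.symm
    · refine Or.inl ((conj_pair hp d₁ d₂ hk₁ hk₂ ha haC hb hbC (Or.inl rfl) (Or.inr rfl)).trans ?_)
      rw [mul_one]
      exact A1.symm
  rcases key with h | h <;> rcases hA with ⟨i, i'⟩ | ⟨i, i'⟩
  exacts [Or.inl (h.trans i), Or.inr (h.trans i), Or.inr (h.trans i'), Or.inl (h.trans i')]

omit hp hk₁ hk₂ in
/-- The twist of a reflection: `r * e` is in the class of the central involution. -/
def Tw (r e : G) : Prop :=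
  (e = 1 ∨ e = d₂.z) ∧ IsConj (r * e) d₁.z ∧ IsConj (r * e * d₂.z) (d₁.z * d₂.z)

theorem tw_of_moves {r : G} (h : Moves d₁ d₂ r) : ∃ e, Tw d₁ d₂ r e := by
  obtain ⟨n, e, he, h1, h2, -⟩ := h
  exact ⟨e, he, (isConj_map n h1).symm, (isConj_map n (show n * (d₁.z * d₂.z) * n⁻¹ = r * e * d₂.z by
    rw [← conj_mul, h1, h2])).symm⟩

theorem tw_conj {r e u : G} (hu : u ∈ D₁) (h : Tw d₁ d₂ r e) : Tw d₁ d₂ (u * r * u⁻¹) e := by
  obtain ⟨he, h1, h2⟩ := h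
  have hc : ∀ y, (y = 1 ∨ y = d₂.z) → u⁻¹ * y = y * u⁻¹ := fun y hy =>
    hp.2.2.1 _ (inv_mem hu) y (by rcases hy with rfl | rfl; exacts [one_mem _, d₂.z_mem])
  have e1 : u * r * u⁻¹ * e = u * (r * e) * u⁻¹ := by
    rw [show u * r * u⁻¹ * e = u * r * (u⁻¹ * e) by group, hc e he]; group
  refine ⟨he, e1 ▸ (isConj_conj u _).symm.trans h1, ?_⟩
  rw [e1, show u * (r * e) * u⁻¹ * d₂.z = u * (r * e) * (u⁻¹ * d₂.z) by group, hc _ (Or.inr rfl),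
    show u * (r * e) * (d₂.z * u⁻¹) = u * (r * e * d₂.z) * u⁻¹ by group]
  exact (isConj_conj u _).symm.trans h2

theorem exists_twist_values (h2 : ∀ N : Subgroup G, N.Normal → N.index ≠ 2) :
    ∃ e₀ e₁ : G, e₀ ∈ zpowers d₂.z ∧ e₁ ∈ zpowers d₂.z ∧
      ∀ a ∈ D₁, a ∉ d₁.C → Tw d₁ d₂ a (d₁.chi e₀ e₁ a) := by
  have hct : d₁.c * d₁.t ∉ d₁.C := by
    have := d₁.refl_not_mem 1
    rwa [zpow_one] at this
  obtain ⟨e₀, he₀⟩ := tw_of_moves hp d₁ d₂ hk₁ hk₂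
    (moves_refl hp d₁ d₂ hk₁ hk₂ h2 d₁.t_mem d₁.t_out)
  obtain ⟨e₁, he₁⟩ := tw_of_moves hp d₁ d₂ hk₁ hk₂
    (moves_refl hp d₁ d₂ hk₁ hk₂ h2 (mul_mem d₁.c_mem d₁.t_mem) hct)
  have hmem : ∀ {r e}, Tw d₁ d₂ r e → e ∈ zpowers d₂.z := fun h => by
    rcases h.1 with e | e <;> rw [e]
    exacts [one_mem _, mem_zpowers _]
  refine ⟨e₀, e₁, hmem he₀, hmem he₁, fun a ha haC => ?_⟩
  have ht : d₁.t ∈ d₁.half 0 := by simpa using (d₁.half_refl 0 0).mpr ⟨0, rfl⟩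
  have hct0 : d₁.c * d₁.t ∉ d₁.half 0 := by
    have h1 := d₁.half_refl 0 1
    rw [zpow_one] at h1
    rw [h1]; simp
  by_cases h : a ∈ d₁.half 0
  · obtain ⟨u, hu, rfl⟩ := d₁.refl_class d₁.t_mem d₁.t_out ha haC (iff_of_true ht h)
    rw [(d₁.chi_refl e₀ e₁ ha haC).1 h]
    exact tw_conj hp d₁ d₂ hk₁ hk₂ hu he₀
  · obtain ⟨u, hu, rfl⟩ := d₁.refl_class (mul_mem d₁.c_mem d₁.t_mem) hct ha haC
      (iff_of_false hct0 h)
    rw [(d₁.chi_refl e₀ e₁ ha haC).2 h]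
    exact tw_conj hp d₁ d₂ hk₁ hk₂ hu he₁

/-- The twisted factors are strongly closed. -/
theorem big_factors (h2 : ∀ N : Subgroup G, N.Normal → N.index ≠ 2) :
    ∃ S₁ S₂ : Subgroup G, Cfsg.IsInternalDirectProduct S₁ S₂ (S : Subgroup G) ∧
      Nonempty (D₁ ≃* S₁) ∧ Nonempty (D₂ ≃* S₂) ∧
      Cfsg.IsStronglyClosed S₁ (S : Subgroup G) ∧ Cfsg.IsStronglyClosed S₂ (S : Subgroup G) := by
  set q := hp_symm hp
  obtain ⟨e₀, e₁, he₀, he₁, hf⟩ := exists_twist_values hp d₁ d₂ hk₁ hk₂ h2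
  obtain ⟨g₀, g₁, hg₀, hg₁, hg⟩ := exists_twist_values q d₂ d₁ hk₂ hk₁ h2
  obtain ⟨k1, k2, k3⟩ := big_classes hp d₁ d₂ hk₁ hk₂
  set f := d₁.chi e₀ e₁ with hfdef
  set g := d₂.chi g₀ g₁ with hgdef
  have hfz : ∀ a, f a ∈ zpowers d₂.z := d₁.chi_mem he₀ he₁
  have hgz : ∀ b, g b ∈ zpowers d₁.z := d₂.chi_mem hg₀ hg₁
  have hsq : ∀ {A : Subgroup G} (a : Dih A) {y : G}, y ∈ zpowers a.z → y * y = 1 := fun a y hy => by
    rcases mem_zpowers_z a hy with rfl | rfl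
    exacts [one_mul 1, a.z_sq]
  have hcom : ∀ {A : Subgroup G} (a : Dih A) {y y' : G}, y ∈ zpowers a.z → y' ∈ zpowers a.z →
      y * y' = y' * y := fun a y y' hy hy' =>
    a.comm_C (zpowers_le.mpr a.z_mem_C hy) (zpowers_le.mpr a.z_mem_C hy')
  have hcen : ∀ {A : Subgroup G} (a : Dih A) {y : G}, y ∈ zpowers a.z →
      y ∈ A ∧ ∀ x ∈ A, y * x = x * y := fun a y hy => by
    rcases mem_zpowers_z a hy with rfl | rfl
    · exact ⟨one_mem _, fun x _ => by simp⟩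
    · exact ⟨a.z_mem, fun x hx => (a.z_comm hx).symm⟩
  have hf1 : f 1 = 1 := d₁.chi_C e₀ e₁ 0 (one_mem _) (one_mem _)
  have hg1 : g 1 = 1 := d₂.chi_C g₀ g₁ 0 (one_mem _) (one_mem _)
  have hf1' : f d₁.z = 1 := d₁.chi_z e₀ e₁ hk₁
  have hg1' : g d₂.z = 1 := d₂.chi_z g₀ g₁ hk₂
  have hfg : ∀ b ∈ D₂, f (g b) = 1 := fun b _ => by
    rcases mem_zpowers_z d₁ (hgz b) with h | h <;> rw [h]
    exacts [hf1, hf1']
  have hgf : ∀ a ∈ D₁, g (f a) = 1 := fun a _ => by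
    rcases mem_zpowers_z d₂ (hfz a) with h | h <;> rw [h]
    exacts [hg1, hg1']
  obtain ⟨S₁, S₂, hp', ⟨i₁⟩, ⟨i₂⟩, hm1, hm2⟩ := twist hp f g
    (fun a _ => hcen d₂ (hfz a))
    (fun a ha b hb => d₁.chi_mul (hsq d₂ he₀) (hsq d₂ he₁) (hcom d₂ he₀ he₁) ha hb)
    (fun b _ => hcen d₁ (hgz b))
    (fun a ha b hb => d₂.chi_mul (hsq d₁ hg₀) (hsq d₁ hg₁) (hcom d₁ hg₀ hg₁) ha hb) hfg hgf
  haveI : Finite D₁ := inferInstance
  have hS1 : ∀ x ∈ S₁, x * x = 1 → x ≠ 1 → ∃ a ∈ D₁, a * f a = x ∧ (a = d₁.z ∨ a ∉ d₁.C) := by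
    intro x hx hxx hx1
    obtain ⟨a, ha, rfl⟩ := (hm1 x).mp hx
    refine ⟨a, ha, rfl, invol_cases d₁ ha (invol_comp hp ha (hcen d₂ (hfz a)).1 hxx).1 fun e => ?_⟩
    exact hx1 (by rw [e, hf1, one_mul])
  have hS2 : ∀ x ∈ S₂, x * x = 1 → x ≠ 1 → ∃ b ∈ D₂, g b * b = x ∧ (b = d₂.z ∨ b ∉ d₂.C) := by
    intro x hx hxx hx1
    obtain ⟨b, hb, rfl⟩ := (hm2 x).mp hx
    refine ⟨b, hb, rfl, invol_cases d₂ hb (invol_comp hp (hcen d₁ (hgz b)).1 hb hxx).2 fun e => ?_⟩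
    exact hx1 (by rw [e, hg1, one_mul])
  have hz12 : d₂.z * d₁.z = d₁.z * d₂.z := (hp.2.2.1 _ d₁.z_mem _ d₂.z_mem).symm
  have h1 : ∀ x ∈ S₁, x * x = 1 → x ≠ 1 → IsConj x d₁.z := by
    intro x hx hxx hx1
    obtain ⟨a, ha, rfl, rfl | haC⟩ := hS1 x hx hxx hx1
    · rw [hf1', mul_one]
    · exact (hf a ha haC).2.1
  have h1' : ∀ x ∈ S₂, x * x = 1 → x ≠ 1 → IsConj x d₂.z := by
    intro x hx hxx hx1
    obtain ⟨b, hb, rfl, rfl | hbC⟩ := hS2 x hx hxx hx1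
    · rw [hg1', one_mul]
    · rw [hp.2.2.1 _ (hcen d₁ (hgz b)).1 b hb]; exact (hg b hb hbC).2.1
  have h3 : ∀ x ∈ S₁, x * x = 1 → x ≠ 1 → ∀ y ∈ S₂, y * y = 1 → y ≠ 1 →
      IsConj (x * y) (d₁.z * d₂.z) := by
    intro x hx hxx hx1 y hy hyy hy1
    obtain ⟨a, ha, rfl, ha'⟩ := hS1 x hx hxx hx1
    obtain ⟨b, hb, rfl, hb'⟩ := hS2 y hy hyy hy1
    rcases ha' with rfl | haC <;> rcases hb' with rfl | hbC
    · rw [hf1', hg1', mul_one, one_mul]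
    · rw [hf1', mul_one, hp.2.2.1 _ (hcen d₁ (hgz b)).1 b hb,
        show d₁.z * (b * g b) = d₁.z * b * g b by group, hp.2.2.1 _ d₁.z_mem b hb, mul_assoc,
        ← (hcen d₁ (hgz b)).2 _ d₁.z_mem, ← mul_assoc]
      have := (hg b hb hbC).2.2
      rwa [hz12] at this
    · rw [hg1', one_mul]; exact (hf a ha haC).2.2
    · have e : a * f a * (g b * b) = a * g b * (b * f a) := by
        rw [show a * f a * (g b * b) = a * (f a * g b) * b by group,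
          ← hp.2.2.1 _ (hcen d₁ (hgz b)).1 _ (hcen d₂ (hfz a)).1,
          show a * (g b * f a) * b = a * g b * (f a * b) by group, (hcen d₂ (hfz a)).2 b hb]
      rw [e]
      refine (conj_pair hp d₁ d₂ hk₁ hk₂ ha haC hb hbC (mem_zpowers_z d₁ (hgz b))
        (mem_zpowers_z d₂ (hfz a))).symm.trans ?_
      obtain ⟨he, ha1, ha2⟩ := hf a ha haC
      obtain ⟨he', hb1, hb2⟩ := hg b hb hbC
      have c1 := cross hp d₁ d₂ hk₁ hk₂ ha haC he ha1 ha2 hb hbC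
        (moves_refl q d₂ d₁ hk₂ hk₁ h2 hb hbC)
      have c2 := cross q d₂ d₁ hk₂ hk₁ hb hbC he' hb1 hb2 ha haC
        (moves_refl hp d₁ d₂ hk₁ hk₂ h2 ha haC)
      rw [← hp.2.2.1 a ha b hb, hz12] at c2
      rcases c1 with c1 | c1
      · rcases c2 with c2 | c2
        · exact absurd (c1.symm.trans c2) k1
        · exact absurd (c1.symm.trans c2) k2
      · exact c1
  haveI : Finite S₁ := inferInstance
  have hd : ∀ {A B : Subgroup G} (a : Dih A) (i : A ≃* B), Nonempty (Dih B) := fun {A B} a i =>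
    dih_of_equiv a i
  obtain ⟨s₁⟩ := hd d₁ i₁
  obtain ⟨s₂⟩ := hd d₂ i₂
  refine ⟨S₁, S₂, hp', ⟨i₁⟩, ⟨i₂⟩,
    isStronglyClosed_of_classes hp' s₁ s₂ h1 h1' h3 k1 k2,
    isStronglyClosed_of_classes (hp_symm hp') s₂ s₁ h1' h1
      (fun b hb hbb hb1 a ha haa ha1 => by
        rw [← hp'.2.2.1 a ha b hb]; exact h3 a ha haa ha1 b hb hbb hb1)
      (fun c => k1 c.symm) k3⟩

end Cfsg.Lib.TwoDihedral
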