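import Cfsg.Agent.TwoFusion.TwoDihedral.CaseBigMain

/-!
A dihedral factor times a four-group: the sites, and the case where the normalizer of the Sylow
subgroup fixes its centre.
-/

set_option autoImplicit false
set_option linter.style.haveILetI false
set_option linter.unusedSectionVars false
set_option linter.unusedVariables false

namespace Cfsg.Lib.TwoDihedral

open Subgroup Cfsg.Lib.Fusion

variable {G : Type*} [Group G] [Finite G] {S : Sylow 2 G} {D₁ D₂ : Subgroup G}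
  (hp : Cfsg.IsInternalDirectProduct D₁ D₂ (S : Subgroup G)) (d₁ : Dih D₁) (d₂ : Dih D₂)
  (hk₁ : 1 ≤ d₁.k) (hk₂ : d₂.k = 0)

include hp hk₁ hk₂

omit hp hk₁ in
theorem four_not_big : ¬ d₂.Big D₂ := by
  rintro ⟨a, -, ⟨i, rfl⟩, haa⟩
  apply haa
  have hz : d₂.z = d₂.c := by rw [Dih.z, hk₂, pow_zero, pow_one]
  show d₂.c ^ i * d₂.c ^ i = 1
  rw [← (Commute.refl d₂.c).mul_zpow, ← hz, d₂.z_sq, one_zpow]

omit hp hk₁ in
theorem four_sq {d : G} (hd : d ∈ D₂) : d * d = 1 :=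
  d₂.sq_of_not_big le_rfl (four_not_big d₂ hk₂) hd

omit hp hk₁ in
theorem four_comm {a b : G} (ha : a ∈ D₂) (hb : b ∈ D₂) : a * b = b * a :=
  d₂.comm_of_not_big le_rfl (four_not_big d₂ hk₂) ha hb

theorem four_central {x : G} (hx : x ∈ (S : Subgroup G))
    (h : pr hp x = 1 ∨ pr hp x = d₁.z) : ∀ y ∈ (S : Subgroup G), x * y = y * x :=
  central_of_pr hp hx (fun a ha => by
    rcases h with h | h <;> rw [h]
    · simp
    · exact (d₁.z_comm ha).symm)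
    fun b hb => four_comm d₂ hk₂ (pr_mem _ _) hb

theorem four_D_le {Q : Subgroup G}
    (hC : Cfsg.FusionSystem.centralizerIn (S : Subgroup G) Q ≤ Q) (hQS : Q ≤ (S : Subgroup G)) :
    D₂ ≤ Q := fun b hb => hC ⟨hp.2.1 hb, mem_centralizer_iff.mpr fun y hy =>
  (four_central hp d₁ d₂ hk₁ hk₂ (hp.2.1 hb) (Or.inl (pr_right hp hb)) y (hQS hy)).symm⟩

/-- The normalizer of `S` fixes the central involution of the big factor. -/
theorem four_fix_z {n : G} (hn : n ∈ normalizer ((S : Subgroup G) : Set G)) :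
    n * d₁.z * n⁻¹ = d₁.z := by
  set q := hp_symm hp
  set s := d₁.c ^ 2 ^ (d₁.k - 1)
  have hss : s * s = d₁.z := by
    rw [← pow_add, ← two_mul, ← pow_succ', Nat.sub_add_cancel hk₁]; rfl
  have hyS : n * s * n⁻¹ ∈ (S : Subgroup G) :=
    conj_mem_of_mem_normalizer hn (hp.1 (pow_mem d₁.c_mem _))
  set y := n * s * n⁻¹ with hy
  have hyy : y * y = n * d₁.z * n⁻¹ := by rw [hy, ← hss]; group
  have e1 : pr q (y * y) = 1 := by
    rw [pr_mul q hyS hyS]; exact four_sq d₂ hk₂ (pr_mem q y)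
  have e2 : pr hp (y * y) ∈ d₁.C := by rw [pr_mul hp hyS hyS]; exact d₁.sq_mem (pr_mem hp y)
  have e3 : pr hp (y * y) * pr hp (y * y) = 1 := by
    rw [← pr_mul hp (mul_mem hyS hyS) (mul_mem hyS hyS), hyy, conj_mul, d₁.z_sq, mul_one,
      mul_inv_cancel, pr_one]
  have e4 : y * y = pr hp (y * y) := by
    conv_lhs => rw [pr_decomp hp (mul_mem hyS hyS), e1, mul_one]
  rw [← hyy]
  rcases d₁.sq_eq_one_C e2 e3 with h | h <;> rw [h] at e4
  · exact absurd (conj_eq_one_iff.mp (hyy.symm.trans e4)) d₁.z_ne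
  · exact e4

/-- An element outside the centre is conjugate to its product with the central involution. -/
theorem out_conj {x : G} (hx : x ∈ (S : Subgroup G)) (h : pr hp x ∉ d₁.C) :
    IsConj x (x * d₁.z) := by
  obtain ⟨u, hu, eu⟩ := d₁.conj_z hk₁ (pr_mem hp x) h
  refine isConj_iff.mpr ⟨u, ?_⟩
  have hb := pr_mem (hp_symm hp) x
  have e := pr_decomp hp hx
  set a := pr hp x
  set b := pr (hp_symm hp) x
  rw [e, show u * (a * b) * u⁻¹ = u * a * (b * u⁻¹) by group, ← hp.2.2.1 _ (inv_mem hu) b hb,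
    show u * a * (u⁻¹ * b) = u * a * u⁻¹ * b by group, eu, mul_assoc, hp.2.2.1 _ d₁.z_mem b hb,
    ← mul_assoc]

section Site

variable {Q : Subgroup G} (hQS : Q ≤ (S : Subgroup G)) (hb : ¬ d₁.Big (Q ⊓ D₁)) (hD : D₂ ≤ Q)
  {r : G} (hrQ : r ∈ Q ⊓ D₁) (hrC : r ∉ d₁.C)

include hQS hb hD hrQ hrC

theorem site_cases_four {x : G} (hx : x ∈ Q) :
    (pr hp x = 1 ∨ pr hp x = d₁.z) ∨
      (pr hp x ∉ d₁.C ∧ (pr hp x = r ∨ pr hp x = r * d₁.z) ∧
        IsConj x (r * pr (hp_symm hp) x)) := by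
  rcases d₁.four_cases inf_le_right hb hrQ hrC ⟨proj_mem hp hQS hD x hx, pr_mem hp x⟩ with
    h | h | h | h
  · exact Or.inl (Or.inl h)
  · exact Or.inl (Or.inr h)
  · exact Or.inr ⟨h ▸ hrC, Or.inl h, by rw [← h, ← pr_decomp hp (hQS hx)]⟩
  · have hout : pr hp x ∉ d₁.C := h ▸ (d₁.mul_z_refl hrQ.2 hrC).2
    refine Or.inr ⟨hout, Or.inr h, ?_⟩
    have e : x * d₁.z = r * pr (hp_symm hp) x := by
      conv_lhs => rw [pr_decomp hp (hQS hx), h]
      rw [mul_assoc _ _ d₁.z, ← hp.2.2.1 _ d₁.z_mem _ (pr_mem (hp_symm hp) x), ← mul_assoc,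
        mul_assoc r, d₁.z_sq, mul_one]
    exact e ▸ out_conj hp d₁ d₂ hk₁ hk₂ (hQS hx) hout

theorem site_sq {x : G} (hx : x ∈ Q) : x * x = 1 :=
  eq_of_pr hp (mul_mem (hQS hx) (hQS hx)) (one_mem _)
    (by rw [pr_mul hp (hQS hx) (hQS hx), pr_one,
      d₁.sq_of_not_big inf_le_right hb ⟨proj_mem hp hQS hD x hx, pr_mem hp x⟩])
    (by rw [pr_mul _ (hQS hx) (hQS hx), pr_one, four_sq d₂ hk₂ (pr_mem _ _)])

theorem site_mul_out {x y : G} (hx : x ∈ Q) (hy : y ∈ Q) (hxC : pr hp x ∉ d₁.C)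
    (hyC : pr hp y ∉ d₁.C) : pr hp (x * y) = 1 ∨ pr hp (x * y) = d₁.z := by
  have h : pr hp (x * y) ∈ d₁.C := by
    rw [pr_mul hp (hQS hx) (hQS hy)]; exact d₁.mul_refl (pr_mem hp x) hxC (pr_mem hp y) hyC
  exact d₁.four_mem hb ⟨proj_mem hp hQS hD _ (mul_mem hx hy), pr_mem hp _⟩ h

/-- An element of odd order fixing the centre of `S` centralizes the site. -/
theorem site_trivial {n : G} (hn : n ∈ normalizer (Q : Set G)) (ho : Odd (orderOf n))
    (hfix : ∀ w ∈ Q, (pr hp w = 1 ∨ pr hp w = d₁.z) → n * w * n⁻¹ = w) :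
    ∀ x ∈ Q, n * x * n⁻¹ = x := by
  have hout : ∀ x ∈ Q, pr hp x ∉ d₁.C → n * x * n⁻¹ = x := by
    intro x hx hxC
    have hy := conj_mem_of_mem_normalizer hn hx
    refine fix_of_fix_twice ho ?_
    rcases site_cases_four hp d₁ d₂ hk₁ hk₂ hQS hb hD hrQ hrC hy with h | ⟨h, -⟩
    · have h2 := hfix _ hy h
      have h3 : n * x * n⁻¹ = x := mul_left_cancel (mul_right_cancel h2)
      rw [h3, h3]
    · have hw := site_mul_out hp d₁ d₂ hk₁ hk₂ hQS hb hD hrQ hrC hx hy hxC h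
      set w := x * (n * x * n⁻¹) with hwdef
      have hwQ : w ∈ Q := mul_mem hx hy
      have e : n * x * n⁻¹ = x * w := by
        rw [hwdef, ← mul_assoc, site_sq hp d₁ d₂ hk₁ hk₂ hQS hb hD hrQ hrC hx, one_mul]
      rw [e, ← conj_mul, e, hfix w hwQ hw, mul_assoc,
        site_sq hp d₁ d₂ hk₁ hk₂ hQS hb hD hrQ hrC hwQ, mul_one]
  intro x hx
  rcases site_cases_four hp d₁ d₂ hk₁ hk₂ hQS hb hD hrQ hrC hx with h | ⟨h, -⟩
  · exact hfix x hx h
  · exact hout x hx h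

/-- If some central element of `S` moves out of the centre, so does the central involution. -/
theorem site_moved
    (hA : ∀ w ∈ (S : Subgroup G), (pr hp w = 1 ∨ pr hp w = d₁.z) → ¬ IsConj w (w * d₁.z))
    (hB : ∀ w ∈ (S : Subgroup G), (pr hp w = 1 ∨ pr hp w = d₁.z) → IsConj d₁.z w → w = d₁.z)
    (hzQ : d₁.z ∈ Q) {n w : G} (hn : n ∈ normalizer (Q : Set G)) (hw : w ∈ Q)
    (hwz : pr hp w = 1 ∨ pr hp w = d₁.z) (hout : pr hp (n * w * n⁻¹) ∉ d₁.C) :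
    pr hp (n * d₁.z * n⁻¹) ∉ d₁.C := by
  have hy := conj_mem_of_mem_normalizer hn hzQ
  rcases site_cases_four hp d₁ d₂ hk₁ hk₂ hQS hb hD hrQ hrC hy with h | ⟨h, -⟩
  · exfalso
    have hnz := hB _ (hQS hy) h (isConj_conj n _)
    refine hA w (hQS hw) hwz ((isConj_conj n w).trans ?_)
    refine (out_conj hp d₁ d₂ hk₁ hk₂ (hQS (conj_mem_of_mem_normalizer hn hw)) hout).trans ?_
    rw [show n * w * n⁻¹ * d₁.z = n * w * n⁻¹ * (n * d₁.z * n⁻¹) by rw [hnz], conj_mul]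
    exact (isConj_conj n _).symm
  · exact h

end Site

/-- The class data at a reflection when the normalizer of `S` fixes the centre. -/
def DataC (r : G) : Prop :=
  ∃ e ∈ D₂, IsConj (r * e) d₁.z ∧ ∀ d ∈ D₂, IsConj (r * e * d) (d₁.z * d) ∨ IsConj (r * e * d) d

omit hk₁ hk₂ in
theorem dataC_conj {r e u : G} (hu : u ∈ D₁) (he : e ∈ D₂)
    (h : IsConj (r * e) d₁.z ∧
      ∀ d ∈ D₂, IsConj (r * e * d) (d₁.z * d) ∨ IsConj (r * e * d) d) :
    IsConj (u * r * u⁻¹ * e) d₁.z ∧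
      ∀ d ∈ D₂, IsConj (u * r * u⁻¹ * e * d) (d₁.z * d) ∨ IsConj (u * r * u⁻¹ * e * d) d := by
  have e1 : ∀ x ∈ D₂, u * r * u⁻¹ * x = u * (r * x) * u⁻¹ := fun x hx => by
    rw [show u * r * u⁻¹ * x = u * r * (u⁻¹ * x) by group, hp.2.2.1 _ (inv_mem hu) x hx]; group
  refine ⟨by rw [e1 e he]; exact (isConj_conj u _).symm.trans h.1, fun d hd => ?_⟩
  rw [mul_assoc, e1 _ (mul_mem he hd), ← mul_assoc r]
  exact (h.2 d hd).imp (fun h' => (isConj_conj u _).symm.trans h')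
    fun h' => (isConj_conj u _).symm.trans h'

/-- If the normalizer of `S` fixes the centre, there is a normal subgroup of index two. -/
theorem four_contra (h2 : ∀ N : Subgroup G, N.Normal → N.index ≠ 2)
    (hfix : ∀ b ∈ normalizer ((S : Subgroup G) : Set G), Odd (orderOf b) →
      ∀ x ∈ (S : Subgroup G), (∀ y ∈ (S : Subgroup G), x * y = y * x) → b * x * b⁻¹ = x) :
    False := by
  classical
  set q := hp_symm hp
  have heq : ∀ x ∈ (S : Subgroup G), ∀ y ∈ (S : Subgroup G),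
      (pr hp x = 1 ∨ pr hp x = d₁.z) → (pr hp y = 1 ∨ pr hp y = d₁.z) → IsConj x y → x = y := by
    intro x hx y hy hxz hyz h
    have hxc := four_central hp d₁ d₂ hk₁ hk₂ hx hxz
    obtain ⟨b, hbN, ho, e⟩ :=
      central_conj S hx hy hxc (four_central hp d₁ d₂ hk₁ hk₂ hy hyz) h
    rw [← e, hfix b hbN ho x hx hxc]
  have hct : d₁.c * d₁.t ∉ d₁.C := by
    have := d₁.refl_not_mem 1
    rwa [zpow_one] at this
  let P : G → G → Prop := fun r e => IsConj (r * e) d₁.z ∧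
    ∀ d ∈ D₂, IsConj (r * e * d) (d₁.z * d) ∨ IsConj (r * e * d) d
  obtain ⟨e₀, he₀, hP₀⟩ : ∃ e ∈ D₂, (∃ e' ∈ D₂, P d₁.t e') → P d₁.t e := by
    by_cases h : ∃ e' ∈ D₂, P d₁.t e'
    · obtain ⟨e, he, h'⟩ := h; exact ⟨e, he, fun _ => h'⟩
    · exact ⟨1, one_mem _, fun h' => absurd h' h⟩
  obtain ⟨e₁, he₁, hP₁⟩ : ∃ e ∈ D₂, (∃ e' ∈ D₂, P (d₁.c * d₁.t) e') → P (d₁.c * d₁.t) e := by
    by_cases h : ∃ e' ∈ D₂, P (d₁.c * d₁.t) e'
    · obtain ⟨e, he, h'⟩ := h; exact ⟨e, he, fun _ => h'⟩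
    · exact ⟨1, one_mem _, fun h' => absurd h' h⟩
  set χ := d₁.chi e₀ e₁ with hχdef
  have hχD : ∀ a, χ a ∈ D₂ := d₁.chi_mem he₀ he₁
  have ht0 : d₁.t ∈ d₁.half 0 := by simpa using (d₁.half_refl 0 0).mpr ⟨0, rfl⟩
  have hct0 : d₁.c * d₁.t ∉ d₁.half 0 := by
    have h1 := d₁.half_refl 0 1
    rw [zpow_one] at h1
    rw [h1]; simp
  have hχP : ∀ a ∈ D₁, a ∉ d₁.C → (∃ e ∈ D₂, P a e) → P a (χ a) := by
    intro a ha haC ⟨e, he, he'⟩
    have key : ∀ r₀ e', r₀ ∈ D₁ → r₀ ∉ d₁.C → (r₀ ∈ d₁.half 0 ↔ a ∈ d₁.half 0) → e' ∈ D₂ →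
        ((∃ e'' ∈ D₂, P r₀ e'') → P r₀ e') → P a e' := by
      intro r₀ e' hr₀ hr₀C hiff hm himp
      obtain ⟨u, hu, rfl⟩ := d₁.refl_class hr₀ hr₀C ha haC hiff
      refine dataC_conj hp d₁ hu hm (himp ⟨e, he, ?_⟩)
      have := dataC_conj hp d₁ (inv_mem hu) he he'
      rwa [show u⁻¹ * (u * r₀ * u⁻¹) * u⁻¹⁻¹ = r₀ by group] at this
    by_cases h : a ∈ d₁.half 0
    · rw [hχdef, (d₁.chi_refl e₀ e₁ ha haC).1 h]
      exact key _ _ d₁.t_mem d₁.t_out (iff_of_true ht0 h) he₀ hP₀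
    · rw [hχdef, (d₁.chi_refl e₀ e₁ ha haC).2 h]
      exact key _ _ (mul_mem d₁.c_mem d₁.t_mem) hct (iff_of_false hct0 h) he₁ hP₁
  have hχz : χ d₁.z = 1 := d₁.chi_z e₀ e₁ hk₁
  have hχ1 : χ 1 = 1 := d₁.chi_C e₀ e₁ 0 (one_mem _) (one_mem _)
  have hχm : ∀ a ∈ D₁, ∀ b ∈ D₁, χ (a * b) = χ a * χ b := fun a ha b hb =>
    d₁.chi_mul (four_sq d₂ hk₂ he₀) (four_sq d₂ hk₂ he₁) (four_comm d₂ hk₂ he₀ he₁) ha hb
  let F : G → G := fun x => pr q x * χ (pr hp x)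
  have hFD : ∀ x, F x ∈ D₂ := fun x => mul_mem (pr_mem q x) (hχD _)
  have hFmul : ∀ x ∈ (S : Subgroup G), ∀ y ∈ (S : Subgroup G), F (x * y) = F x * F y := by
    intro x hx y hy
    show pr q (x * y) * χ (pr hp (x * y)) = pr q x * χ (pr hp x) * (pr q y * χ (pr hp y))
    rw [pr_mul q hx hy, pr_mul hp hx hy, hχm _ (pr_mem hp x) _ (pr_mem hp y),
      show pr q x * χ (pr hp x) * (pr q y * χ (pr hp y)) =
        pr q x * (χ (pr hp x) * pr q y) * χ (pr hp y) by group,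
      four_comm d₂ hk₂ (hχD _) (pr_mem q y)]
    group
  have hF1 : F 1 = 1 := by
    show pr q 1 * χ (pr hp 1) = 1
    rw [pr_one, pr_one, hχ1, one_mul]
  let K : Subgroup G :=
    { carrier := {x | x ∈ (S : Subgroup G) ∧ F x ∈ zpowers d₂.c}
      one_mem' := ⟨one_mem _, by rw [hF1]; exact one_mem _⟩
      mul_mem' := fun {a b} ha hb =>
        ⟨mul_mem ha.1 hb.1, by rw [hFmul a ha.1 b hb.1]; exact mul_mem ha.2 hb.2⟩
      inv_mem' := fun {a} ha => ⟨inv_mem ha.1, by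
        have h := hFmul a⁻¹ (inv_mem ha.1) a ha.1
        rw [inv_mul_cancel, hF1] at h
        rw [eq_inv_of_mul_eq_one_left h.symm]
        exact inv_mem ha.2⟩ }
  have hFt : F d₂.t = d₂.t := by
    show pr q d₂.t * χ (pr hp d₂.t) = d₂.t
    rw [pr_left q d₂.t_mem, pr_right hp d₂.t_mem, hχ1, mul_one]
  refine contra_index_two hp h2 K (fun x hx => hx.1) (g := d₂.t) (hp.2.1 d₂.t_mem)
    (fun h => d₂.t_out (hFt ▸ h.2)) (fun b hb => ?_) fun hK => ?_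
  · constructor
    · rintro ⟨-, h'⟩ ⟨-, h''⟩
      rw [hFmul b hb _ (hp.2.1 d₂.t_mem), hFt] at h'
      refine d₂.t_out ?_
      simpa using mul_mem (inv_mem h'') h'
    · intro hn
      refine ⟨mul_mem hb (hp.2.1 d₂.t_mem), ?_⟩
      rw [hFmul b hb _ (hp.2.1 d₂.t_mem), hFt]
      exact (d₂.dec _ (hFD b)).resolve_left fun h => hn ⟨hb, h⟩
  refine memInv hp d₁ d₂ K hK ?_ ?_
  · refine resp_all S (fullyNormalized_top S) hK fun n hn ho x hx => ?_
    rw [odd_centralizes hp d₁ d₂ le_rfl (fun y _ => hp.1 (pr_mem hp y))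
      ⟨d₁.t, ⟨hp.1 d₁.t_mem, d₁.t_mem⟩, d₁.t_out⟩
      ⟨d₁.c, ⟨hp.1 d₁.c_mem, d₁.c_mem⟩, d₁.c_mem_C, d₁.cc_ne hk₁⟩
      ⟨d₂.t, ⟨hp.2.1 d₂.t_mem, d₂.t_mem⟩, d₂.t_out⟩ hn ho
      (fun y hy hc => hfix n hn ho y hy hc) x hx]
  rintro Q hQS hC hQn (⟨hrQ, hb, hnD, hD⟩ | ⟨-, -, hnD, -⟩)
  swap
  · exact absurd (four_D_le hp d₁ d₂ hk₁ hk₂ hC hQS) hnD
  obtain ⟨r, hr, hrC⟩ := hrQ
  have hzQ : d₁.z ∈ Q := hC ⟨hp.1 d₁.z_mem, mem_centralizer_iff.mpr fun y hy =>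
    z_central hp d₁ (hQS hy)⟩
  have hcases := fun {x : G} (hx : x ∈ Q) =>
    site_cases_four hp d₁ d₂ hk₁ hk₂ hQS hb hD hr hrC hx
  refine resp_all S hQn hK fun n hn ho x hx => ?_
  by_cases hall : ∀ w ∈ Q, (pr hp w = 1 ∨ pr hp w = d₁.z) → n * w * n⁻¹ = w
  · rw [site_trivial hp d₁ d₂ hk₁ hk₂ hQS hb hD hr hrC hn ho hall x hx]
  push Not at hall
  obtain ⟨w, hw, hwz, hne⟩ := hall
  have hwout : pr hp (n * w * n⁻¹) ∉ d₁.C := by
    rcases hcases (conj_mem_of_mem_normalizer hn hw) with h | ⟨h, -⟩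
    · exact absurd (heq _ (hQS hw) _ (hQS (conj_mem_of_mem_normalizer hn hw)) hwz h
        (isConj_conj n w)).symm hne
    · exact h
  have hA : ∀ w ∈ (S : Subgroup G), (pr hp w = 1 ∨ pr hp w = d₁.z) → ¬ IsConj w (w * d₁.z) := by
    intro w hw hwz h
    refine d₁.z_ne (mul_eq_left.mp (heq w hw (w * d₁.z) (mul_mem hw (hp.1 d₁.z_mem)) hwz ?_ h).symm)
    rw [pr_mul hp hw (hp.1 d₁.z_mem), pr_left hp d₁.z_mem]
    rcases hwz with h' | h' <;> rw [h']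
    · exact Or.inr (one_mul _)
    · exact Or.inl d₁.z_sq
  have hB : ∀ w ∈ (S : Subgroup G), (pr hp w = 1 ∨ pr hp w = d₁.z) → IsConj d₁.z w → w = d₁.z :=
    fun w hw hwz h => (heq _ (hp.1 d₁.z_mem) w hw (Or.inr (pr_left hp d₁.z_mem)) hwz h).symm
  have hzout := site_moved hp d₁ d₂ hk₁ hk₂ hQS hb hD hr hrC hA hB hzQ hn hw hwz hwout
  set y := n * d₁.z * n⁻¹ with hydef
  have hyQ : y ∈ Q := conj_mem_of_mem_normalizer hn hzQ
  set e := pr q y with hedef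
  have hre : IsConj (r * e) d₁.z := by
    rcases hcases hyQ with h | ⟨-, -, h⟩
    · exact absurd (by rcases h with h | h <;> rw [h]; exacts [one_mem _, d₁.z_mem_C]) hzout
    · exact h.symm.trans (isConj_conj n _).symm
  have hdata : P r e := by
    refine ⟨hre, fun d hd => ?_⟩
    have hdQ := conj_mem_of_mem_normalizer hn (hD hd)
    have hdz : pr hp d = 1 ∨ pr hp d = d₁.z := Or.inl (pr_right hp hd)
    have hzd : n * (d₁.z * d) * n⁻¹ = y * (n * d * n⁻¹) := (conj_mul).symm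
    have hzdz : pr hp (d₁.z * d) = 1 ∨ pr hp (d₁.z * d) = d₁.z :=
      Or.inr (pr_mul_of hp d₁.z_mem hd)
    rcases hcases hdQ with h | ⟨h, -, hc⟩
    · have hnd := heq _ (hp.2.1 hd) _ (hQS hdQ) hdz h (isConj_conj n d)
      rw [← hnd] at hzd
      left
      rcases hcases (mul_mem hyQ (hD hd)) with h' | ⟨-, -, hc'⟩
      · refine absurd ?_ hzout
        rw [pr_mul hp (hQS hyQ) (hp.2.1 hd), pr_right hp hd, mul_one] at h'
        rcases h' with h' | h' <;> rw [h']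
        exacts [one_mem _, d₁.z_mem_C]
      · rw [pr_mul q (hQS hyQ) (hp.2.1 hd), pr_left q hd, ← mul_assoc] at hc'
        exact hc'.symm.trans (hzd ▸ (isConj_conj n (d₁.z * d)).symm)
    · right
      have hin := site_mul_out hp d₁ d₂ hk₁ hk₂ hQS hb hD hr hrC hyQ hdQ hzout h
      have heq' := heq _ (mul_mem (hp.1 d₁.z_mem) (hp.2.1 hd)) _ (hQS (mul_mem hyQ hdQ)) hzdz hin
        (hzd ▸ isConj_conj n (d₁.z * d))
      have e' : n * d * n⁻¹ = y * (d₁.z * d) := by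
        rw [heq', ← mul_assoc, site_sq hp d₁ d₂ hk₁ hk₂ hQS hb hD hr hrC hyQ, one_mul]
      have hpr : pr q (n * d * n⁻¹) = e * d := by
        rw [e', pr_mul q (hQS hyQ) (mul_mem (hp.1 d₁.z_mem) (hp.2.1 hd)), hp.2.2.1 _ d₁.z_mem d hd,
          pr_mul_of q hd d₁.z_mem]
      rw [hpr, ← mul_assoc] at hc
      exact hc.symm.trans (isConj_conj n d).symm
  have hχr := hχP r hr.2 hrC ⟨e, pr_mem q y, hdata⟩
  -- every element of the site is conjugate to a central element with the same value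
  have hclass : ∀ x ∈ Q, IsConj x (F x) ∨ IsConj x (d₁.z * F x) := by
    intro x hx
    rcases hcases hx with h | ⟨-, h, hc⟩
    · have e' := pr_decomp hp (hQS hx)
      rcases h with h | h
      · left
        show IsConj x (pr q x * χ (pr hp x))
        rw [h, hχ1, mul_one]
        rw [h, one_mul] at e'
        rw [← e']
      · right
        show IsConj x (d₁.z * (pr q x * χ (pr hp x)))
        rw [h, hχz, mul_one]
        rw [h] at e'
        rw [← e']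
    · have hFx : F x = pr q x * χ r := by
        show pr q x * χ (pr hp x) = _
        rcases h with h | h <;> rw [h]
        rw [hχm r hr.2 _ d₁.z_mem, hχz, mul_one]
      have e' : r * χ r * F x = r * pr q x := by
        rw [hFx, four_comm d₂ hk₂ (pr_mem q x) (hχD r), mul_assoc, ← mul_assoc (χ r),
          four_sq d₂ hk₂ (hχD r), one_mul]
      rcases hχr.2 _ (hFD x) with h' | h' <;> rw [e'] at h'
      · exact Or.inr (hc.trans h')
      · exact Or.inl (hc.trans h')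
  have hval : F x = F (n * x * n⁻¹) := by
    have h1 := hclass x hx
    have h2 := hclass _ (conj_mem_of_mem_normalizer hn hx)
    have hxy := isConj_conj n x
    have hm : ∀ {d : G}, d ∈ D₂ → d ∈ (S : Subgroup G) ∧ (pr hp d = 1 ∨ pr hp d = d₁.z) :=
      fun hd => ⟨hp.2.1 hd, Or.inl (pr_right hp hd)⟩
    have hm' : ∀ {d : G}, d ∈ D₂ →
        d₁.z * d ∈ (S : Subgroup G) ∧ (pr hp (d₁.z * d) = 1 ∨ pr hp (d₁.z * d) = d₁.z) :=
      fun hd => ⟨mul_mem (hp.1 d₁.z_mem) (hp.2.1 hd), Or.inr (pr_mul_of hp d₁.z_mem hd)⟩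
    have a1 := hm (hFD x)
    have a2 := hm (hFD (n * x * n⁻¹))
    have b1 := hm' (hFD x)
    have b2 := hm' (hFD (n * x * n⁻¹))
    rcases h1 with h1 | h1 <;> rcases h2 with h2 | h2
    · exact heq _ a1.1 _ a2.1 a1.2 a2.2 (h1.symm.trans (hxy.trans h2))
    · have := congrArg (pr q) (heq _ a1.1 _ b2.1 a1.2 b2.2 (h1.symm.trans (hxy.trans h2)))
      rwa [pr_left q (hFD x), hp.2.2.1 _ d₁.z_mem _ (hFD _), pr_mul_of q (hFD _) d₁.z_mem] at this
    · have := congrArg (pr q) (heq _ b1.1 _ a2.1 b1.2 a2.2 (h1.symm.trans (hxy.trans h2)))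
      rwa [pr_left q (hFD _), hp.2.2.1 _ d₁.z_mem _ (hFD _), pr_mul_of q (hFD _) d₁.z_mem] at this
    · exact mul_left_cancel (heq _ b1.1 _ b2.1 b1.2 b2.2 (h1.symm.trans (hxy.trans h2)))
  exact ⟨fun h => ⟨hQS (conj_mem_of_mem_normalizer hn hx), hval ▸ h.2⟩,
    fun h => ⟨hQS hx, hval ▸ h.2⟩⟩

end Cfsg.Lib.TwoDihedral
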