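import Cfsg.Agent.TwoFusion.TwoDihedral.CaseFour

/-!
A dihedral factor times a four-group rotated by the normalizer of the Sylow subgroup.
-/

set_option autoImplicit false
set_option linter.style.haveILetI false
set_option linter.unusedSectionVars false
set_option linter.unusedVariables false

namespace Cfsg.Lib.TwoDihedral

open Subgroup Cfsg.Lib.Fusion

theorem Dih.four_elems {G : Type*} [Group G] {D : Subgroup G} (d : Dih D) (hk : d.k = 0) {x : G}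
    (hx : x ∈ D) : x = 1 ∨ x = d.c ∨ x = d.t ∨ x = d.c * d.t := by
  have hz : d.z = d.c := by rw [Dih.z, hk, pow_zero, pow_one]
  have hC : ∀ y ∈ zpowers d.c, y = 1 ∨ y = d.c := fun y hy => by
    rw [← hz] at hy
    rcases mem_zpowers_z d hy with h | h
    exacts [Or.inl h, Or.inr (h.trans hz)]
  rcases d.dec x hx with h | h
  · rcases hC x h with h | h
    exacts [Or.inl h, Or.inr (Or.inl h)]
  · have e : x = x * d.t * d.t := by rw [mul_assoc, d.t_sq, mul_one]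
    rcases hC _ h with h | h <;> rw [h] at e
    · exact Or.inr (Or.inr (Or.inl (by rw [e, one_mul])))
    · exact Or.inr (Or.inr (Or.inr e))

variable {G : Type*} [Group G] [Finite G] {S : Sylow 2 G} {D₁ D₂ : Subgroup G}
  (hp : Cfsg.IsInternalDirectProduct D₁ D₂ (S : Subgroup G)) (d₁ : Dih D₁) (d₂ : Dih D₂)
  (hk₁ : 1 ≤ d₁.k) (hk₂ : d₂.k = 0)
  {n₀ : G} (hn₀ : n₀ ∈ normalizer ((S : Subgroup G) : Set G)) (ho₀ : Odd (orderOf n₀))
  (hct : n₀ * d₂.c * n₀⁻¹ = d₂.t) (htct : n₀ * d₂.t * n₀⁻¹ = d₂.c * d₂.t)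

include hp hk₁ hk₂ hn₀ ho₀ hct htct

theorem rot_mem {d : G} (hd : d ∈ D₂) : n₀ * d * n₀⁻¹ ∈ D₂ := by
  rcases d₂.four_elems hk₂ hd with rfl | rfl | rfl | rfl
  · simp
  · rw [hct]; exact d₂.t_mem
  · rw [htct]; exact mul_mem d₂.c_mem d₂.t_mem
  · rw [← conj_mul, hct, htct]; exact mul_mem d₂.t_mem (mul_mem d₂.c_mem d₂.t_mem)

theorem rot_class {d : G} (hd : d ∈ D₂) (hd1 : d ≠ 1) :
    IsConj d d₂.c ∧ IsConj (d₁.z * d) (d₁.z * d₂.c) := by
  have hz := four_fix_z hp d₁ d₂ hk₁ hk₂ hn₀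
  have h1 : IsConj d₂.c d₂.t := isConj_map n₀ hct
  have h2 : IsConj d₂.t (d₂.c * d₂.t) := isConj_map n₀ htct
  have h1' : IsConj (d₁.z * d₂.c) (d₁.z * d₂.t) := isConj_map n₀ (by rw [← conj_mul, hz, hct])
  have h2' : IsConj (d₁.z * d₂.t) (d₁.z * (d₂.c * d₂.t)) :=
    isConj_map n₀ (by rw [← conj_mul, hz, htct])
  rcases d₂.four_elems hk₂ hd with rfl | rfl | rfl | rfl
  · exact absurd rfl hd1
  · exact ⟨IsConj.refl _, IsConj.refl _⟩
  · exact ⟨h1.symm, h1'.symm⟩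
  · exact ⟨(h1.trans h2).symm, (h1'.trans h2').symm⟩

theorem rot_classes :
    ¬ IsConj d₁.z d₂.c ∧ ¬ IsConj d₁.z (d₁.z * d₂.c) ∧ ¬ IsConj d₂.c (d₁.z * d₂.c) := by
  have hzS := hp.1 d₁.z_mem
  have hcS := hp.2.1 d₂.c_mem
  have hzc := four_central hp d₁ d₂ hk₁ hk₂ hzS (Or.inr (pr_left hp d₁.z_mem))
  have hcc := four_central hp d₁ d₂ hk₁ hk₂ hcS (Or.inl (pr_right hp d₂.c_mem))
  have hmS := mul_mem hzS hcS
  have hmc := four_central hp d₁ d₂ hk₁ hk₂ hmS (Or.inr (pr_mul_of hp d₁.z_mem d₂.c_mem))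
  have hc1 : d₂.c ≠ 1 := fun h => d₂.z_ne (by rw [Dih.z, h, one_pow])
  have hzfix : ∀ {y : G}, y ∈ (S : Subgroup G) → (∀ u ∈ (S : Subgroup G), y * u = u * y) →
      IsConj d₁.z y → y = d₁.z := fun hy hyc h => by
    obtain ⟨b, hb, ho, e⟩ := central_conj S hzS hy hzc hyc h
    rw [← e, four_fix_z hp d₁ d₂ hk₁ hk₂ hb]
  refine ⟨fun h => d₁.z_ne (uniq hp d₁.z_mem (one_mem _) (one_mem _) d₂.c_mem ?_).1,
    fun h => hc1 (mul_eq_left.mp (hzfix hmS hmc h)), fun h => ?_⟩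
  · rw [mul_one, one_mul]; exact (hzfix hcS hcc h).symm
  obtain ⟨b, hb, ho, e⟩ := central_conj S hcS hmS hcc hmc h
  have h2 := fix_of_fix_twice ho (x := d₂.c) (by
    rw [e, ← conj_mul, four_fix_z hp d₁ d₂ hk₁ hk₂ hb, e, ← mul_assoc, d₁.z_sq, one_mul])
  rw [e] at h2
  exact d₁.z_ne (mul_eq_right.mp h2)

theorem rot_hA : ∀ w ∈ (S : Subgroup G), (pr hp w = 1 ∨ pr hp w = d₁.z) →
    ¬ IsConj w (w * d₁.z) := by
  obtain ⟨k1, k2, k3⟩ := rot_classes hp d₁ d₂ hk₁ hk₂ hn₀ ho₀ hct htct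
  intro w hw hwz h
  have e := pr_decomp hp hw
  have hd := pr_mem (hp_symm hp) w
  set d := pr (hp_symm hp) w
  have hzd : d * d₁.z = d₁.z * d := (hp.2.2.1 _ d₁.z_mem d hd).symm
  by_cases hd1 : d = 1
  · rw [hd1, mul_one] at e
    rcases hwz with h' | h' <;> rw [h'] at e <;> rw [e] at h
    · rw [one_mul, isConj_one_right] at h; exact d₁.z_ne h
    · rw [d₁.z_sq, isConj_one_left] at h; exact d₁.z_ne h
  · obtain ⟨c1, c2⟩ := rot_class hp d₁ d₂ hk₁ hk₂ hn₀ ho₀ hct htct hd hd1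
    rcases hwz with h' | h' <;> rw [h'] at e <;> rw [e] at h
    · rw [one_mul, hzd] at h
      exact k3 ((c1.symm.trans h).trans c2)
    · rw [mul_assoc, hzd, ← mul_assoc, d₁.z_sq, one_mul] at h
      exact k3 ((c1.symm.trans h.symm).trans c2)

theorem rot_hB : ∀ w ∈ (S : Subgroup G), (pr hp w = 1 ∨ pr hp w = d₁.z) → IsConj d₁.z w →
    w = d₁.z := by
  intro w hw hwz h
  obtain ⟨b, hb, ho, e⟩ := central_conj S (hp.1 d₁.z_mem) hw
    (four_central hp d₁ d₂ hk₁ hk₂ (hp.1 d₁.z_mem) (Or.inr (pr_left hp d₁.z_mem)))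
    (four_central hp d₁ d₂ hk₁ hk₂ hw hwz) h
  rw [← e, four_fix_z hp d₁ d₂ hk₁ hk₂ hb]

omit hp hk₁ hk₂ hn₀ ho₀ hct htct in
/-- The class data at a reflection when the four-group is rotated. -/
def DataR (r e : G) : Prop :=
  IsConj (r * e) d₁.z ∧ ∀ d ∈ D₂, d ≠ 1 → IsConj (r * e * d) (d₁.z * d₂.c)

theorem dataR_conj {r e u : G} (hu : u ∈ D₁) (he : e ∈ D₂) (h : DataR d₁ d₂ r e) :
    DataR d₁ d₂ (u * r * u⁻¹) e := by
  have e1 : ∀ x ∈ D₂, u * r * u⁻¹ * x = u * (r * x) * u⁻¹ := fun x hx => by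
    rw [show u * r * u⁻¹ * x = u * r * (u⁻¹ * x) by group, hp.2.2.1 _ (inv_mem hu) x hx]; group
  refine ⟨by rw [e1 e he]; exact (isConj_conj u _).symm.trans h.1, fun d hd hd1 => ?_⟩
  rw [mul_assoc, e1 _ (mul_mem he hd), ← mul_assoc r]
  exact (isConj_conj u _).symm.trans (h.2 d hd hd1)

/-- A site whose normalizer moves the centre of `S` gives the class data. -/
theorem dataR_of_moved {Q : Subgroup G} (hQS : Q ≤ (S : Subgroup G))
    (hb : ¬ d₁.Big (Q ⊓ D₁)) (hD : D₂ ≤ Q) {r : G} (hr : r ∈ Q ⊓ D₁) (hrC : r ∉ d₁.C)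
    (hzQ : d₁.z ∈ Q) {n w : G} (hn : n ∈ normalizer (Q : Set G)) (hw : w ∈ Q)
    (hwz : pr hp w = 1 ∨ pr hp w = d₁.z) (hwout : pr hp (n * w * n⁻¹) ∉ d₁.C) :
    ∃ e ∈ D₂, DataR d₁ d₂ r e := by
  classical
  set q := hp_symm hp
  obtain ⟨k1, k2, k3⟩ := rot_classes hp d₁ d₂ hk₁ hk₂ hn₀ ho₀ hct htct
  have hcls := fun {d : G} => rot_class hp d₁ d₂ hk₁ hk₂ hn₀ ho₀ hct htct (d := d)
  have hcases := fun {x : G} (hx : x ∈ Q) =>
    site_cases_four hp d₁ d₂ hk₁ hk₂ hQS hb hD hr hrC hx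
  have hzout := site_moved hp d₁ d₂ hk₁ hk₂ hQS hb hD hr hrC
    (rot_hA hp d₁ d₂ hk₁ hk₂ hn₀ ho₀ hct htct) (rot_hB hp d₁ d₂ hk₁ hk₂ hn₀ ho₀ hct htct)
    hzQ hn hw hwz hwout
  set y := n * d₁.z * n⁻¹ with hydef
  have hyQ : y ∈ Q := conj_mem_of_mem_normalizer hn hzQ
  set e := pr q y with hedef
  have heD : e ∈ D₂ := pr_mem q y
  have hnotC : ∀ {a : G}, (a = 1 ∨ a = d₁.z) → a ∈ d₁.C := fun h => by
    rcases h with h | h <;> rw [h]
    exacts [one_mem _, d₁.z_mem_C]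
  have hre : IsConj (r * e) d₁.z := by
    rcases hcases hyQ with h | ⟨-, -, h⟩
    · exact absurd (hnotC h) hzout
    · exact h.symm.trans (isConj_conj n _).symm
  -- the value of the image of an element of the four-group
  let F : G → G := fun x => pr q x * (if pr hp x ∈ d₁.C then 1 else e)
  have hFin : ∀ {x : G}, pr hp x ∈ d₁.C → F x = pr q x := fun h => by simp [F, h]
  have hFout : ∀ {x : G}, pr hp x ∉ d₁.C → F x = pr q x * e := fun h => by simp [F, h]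
  have hFD : ∀ x, F x ∈ D₂ := fun x => mul_mem (pr_mem q x) (by split <;> [exact one_mem _; exact heD])
  have hnd : ∀ {d : G}, d ∈ D₂ → n * d * n⁻¹ ∈ Q := fun hd => conj_mem_of_mem_normalizer hn (hD hd)
  have hFmul : ∀ a ∈ Q, ∀ b ∈ Q, F (a * b) = F a * F b := by
    intro a ha b hb'
    have e1 := pr_mul hp (hQS ha) (hQS hb')
    have e2 := pr_mul q (hQS ha) (hQS hb')
    have hee := four_sq d₂ hk₂ heD
    by_cases hA : pr hp a ∈ d₁.C <;> by_cases hB : pr hp b ∈ d₁.C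
    · rw [hFin hA, hFin hB, hFin (e1 ▸ mul_mem hA hB), e2]
    · rw [hFin hA, hFout hB, hFout (fun h => hB (by
        rw [e1] at h; simpa using d₁.C.mul_mem (d₁.C.inv_mem hA) h)), e2, mul_assoc]
    · rw [hFout hA, hFin hB, hFout (fun h => hA (by
        rw [e1] at h; simpa using d₁.C.mul_mem h (d₁.C.inv_mem hB))), e2, mul_assoc, mul_assoc,
        four_comm d₂ hk₂ (pr_mem q b) heD]
    · rw [hFout hA, hFout hB, hFin (e1 ▸ d₁.mul_refl (pr_mem hp a) hA (pr_mem hp b) hB), e2,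
        show pr q a * e * (pr q b * e) = pr q a * (e * pr q b) * e by group,
        four_comm d₂ hk₂ heD (pr_mem q b),
        show pr q a * (pr q b * e) * e = pr q a * pr q b * (e * e) by group, hee, mul_one]
  let φ : D₂ → D₂ := fun d => ⟨F (n * d * n⁻¹), hFD _⟩
  have hinj : Function.Injective φ := by
    intro a b hab
    have hab' : F (n * (a : G) * n⁻¹) = F (n * (b : G) * n⁻¹) := congrArg Subtype.val hab
    have hm : (a : G) * b ∈ D₂ := mul_mem a.2 b.2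
    have h0 : F (n * ((a : G) * b) * n⁻¹) = 1 := by
      rw [← conj_mul, hFmul _ (hnd a.2) _ (hnd b.2), hab', four_sq d₂ hk₂ (hFD _)]
    by_contra hne
    have hd1 : (a : G) * b ≠ 1 := fun h => hne (Subtype.ext (by
      rw [mul_eq_one_iff_eq_inv.mp h, inv_eq_of_mul_eq_one_right (four_sq d₂ hk₂ b.2)]))
    have hc := (hcls hm hd1).1
    rcases hcases (hnd hm) with h | ⟨h, -, h'⟩
    · rw [hFin (hnotC h)] at h0
      have e' := pr_decomp hp (hQS (hnd hm))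
      rw [h0, mul_one] at e'
      rcases h with h | h <;> rw [h] at e'
      · exact hd1 (conj_eq_one_iff.mp e')
      · exact k1 ((isConj_map n e').symm.trans hc)
    · rw [hFout h] at h0
      rw [mul_eq_one_iff_eq_inv.mp h0, inv_eq_of_mul_eq_one_right (four_sq d₂ hk₂ heD)] at h'
      exact k1 (hre.symm.trans (h'.symm.trans ((isConj_conj n _).symm.trans hc)))
  have hsurj := Finite.surjective_of_injective hinj
  have hval : ∀ d ∈ D₂, d ≠ 1 →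
      ((pr hp (n * d * n⁻¹) = 1 ∨ pr hp (n * d * n⁻¹) = d₁.z) →
        IsConj (r * e * F (n * d * n⁻¹)) (d₁.z * d₂.c)) ∧
      (pr hp (n * d * n⁻¹) ∉ d₁.C → IsConj (r * e * F (n * d * n⁻¹)) d₂.c) := by
    intro d hd hd1
    obtain ⟨c1, c2⟩ := hcls hd hd1
    constructor
    · intro h
      have e' := pr_decomp hp (hQS (hnd hd))
      have hg : n * d * n⁻¹ = F (n * d * n⁻¹) := by
        rcases h with h | h
        · rw [hFin (by rw [h]; exact one_mem _)]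
          conv_lhs => rw [e', h, one_mul]
        · exfalso
          have hgD := pr_mem q (n * d * n⁻¹)
          rw [h] at e'
          by_cases hg1 : pr q (n * d * n⁻¹) = 1
          · rw [hg1, mul_one] at e'
            exact k1 ((isConj_map n e').symm.trans c1)
          · exact k3 ((c1.symm.trans (isConj_map n e')).trans (hcls hgD hg1).2)
      set g := F (n * d * n⁻¹) with hgdef
      have hzd : n * (d₁.z * d) * n⁻¹ = y * g := by rw [← conj_mul, hg]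
      have hygQ : y * g ∈ Q := mul_mem hyQ (hD (hFD _))
      rcases hcases hygQ with h' | ⟨-, -, h'⟩
      · refine absurd ?_ hzout
        rw [pr_mul hp (hQS hyQ) (hp.2.1 (hFD _)), pr_right hp (hFD _), mul_one] at h'
        exact hnotC h'
      · rw [pr_mul q (hQS hyQ) (hp.2.1 (hFD _)), pr_left q (hFD _), ← mul_assoc r] at h'
        exact h'.symm.trans ((hzd ▸ (isConj_conj n (d₁.z * d)).symm).trans c2)
    · intro h
      rcases hcases (hnd hd) with h' | ⟨-, -, h'⟩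
      · exact absurd (hnotC h') h
      · have e1 : e * F (n * d * n⁻¹) = pr q (n * d * n⁻¹) := by
          rw [hFout h, four_comm d₂ hk₂ (pr_mem q _) heD, ← mul_assoc, four_sq d₂ hk₂ heD, one_mul]
        rw [mul_assoc, e1]
        exact h'.symm.trans ((isConj_conj n d).symm.trans c1)
  have hcover : ∀ g ∈ D₂, g ≠ 1 →
      IsConj (r * e * g) (d₁.z * d₂.c) ∨ IsConj (r * e * g) d₂.c := by
    intro g hg hg1
    obtain ⟨⟨d, hd⟩, hdg⟩ := hsurj ⟨g, hg⟩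
    have hdg' : F (n * d * n⁻¹) = g := congrArg Subtype.val hdg
    have hd1 : d ≠ 1 := fun h => hg1 (by
      rw [← hdg', h, mul_one, mul_inv_cancel, hFin (by rw [pr_one]; exact one_mem _), pr_one])
    obtain ⟨v1, v2⟩ := hval d hd hd1
    rw [hdg'] at v1 v2
    rcases hcases (hnd hd) with h | ⟨h, -⟩
    · exact Or.inl (v1 h)
    · exact Or.inr (v2 h)
  have hc1 : d₂.c ≠ 1 := fun h => d₂.z_ne (by rw [Dih.z, h, one_pow])
  have ht1 : d₂.t ≠ 1 := fun h => d₂.t_out (h ▸ one_mem _)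
  have hct1 : d₂.c * d₂.t ≠ 1 := fun h => d₂.t_out (by
    rw [show d₂.t = d₂.c⁻¹ from (inv_eq_of_mul_eq_one_right h).symm]; exact inv_mem (mem_zpowers _))
  -- one of the three images is central
  obtain ⟨d, hd, hd1, hin⟩ : ∃ d ∈ D₂, d ≠ 1 ∧
      (pr hp (n * d * n⁻¹) = 1 ∨ pr hp (n * d * n⁻¹) = d₁.z) := by
    rcases hcases (hnd d₂.c_mem) with h | ⟨h, -⟩
    · exact ⟨_, d₂.c_mem, hc1, h⟩
    rcases hcases (hnd d₂.t_mem) with h' | ⟨h', -⟩
    · exact ⟨_, d₂.t_mem, ht1, h'⟩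
    refine ⟨_, mul_mem d₂.c_mem d₂.t_mem, hct1, ?_⟩
    rw [← conj_mul]
    exact site_mul_out hp d₁ d₂ hk₁ hk₂ hQS hb hD hr hrC (hnd d₂.c_mem) (hnd d₂.t_mem) h h'
  set g₀ := F (n * d * n⁻¹) with hg₀
  have hg₀1 : g₀ ≠ 1 := fun h => hd1 (congrArg Subtype.val (hinj (a₁ := ⟨d, hd⟩) (a₂ := 1)
    (Subtype.ext (by
      show F (n * d * n⁻¹) = F (n * (1 : G) * n⁻¹)
      rw [← hg₀, h, mul_one, mul_inv_cancel, hFin (by rw [pr_one]; exact one_mem _), pr_one]))))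
  have hP₀ : IsConj (r * e * g₀) (d₁.z * d₂.c) := (hval d hd hd1).1 hin
  -- the rotation respects the classes
  have hrot : ∀ g ∈ D₂, IsConj (r * e * g) (r * e * (n₀ * g * n₀⁻¹)) := by
    have hreQ : r * e ∈ (S : Subgroup G) := mul_mem (hp.1 hr.2) (hp.2.1 heD)
    have hyS := conj_mem_of_mem_normalizer hn₀ hreQ
    have hpar : ∀ j, r ∈ d₁.half j ↔ pr hp (n₀ * (r * e) * n₀⁻¹) ∈ d₁.half j := fun j => by
      have := parity hp d₁ le_rfl hp.1 (fun x _ => four_sq d₂ hk₂ (pr_mem q x)) hk₁ hn₀ ho₀ j _ hreQ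
      rwa [pr_mul_of hp hr.2 heD] at this
    have hout : pr hp (n₀ * (r * e) * n₀⁻¹) ∉ d₁.C := by
      intro h
      have e0 := (d₁.half_pow 0 h).trans (d₁.half_pow 1 h).symm
      rw [← hpar 0, ← hpar 1, d₁.half_one_iff hr.2 hrC] at e0
      tauto
    obtain ⟨u, hu, eu⟩ := d₁.refl_class hr.2 hrC (pr_mem hp _) hout (hpar 0)
    set e'' := pr q (n₀ * (r * e) * n₀⁻¹)
    have he'' : e'' ∈ D₂ := pr_mem q _
    have hmv : ∀ x ∈ D₂, u * r * u⁻¹ * x = u * (r * x) * u⁻¹ := fun x hx => by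
      rw [show u * r * u⁻¹ * x = u * r * (u⁻¹ * x) by group, hp.2.2.1 _ (inv_mem hu) x hx]; group
    have eimg : n₀ * (r * e) * n₀⁻¹ = u * (r * e'') * u⁻¹ := by
      conv_lhs => rw [pr_decomp hp hyS, eu, hmv _ he'']
    have hre'' : IsConj (r * e'') d₁.z :=
      ((isConj_map n₀ eimg).trans (isConj_conj u _).symm).symm.trans hre
    have hee : e'' = e := by
      by_contra hne
      have hge : e * e'' ≠ 1 := fun h => hne (by
        rw [← one_mul e'', ← four_sq d₂ hk₂ heD, mul_assoc, h, mul_one])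
      have h := hcover _ (mul_mem heD he'') hge
      rw [show r * e * (e * e'') = r * (e * e) * e'' by group, four_sq d₂ hk₂ heD, mul_one] at h
      rcases h with h | h
      · exact k2 (hre''.symm.trans h)
      · exact k1 (hre''.symm.trans h)
    intro g hg
    refine (isConj_map n₀ ?_).trans (isConj_conj u _).symm
    rw [← conj_mul, eimg, hee,
      show u * (r * e) * u⁻¹ * (n₀ * g * n₀⁻¹) = u * (r * e) * (u⁻¹ * (n₀ * g * n₀⁻¹)) by group,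
      hp.2.2.1 _ (inv_mem hu) _ (rot_mem hp d₁ d₂ hk₁ hk₂ hn₀ ho₀ hct htct hg)]
    group
  have hc := hrot _ d₂.c_mem
  rw [hct] at hc
  have ht := hrot _ d₂.t_mem
  rw [htct] at ht
  refine ⟨e, heD, hre, fun g hg hg1 => ?_⟩
  have hc' : IsConj (r * e * d₂.c) (d₁.z * d₂.c) := by
    rcases d₂.four_elems hk₂ (hFD (n * d * n⁻¹)) with h | h | h | h
    · exact absurd h hg₀1
    · rw [hg₀, h] at hP₀; exact hP₀
    · rw [hg₀, h] at hP₀; exact hc.trans hP₀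
    · rw [hg₀, h] at hP₀; exact (hc.trans ht).trans hP₀
  rcases d₂.four_elems hk₂ hg with rfl | rfl | rfl | rfl
  · exact absurd rfl hg1
  · exact hc'
  · exact hc.symm.trans hc'
  · exact (hc.trans ht).symm.trans hc'

theorem dataR_refl (h2 : ∀ N : Subgroup G, N.Normal → N.index ≠ 2) {r : G} (hr : r ∈ D₁)
    (hrC : r ∉ d₁.C) : ∃ e ∈ D₂, DataR d₁ d₂ r e := by
  by_contra hno
  set q := hp_symm hp
  obtain ⟨j, hrj, hother⟩ := d₁.exists_other_half hr hrC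
  let K : Subgroup G :=
    { carrier := {x | x ∈ (S : Subgroup G) ∧ pr hp x ∈ d₁.half j}
      one_mem' := ⟨one_mem _, by rw [pr_one]; exact one_mem _⟩
      mul_mem' := fun {a b} ha hb =>
        ⟨mul_mem ha.1 hb.1, by rw [pr_mul hp ha.1 hb.1]; exact mul_mem ha.2 hb.2⟩
      inv_mem' := fun {a} ha =>
        ⟨inv_mem ha.1, by rw [pr_inv hp ha.1]; exact (d₁.half j).inv_mem ha.2⟩ }
  refine contra_index_two hp h2 K (fun x hx => hx.1) (g := r) (hp.1 hr)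
    (fun h => hrj (pr_left hp hr ▸ h.2)) (fun b hb => ?_) fun hK => ?_
  · have h := d₁.mul_half j (pr_mem hp b) hr
    constructor
    · rintro ⟨-, h'⟩ ⟨-, h''⟩
      rw [pr_mul hp hb (hp.1 hr), pr_left hp hr] at h'
      exact hrj ((h.mp h').mp h'')
    · intro hn
      refine ⟨mul_mem hb (hp.1 hr), ?_⟩
      rw [pr_mul hp hb (hp.1 hr), pr_left hp hr]
      exact h.mpr (iff_of_false (fun h' => hn ⟨hb, h'⟩) hrj)
  refine memInv hp d₁ d₂ K hK ?_ ?_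
  · refine resp_all S (fullyNormalized_top S) hK fun n hn ho x hx => ?_
    have h := parity hp d₁ le_rfl hp.1 (fun y _ => four_sq d₂ hk₂ (pr_mem q y)) hk₁ hn ho j x hx
    exact ⟨fun hh => ⟨conj_mem_of_mem_normalizer hn hx, h.mp hh.2⟩,
      fun hh => ⟨hx, h.mpr hh.2⟩⟩
  rintro Q hQS hC hQn (⟨hrQ, hb, hnD, hD⟩ | ⟨-, -, hnD, -⟩)
  swap
  · exact absurd (four_D_le hp d₁ d₂ hk₁ hk₂ hC hQS) hnD
  obtain ⟨r', hr'Q, hr'C⟩ := hrQ
  have hcases := fun {x : G} (hx : x ∈ Q) =>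
    site_cases_four hp d₁ d₂ hk₁ hk₂ hQS hb hD hr'Q hr'C hx
  have hinK : ∀ x, (pr hp x = 1 ∨ pr hp x = d₁.z) → pr hp x ∈ d₁.half j := fun x h => by
    rcases h with h | h <;> rw [h]
    exacts [one_mem _, d₁.z_half hk₁ j]
  by_cases hr'j : r' ∈ d₁.half j
  · intro n hn x hx _
    have hy := conj_mem_of_mem_normalizer hn hx
    refine ⟨hQS hy, ?_⟩
    rcases hcases hy with h | ⟨-, h, -⟩
    · exact hinK _ h
    · rcases h with h | h <;> rw [h]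
      exacts [hr'j, mul_mem hr'j (d₁.z_half hk₁ j)]
  have hzQ : d₁.z ∈ Q := hC ⟨hp.1 d₁.z_mem, mem_centralizer_iff.mpr fun y hy =>
    z_central hp d₁ (hQS hy)⟩
  have hK' : ∀ {x : G}, x ∈ Q → (x ∈ K ↔ pr hp x = 1 ∨ pr hp x = d₁.z) := fun {x} hx =>
    ⟨fun h => (hcases hx).resolve_right fun ⟨_, h', _⟩ => hr'j (by
      rcases h' with h' | h'
      · rw [← h']; exact h.2
      · have := mul_mem h.2 (d₁.z_half hk₁ j)
        rwa [h', mul_assoc, d₁.z_sq, mul_one] at this), fun h => ⟨hQS hx, hinK x h⟩⟩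
  have hfwd : ∀ n ∈ normalizer (Q : Set G), ∀ x ∈ Q, x ∈ K → n * x * n⁻¹ ∈ K := by
    intro n hn x hx hxK
    rw [hK' (conj_mem_of_mem_normalizer hn hx)]
    refine (hcases (conj_mem_of_mem_normalizer hn hx)).resolve_right fun ⟨h, _, _⟩ => hno ?_
    obtain ⟨e, he, hd⟩ := dataR_of_moved hp d₁ d₂ hk₁ hk₂ hn₀ ho₀ hct htct hQS hb hD hr'Q hr'C hzQ
      hn hx ((hK' hx).mp hxK) h
    obtain ⟨u, hu, rfl⟩ := hother r' hr'Q.2 hr'C hr'j
    have := dataR_conj hp d₁ d₂ hk₁ hk₂ hn₀ ho₀ hct htct (inv_mem hu) he hd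
    rw [show u⁻¹ * (u * r * u⁻¹) * u⁻¹⁻¹ = r by group] at this
    exact ⟨e, he, this⟩
  exact hfwd

/-- The twisted factors are strongly closed. -/
theorem rot_factors (h2 : ∀ N : Subgroup G, N.Normal → N.index ≠ 2) :
    ∃ S₁ S₂ : Subgroup G, Cfsg.IsInternalDirectProduct S₁ S₂ (S : Subgroup G) ∧
      Nonempty (D₁ ≃* S₁) ∧ Nonempty (D₂ ≃* S₂) ∧
      Cfsg.IsStronglyClosed S₁ (S : Subgroup G) ∧ Cfsg.IsStronglyClosed S₂ (S : Subgroup G) := by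
  set q := hp_symm hp
  have hct' : d₁.c * d₁.t ∉ d₁.C := by
    have := d₁.refl_not_mem 1
    rwa [zpow_one] at this
  obtain ⟨e₀, he₀, hd₀⟩ := dataR_refl hp d₁ d₂ hk₁ hk₂ hn₀ ho₀ hct htct h2 d₁.t_mem d₁.t_out
  obtain ⟨e₁, he₁, hd₁⟩ :=
    dataR_refl hp d₁ d₂ hk₁ hk₂ hn₀ ho₀ hct htct h2 (mul_mem d₁.c_mem d₁.t_mem) hct'
  obtain ⟨k1, k2, k3⟩ := rot_classes hp d₁ d₂ hk₁ hk₂ hn₀ ho₀ hct htct
  set f := d₁.chi e₀ e₁ with hfdef
  have hfD : ∀ a, f a ∈ D₂ := d₁.chi_mem he₀ he₁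
  have ht0 : d₁.t ∈ d₁.half 0 := by simpa using (d₁.half_refl 0 0).mpr ⟨0, rfl⟩
  have hct0 : d₁.c * d₁.t ∉ d₁.half 0 := by
    have h1 := d₁.half_refl 0 1
    rw [zpow_one] at h1
    rw [h1]; simp
  have hf : ∀ a ∈ D₁, a ∉ d₁.C → DataR d₁ d₂ a (f a) := by
    intro a ha haC
    by_cases h : a ∈ d₁.half 0
    · obtain ⟨u, hu, rfl⟩ := d₁.refl_class d₁.t_mem d₁.t_out ha haC (iff_of_true ht0 h)
      rw [hfdef, (d₁.chi_refl e₀ e₁ ha haC).1 h]
      exact dataR_conj hp d₁ d₂ hk₁ hk₂ hn₀ ho₀ hct htct hu he₀ hd₀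
    · obtain ⟨u, hu, rfl⟩ := d₁.refl_class (mul_mem d₁.c_mem d₁.t_mem) hct' ha haC
        (iff_of_false hct0 h)
      rw [hfdef, (d₁.chi_refl e₀ e₁ ha haC).2 h]
      exact dataR_conj hp d₁ d₂ hk₁ hk₂ hn₀ ho₀ hct htct hu he₁ hd₁
  have hf1 : f 1 = 1 := d₁.chi_C e₀ e₁ 0 (one_mem _) (one_mem _)
  have hfz : f d₁.z = 1 := d₁.chi_z e₀ e₁ hk₁
  obtain ⟨S₁, S₂, hp', ⟨i₁⟩, ⟨i₂⟩, hm1, hm2⟩ := twist hp f (fun _ => (1 : G))
    (fun a _ => ⟨hfD a, fun y hy => four_comm d₂ hk₂ (hfD a) hy⟩)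
    (fun a ha b hb => d₁.chi_mul (four_sq d₂ hk₂ he₀) (four_sq d₂ hk₂ he₁)
      (four_comm d₂ hk₂ he₀ he₁) ha hb)
    (fun b _ => ⟨one_mem _, fun y _ => by simp⟩) (fun a _ b _ => (one_mul 1).symm)
    (fun b _ => hf1) (fun a _ => rfl)
  have hS1 : ∀ x ∈ S₁, x * x = 1 → x ≠ 1 → ∃ a ∈ D₁, a * f a = x ∧ (a = d₁.z ∨ a ∉ d₁.C) := by
    intro x hx hxx hx1
    obtain ⟨a, ha, rfl⟩ := (hm1 x).mp hx
    refine ⟨a, ha, rfl, invol_cases d₁ ha (invol_comp hp ha (hfD a) hxx).1 fun e => ?_⟩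
    exact hx1 (by rw [e, hf1, one_mul])
  have h1 : ∀ x ∈ S₁, x * x = 1 → x ≠ 1 → IsConj x d₁.z := by
    intro x hx hxx hx1
    obtain ⟨a, ha, rfl, rfl | haC⟩ := hS1 x hx hxx hx1
    · rw [hfz, mul_one]
    · exact (hf a ha haC).1
  have h1' : ∀ x ∈ S₂, x * x = 1 → x ≠ 1 → IsConj x d₂.c := by
    intro x hx hxx hx1
    obtain ⟨b, hb, rfl⟩ := (hm2 x).mp hx
    rw [one_mul] at hx1 ⊢
    exact (rot_class hp d₁ d₂ hk₁ hk₂ hn₀ ho₀ hct htct hb hx1).1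
  have h3 : ∀ x ∈ S₁, x * x = 1 → x ≠ 1 → ∀ y ∈ S₂, y * y = 1 → y ≠ 1 →
      IsConj (x * y) (d₁.z * d₂.c) := by
    intro x hx hxx hx1 y hy hyy hy1
    obtain ⟨a, ha, rfl, ha'⟩ := hS1 x hx hxx hx1
    obtain ⟨b, hb, rfl⟩ := (hm2 y).mp hy
    rw [one_mul] at hy1 ⊢
    rcases ha' with rfl | haC
    · rw [hfz, mul_one]
      exact (rot_class hp d₁ d₂ hk₁ hk₂ hn₀ ho₀ hct htct hb hy1).2
    · exact (hf a ha haC).2 b hb hy1
  obtain ⟨s₁⟩ := dih_of_equiv d₁ i₁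
  obtain ⟨s₂⟩ := dih_of_equiv d₂ i₂
  exact ⟨S₁, S₂, hp', ⟨i₁⟩, ⟨i₂⟩,
    isStronglyClosed_of_classes hp' s₁ s₂ h1 h1' h3 k1 k2,
    isStronglyClosed_of_classes (hp_symm hp') s₂ s₁ h1' h1
      (fun b hb hbb hb1 a ha haa ha1 => by
        rw [← hp'.2.2.1 a ha b hb]; exact h3 a ha haa ha1 b hb hbb hb1)
      (fun c => k1 c.symm) k3⟩

end Cfsg.Lib.TwoDihedral
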