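import Cfsg.Agent.TwoFusion.TwoDihedral.Basic

/-!
The two non-cyclic subgroups of index two of a dihedral 2-group, and its homomorphisms to
elementary abelian groups.
-/

set_option autoImplicit false
set_option linter.style.haveILetI false
set_option linter.unusedVariables false

namespace Cfsg.Lib.TwoDihedral

open Subgroup

variable {G : Type*} [Group G]

namespace Dih

variable {D : Subgroup G} (d : Dih D)

theorem t_sq : d.t * d.t = 1 := d.refl _ d.t_mem d.t_out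

theorem t_inv : d.t⁻¹ = d.t := inv_eq_of_mul_eq_one_right d.t_sq

theorem t_mul_zpow (i : ℤ) : d.t * d.c ^ i = d.c ^ (-i) * d.t := by
  have := d.conj_inv d.t_mem d.t_out (zpow_mem d.c_mem_C i)
  rw [← zpow_neg] at this
  exact mul_inv_eq_iff_eq_mul.mp this

theorem exists_rep {a : G} (ha : a ∈ D) : ∃ i : ℤ, a = d.c ^ i ∨ a = d.c ^ i * d.t := by
  rcases d.dec a ha with ⟨i, hi⟩ | ⟨i, hi⟩
  · exact ⟨i, Or.inl hi.symm⟩
  · refine ⟨i, Or.inr ?_⟩
    rw [show d.c ^ i = a * d.t from hi, mul_assoc, d.t_sq, mul_one]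

theorem zpow_ne_refl (i j : ℤ) : d.c ^ i ≠ d.c ^ j * d.t := fun h => d.t_out ⟨-j + i, by
  show d.c ^ (-j + i) = d.t
  rw [zpow_add, h, zpow_neg, inv_mul_cancel_left]⟩

theorem refl_not_mem (i : ℤ) : d.c ^ i * d.t ∉ d.C := fun ⟨j, h⟩ => d.zpow_ne_refl j i h

theorem exists_refl_rep {a : G} (ha : a ∈ D) (haC : a ∉ d.C) : ∃ i : ℤ, a = d.c ^ i * d.t := by
  obtain ⟨i, h | h⟩ := d.exists_rep ha
  · exact absurd (h ▸ zpow_mem d.c_mem_C i) haC
  · exact ⟨i, h⟩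

theorem even_sub_of_eq {i j : ℤ} (h : d.c ^ i = d.c ^ j) : Even (i - j) := by
  have h1 : d.c ^ (i - j) = 1 := by rw [zpow_sub, h, mul_inv_cancel]
  have h2 := orderOf_dvd_iff_zpow_eq_one.mpr h1
  rw [d.ord, Nat.cast_pow, pow_succ] at h2
  exact even_iff_two_dvd.mpr (dvd_trans (Dvd.intro_left _ rfl) h2)

/-- Even rotations and one class of reflections. -/
def half (j : ℤ) : Subgroup G where
  carrier := {a | ∃ i : ℤ, a = d.c ^ (2 * i) ∨ a = d.c ^ (2 * i + j) * d.t}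
  one_mem' := ⟨0, Or.inl (by simp)⟩
  mul_mem' := by
    rintro _ _ ⟨i, rfl | rfl⟩ ⟨i', rfl | rfl⟩
    · exact ⟨i + i', Or.inl (by rw [← zpow_add]; congr 1; ring)⟩
    · exact ⟨i + i', Or.inr (by rw [← mul_assoc, ← zpow_add]; congr 2; ring)⟩
    · exact ⟨i - i', Or.inr (by
        rw [mul_assoc, d.t_mul_zpow, ← mul_assoc, ← zpow_add]; congr 2; ring)⟩
    · exact ⟨i - i', Or.inl (by
        rw [← mul_assoc, mul_assoc _ d.t, d.t_mul_zpow, ← mul_assoc, mul_assoc, d.t_sq, mul_one,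
          ← zpow_add]
        congr 1; ring)⟩
  inv_mem' := by
    rintro _ ⟨i, rfl | rfl⟩
    · exact ⟨-i, Or.inl (by rw [← zpow_neg]; congr 1; ring)⟩
    · exact ⟨i, Or.inr (inv_eq_of_mul_eq_one_right (by
        rw [← mul_assoc, mul_assoc _ d.t, d.t_mul_zpow, ← mul_assoc, mul_assoc, d.t_sq, mul_one,
          ← zpow_add, add_neg_cancel, zpow_zero]))⟩

theorem half_le (j : ℤ) : d.half j ≤ D := by
  rintro _ ⟨i, rfl | rfl⟩
  · exact zpow_mem d.c_mem _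
  · exact mul_mem (zpow_mem d.c_mem _) d.t_mem

theorem half_zpow (j i : ℤ) : d.c ^ i ∈ d.half j ↔ Even i := by
  constructor
  · rintro ⟨l, h | h⟩
    · have := d.even_sub_of_eq h
      rwa [Int.even_sub, iff_true_right (even_two_mul l)] at this
    · exact absurd h (d.zpow_ne_refl _ _)
  · rintro ⟨l, rfl⟩
    exact ⟨l, Or.inl (by rw [two_mul])⟩

theorem half_refl (j i : ℤ) : d.c ^ i * d.t ∈ d.half j ↔ Even (i - j) := by
  constructor
  · rintro ⟨l, h | h⟩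
    · exact absurd h.symm (d.zpow_ne_refl _ _)
    · have := d.even_sub_of_eq (mul_right_cancel h)
      simp only [Int.even_sub, Int.even_add, even_two_mul, true_iff] at this ⊢
      exact this
  · rintro ⟨l, hl⟩
    exact ⟨l, Or.inr (by rw [show i = 2 * l + j by omega])⟩

theorem mul_half (j : ℤ) {a b : G} (ha : a ∈ D) (hb : b ∈ D) :
    a * b ∈ d.half j ↔ (a ∈ d.half j ↔ b ∈ d.half j) := by
  obtain ⟨i, rfl | rfl⟩ := d.exists_rep ha <;> obtain ⟨l, rfl | rfl⟩ := d.exists_rep hb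
  · rw [← zpow_add, half_zpow, half_zpow, half_zpow, Int.even_add]
  · rw [← mul_assoc, ← zpow_add, half_zpow, half_refl, half_refl, Int.even_sub, Int.even_add,
      Int.even_sub]
    tauto
  · rw [mul_assoc, d.t_mul_zpow, ← mul_assoc, ← zpow_add, half_zpow, half_refl, half_refl,
      Int.even_sub, Int.even_add, even_neg, Int.even_sub]
    tauto
  · rw [show d.c ^ i * d.t * (d.c ^ l * d.t) = d.c ^ i * (d.t * d.c ^ l) * d.t by group,
      d.t_mul_zpow, ← mul_assoc, ← zpow_add, mul_assoc, d.t_sq, mul_one, half_zpow, half_refl,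
      half_refl, Int.even_add, even_neg, Int.even_sub, Int.even_sub]
    tauto

theorem half_pow {a : G} (j : ℤ) (ha : a ∈ d.C) : a ∈ d.half j ↔ a ^ 2 ^ d.k = 1 := by
  obtain ⟨i, rfl⟩ := ha
  show d.c ^ i ∈ d.half j ↔ (d.c ^ i) ^ 2 ^ d.k = 1
  rw [half_zpow, ← zpow_natCast (d.c ^ i), ← zpow_mul, mul_comm, zpow_mul, zpow_natCast]
  show _ ↔ d.z ^ i = 1
  have hz2 : d.z ^ (2 : ℤ) = 1 := by rw [zpow_two]; exact d.z_sq
  rcases Int.even_or_odd i with ⟨l, rfl⟩ | ⟨l, rfl⟩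
  · exact iff_of_true ⟨l, rfl⟩ (by rw [← two_mul, zpow_mul, hz2, one_zpow])
  · refine iff_of_false (Int.not_even_iff_odd.mpr ⟨l, rfl⟩) ?_
    rw [zpow_add, zpow_mul, hz2, one_zpow, one_mul, zpow_one]
    exact d.z_ne

theorem cc_ne (hk : 1 ≤ d.k) : d.c * d.c ≠ 1 := by
  intro h
  have := Nat.le_of_dvd two_pos (orderOf_dvd_of_pow_eq_one (show d.c ^ 2 = 1 by rw [pow_two, h]))
  rw [d.ord] at this
  have : 2 ^ 2 ≤ 2 ^ (d.k + 1) := Nat.pow_le_pow_right two_pos (by omega)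
  omega

theorem z_half (hk : 1 ≤ d.k) (j : ℤ) : d.z ∈ d.half j := by
  rw [d.half_pow j d.z_mem_C, show 2 ^ d.k = 2 * 2 ^ (d.k - 1) by
    rw [← pow_succ', Nat.sub_add_cancel hk], pow_mul, pow_two, d.z_sq, one_pow]

theorem half_one_iff {a : G} (ha : a ∈ D) (haC : a ∉ d.C) : a ∈ d.half 1 ↔ a ∉ d.half 0 := by
  obtain ⟨i, rfl⟩ := d.exists_refl_rep ha haC
  rw [half_refl, half_refl, Int.even_sub, Int.even_sub]
  simp

theorem conj_half (j : ℤ) {a u : G} (ha : a ∈ D) (hu : u ∈ D) :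
    u * a * u⁻¹ ∈ d.half j ↔ a ∈ d.half j := by
  rw [d.mul_half j (mul_mem hu ha) (inv_mem hu), d.mul_half j hu ha,
    (d.half j).inv_mem_iff]
  tauto

theorem conj_not_mem_C {a u : G} (ha : a ∈ D) (haC : a ∉ d.C) (hu : u ∈ D) :
    u * a * u⁻¹ ∉ d.C := by
  intro h
  apply haC
  by_cases huC : u ∈ d.C
  · simpa [mul_assoc] using d.C.mul_mem (d.C.mul_mem (d.C.inv_mem huC) h) huC
  · have h1 := d.conj_inv (inv_mem hu) (fun h' => huC (by simpa using d.C.inv_mem h')) h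
    rw [show u⁻¹ * (u * a * u⁻¹) * u⁻¹⁻¹ = a by group] at h1
    rw [h1]; exact d.C.inv_mem h

theorem refl_class {a b : G} (ha : a ∈ D) (haC : a ∉ d.C) (hb : b ∈ D) (hbC : b ∉ d.C)
    (h : a ∈ d.half 0 ↔ b ∈ d.half 0) : ∃ u ∈ D, b = u * a * u⁻¹ := by
  have ht : d.t ∈ d.half 0 := by
    have := (d.half_refl 0 0).mpr ⟨0, rfl⟩
    simpa using this
  have hct : d.c * d.t ∉ d.half 0 := by
    have h1 := d.half_refl 0 1
    rw [zpow_one] at h1
    rw [h1]; simp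
  obtain ⟨u, hu, h1⟩ := d.refl_cases ha haC
  obtain ⟨v, hv, h2⟩ := d.refl_cases hb hbC
  have hu' := d.C_le hu
  have hv' := d.C_le hv
  rcases h1 with rfl | rfl <;> rcases h2 with rfl | rfl
  · exact ⟨v * u⁻¹, mul_mem hv' (inv_mem hu'), by group⟩
  · rw [d.conj_half 0 d.t_mem hu', d.conj_half 0 (mul_mem d.c_mem d.t_mem) hv'] at h
    exact absurd (h.mp ht) hct
  · rw [d.conj_half 0 d.t_mem hv', d.conj_half 0 (mul_mem d.c_mem d.t_mem) hu'] at h
    exact absurd (h.mpr ht) hct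
  · exact ⟨v * u⁻¹, mul_mem hv' (inv_mem hu'), by group⟩

theorem conj_z (hk : 1 ≤ d.k) {a : G} (ha : a ∈ D) (haC : a ∉ d.C) :
    ∃ u ∈ D, u * a * u⁻¹ = a * d.z := by
  refine ⟨d.c ^ 2 ^ (d.k - 1), pow_mem d.c_mem _, ?_⟩
  set u := d.c ^ 2 ^ (d.k - 1) with hu
  have huC : u ∈ d.C := pow_mem d.c_mem_C _
  have h1 : a * u⁻¹ = u * a := by
    have := d.conj_inv ha haC (d.C.inv_mem huC)
    rw [inv_inv] at this
    exact mul_inv_eq_iff_eq_mul.mp this
  have huu : u * u = d.z := by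
    rw [hu, ← pow_add, ← two_mul, ← pow_succ', Nat.sub_add_cancel hk]; rfl
  rw [mul_assoc, h1, ← mul_assoc, huu, d.z_comm ha]

theorem mul_z_refl {a : G} (ha : a ∈ D) (haC : a ∉ d.C) : a * d.z ∈ D ∧ a * d.z ∉ d.C :=
  ⟨mul_mem ha d.z_mem, fun h => haC (by simpa using d.C.mul_mem h (d.C.inv_mem d.z_mem_C))⟩

/-- An element of a four-subgroup containing a reflection `r`. -/
theorem four_cases {P : Subgroup G} (hP : P ≤ D) (hb : ¬ d.Big P) {r a : G} (hr : r ∈ P)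
    (hrC : r ∉ d.C) (ha : a ∈ P) : a = 1 ∨ a = d.z ∨ a = r ∨ a = r * d.z := by
  by_cases haC : a ∈ d.C
  · rcases d.four_mem hb ha haC with h | h
    · exact Or.inl h
    · exact Or.inr (Or.inl h)
  · have h2 := d.mul_refl (hP hr) hrC (hP ha) haC
    have e : a = r * (r * a) := by rw [← mul_assoc, d.refl r (hP hr) hrC, one_mul]
    rcases d.four_mem hb (P.mul_mem hr ha) h2 with h | h
    · exact Or.inr (Or.inr (Or.inl (by rw [e, h, mul_one])))
    · exact Or.inr (Or.inr (Or.inr (by rw [e, h])))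

open Classical in
/-- The homomorphism with prescribed values at the two classes of reflections. -/
noncomputable def chi (e₀ e₁ : G) (a : G) : G :=
  (if a ∈ d.half 1 then 1 else e₀) * (if a ∈ d.half 0 then 1 else e₁)

theorem chi_mem {e₀ e₁ : G} {A : Subgroup G} (h₀ : e₀ ∈ A) (h₁ : e₁ ∈ A) (a : G) :
    d.chi e₀ e₁ a ∈ A := by
  unfold chi
  refine mul_mem ?_ ?_ <;> split
  all_goals first | exact one_mem A | assumption

theorem chi_refl (e₀ e₁ : G) {a : G} (ha : a ∈ D) (haC : a ∉ d.C) :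
    (a ∈ d.half 0 → d.chi e₀ e₁ a = e₀) ∧ (a ∉ d.half 0 → d.chi e₀ e₁ a = e₁) := by
  have h := d.half_one_iff ha haC
  constructor <;> intro h0 <;> simp [chi, h0, h]

theorem chi_C (e₀ e₁ : G) (j : ℤ) {a : G} (ha : a ∈ d.C) (h : a ∈ d.half j) :
    d.chi e₀ e₁ a = 1 := by
  have h0 : a ∈ d.half 0 := (d.half_pow 0 ha).mpr ((d.half_pow j ha).mp h)
  have h1 : a ∈ d.half 1 := (d.half_pow 1 ha).mpr ((d.half_pow j ha).mp h)
  simp [chi, h0, h1]

theorem chi_z (e₀ e₁ : G) (hk : 1 ≤ d.k) : d.chi e₀ e₁ d.z = 1 :=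
  d.chi_C e₀ e₁ 0 d.z_mem_C (d.z_half hk 0)

theorem chi_mul {e₀ e₁ : G} (h₀ : e₀ * e₀ = 1) (h₁ : e₁ * e₁ = 1) (hc : e₀ * e₁ = e₁ * e₀)
    {a b : G} (ha : a ∈ D) (hb : b ∈ D) :
    d.chi e₀ e₁ (a * b) = d.chi e₀ e₁ a * d.chi e₀ e₁ b := by
  have hm := d.mul_half 0 ha hb
  have hm1 := d.mul_half 1 ha hb
  have hq : e₀ * e₁ * (e₀ * e₁) = 1 := by
    calc e₀ * e₁ * (e₀ * e₁) = e₀ * (e₁ * e₀) * e₁ := by group
      _ = e₀ * e₀ * (e₁ * e₁) := by rw [← hc]; group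
      _ = 1 := by rw [h₀, h₁, one_mul]
  have hr : e₁ * (e₀ * e₁) = e₀ := by rw [hc, ← mul_assoc, h₁, one_mul]
  have hl : e₀ * e₁ * e₀ = e₁ := by rw [hc, mul_assoc, h₀, mul_one]
  by_cases a0 : a ∈ d.half 0 <;> by_cases a1 : a ∈ d.half 1 <;>
    by_cases b0 : b ∈ d.half 0 <;> by_cases b1 : b ∈ d.half 1 <;>
    simp [chi, hm, hm1, a0, a1, b0, b1, h₀, h₁, hq, hr, hl, hc.symm, ← mul_assoc]
  all_goals (simp only [← mul_assoc] at *; simp_all)

end Dih

/-- A dihedral structure is carried along an isomorphism. -/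
theorem dih_of_equiv {A B : Subgroup G} (d : Dih A) (i : A ≃* B) : Nonempty (Dih B) := by
  let f : A →* G := B.subtype.comp i.toMonoidHom
  have hf : Function.Injective f := B.subtype_injective.comp i.injective
  let c : A := ⟨d.c, d.c_mem⟩
  have hC : ∀ a : A, f a ∈ zpowers (f c) ↔ (a : G) ∈ zpowers d.c := by
    intro a
    rw [← MonoidHom.map_zpowers]
    constructor
    · rintro ⟨b, ⟨j, rfl⟩, hb⟩
      obtain rfl := hf hb
      exact ⟨j, by simp [c]⟩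
    · rintro ⟨j, hj⟩
      exact ⟨c ^ j, ⟨j, rfl⟩, congrArg f (Subtype.ext (by simpa [c] using hj))⟩
  have hs : ∀ x ∈ B, ∃ a : A, f a = x := fun x hx => ⟨i.symm ⟨x, hx⟩, by simp [f]⟩
  refine ⟨{ c := f c, t := f ⟨d.t, d.t_mem⟩, k := d.k, c_mem := SetLike.coe_mem _,
            t_mem := SetLike.coe_mem _, ord := ?_, t_out := ?_, dec := ?_, refl := ?_ }⟩
  · rw [orderOf_injective f hf, Subgroup.orderOf_mk, d.ord]
  · rw [hC]; exact d.t_out
  · intro x hx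
    obtain ⟨a, rfl⟩ := hs x hx
    rcases d.dec a a.2 with h | h
    · exact Or.inl ((hC a).mpr h)
    · refine Or.inr ?_
      rw [← map_mul]
      exact (hC _).mpr h
  · intro x hx hxC
    obtain ⟨a, rfl⟩ := hs x hx
    rw [hC] at hxC
    rw [← map_mul, show a * a = 1 from Subtype.ext (d.refl a a.2 hxC), map_one]

end Cfsg.Lib.TwoDihedral
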