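import Cfsg.Agent.TwoFusion.TwoDihedral.Auto

/-!
Involutions of a Sylow 2-subgroup and a subgroup controlling them.
-/

set_option autoImplicit false
set_option linter.style.haveILetI false
set_option linter.unusedSectionVars false

namespace Cfsg.Lib.TwoDihedral

open Subgroup

variable {X : Type*} [Group X] [Finite X] (R : Sylow 2 X) (H : Subgroup X)
  (hRH : (R : Subgroup X) ≤ H)
  (hgood : ∀ x : X, ∀ σ ∈ (R : Subgroup X), σ ≠ 1 → x * σ * x⁻¹ ∈ (R : Subgroup X) → x ∈ H)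

include hRH hgood

theorem exists_conj_mem {i : X} (hi : i ∈ H) (hii : i * i = 1) :
    ∃ h ∈ H, h * i * h⁻¹ ∈ (R : Subgroup X) := by
  let i' : H := ⟨i, hi⟩
  have hp : IsPGroup 2 (zpowers i') := by
    rintro ⟨_, j, rfl⟩
    refine ⟨1, Subtype.ext (Subtype.ext ?_)⟩
    show (i ^ j) ^ 2 ^ 1 = 1
    rw [pow_one, ← zpow_natCast, ← zpow_mul, mul_comm, zpow_mul, zpow_natCast, pow_two, hii, one_zpow]
  obtain ⟨T, hT⟩ := hp.exists_le_sylow
  obtain ⟨h, hh⟩ := MulAction.exists_smul_eq H T (R.subtype hRH)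
  refine ⟨h, h.2, ?_⟩
  have h1 : h * i' * h⁻¹ ∈ ((h • T : Sylow 2 H) : Subgroup H) :=
    ⟨i', hT (mem_zpowers i'), rfl⟩
  rw [hh] at h1
  exact h1

theorem centralizer_le {i x : X} (hi : i ∈ H) (hii : i * i = 1) (hi1 : i ≠ 1)
    (hx : x * i = i * x) : x ∈ H := by
  obtain ⟨h, hh, hhi⟩ := exists_conj_mem R H hRH hgood hi hii
  have := hgood (h * x * h⁻¹) _ hhi (fun e => hi1 (conj_eq_one_iff.mp e)) (by
    rw [show h * x * h⁻¹ * (h * i * h⁻¹) * (h * x * h⁻¹)⁻¹ = h * (x * i * x⁻¹) * h⁻¹ by group,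
      hx, mul_inv_cancel_right]
    exact hhi)
  simpa [mul_assoc] using H.mul_mem (H.mul_mem (H.inv_mem hh) this) hh

theorem conj_not_mem {σ x : X} (hσ : σ ∈ (R : Subgroup X)) (hσσ : σ * σ = 1) (hσ1 : σ ≠ 1)
    (hx : x ∉ H) : x * σ * x⁻¹ ∉ H := by
  intro h
  obtain ⟨k, hk, hkm⟩ := exists_conj_mem R H hRH hgood h (by
    rw [show x * σ * x⁻¹ * (x * σ * x⁻¹) = x * (σ * σ) * x⁻¹ by group, hσσ, mul_one, mul_inv_cancel])
  have := hgood (k * x) σ hσ hσ1 (by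
    rwa [show k * x * σ * (k * x)⁻¹ = k * (x * σ * x⁻¹) * k⁻¹ by group])
  exact hx (by simpa using H.mul_mem (H.inv_mem hk) this)

theorem odd_mul_conj {σ τ x : X} (hσ : σ ∈ (R : Subgroup X)) (hσσ : σ * σ = 1) (hσ1 : σ ≠ 1)
    (hτ : τ ∈ (R : Subgroup X)) (hττ : τ * τ = 1) (hτ1 : τ ≠ 1) (hx : x ∉ H) :
    Odd (orderOf (σ * (x * τ * x⁻¹))) := by
  have hnot := conj_not_mem R H hRH hgood hτ hττ hτ1 hx
  set t := x * τ * x⁻¹ with ht
  have htt : t * t = 1 := by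
    rw [ht, show x * τ * x⁻¹ * (x * τ * x⁻¹) = x * (τ * τ) * x⁻¹ by group, hττ, mul_one, mul_inv_cancel]
  clear_value t
  set u := σ * t with hu
  clear_value u
  by_contra hodd
  rw [Nat.not_odd_iff_even] at hodd
  obtain ⟨m, hm⟩ := hodd
  have hpos := orderOf_pos u
  set i := u ^ m with hi
  have hi1 : i ≠ 1 := fun h => by
    have := Nat.le_of_dvd (by omega) (orderOf_dvd_of_pow_eq_one h)
    omega
  have hii : i * i = 1 := by rw [hi, ← pow_add, ← hm, pow_orderOf_eq_one]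
  have hiinv : i⁻¹ = i := inv_eq_of_mul_eq_one_right hii
  have hs : σ⁻¹ = σ := inv_eq_of_mul_eq_one_right hσσ
  have ht' : t⁻¹ = t := inv_eq_of_mul_eq_one_right htt
  have hcσ : i * σ = σ * i := by
    have h1 : σ * u * σ⁻¹ = u⁻¹ := by
      rw [hu, mul_inv_rev, ht', ← mul_assoc, hσσ, one_mul]
    have h2 : σ * i * σ⁻¹ = i := by rw [hi, ← conj_pow, h1, inv_pow, ← hi, hiinv]
    exact (mul_inv_eq_iff_eq_mul.mp h2).symm
  have hct : t * i = i * t := by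
    have h1 : t * u * t⁻¹ = u⁻¹ := by
      rw [hu, mul_inv_rev, hs, ht', mul_assoc, mul_assoc, htt, mul_one]
    have h2 : t * i * t⁻¹ = i := by rw [hi, ← conj_pow, h1, inv_pow, ← hi, hiinv]
    exact mul_inv_eq_iff_eq_mul.mp h2
  have hiH := centralizer_le R H hRH hgood (hRH hσ) hσσ hσ1 hcσ
  exact hnot (centralizer_le R H hRH hgood hiH hii hi1 hct)

theorem conj_of_bad {σ τ x : X} (hσ : σ ∈ (R : Subgroup X)) (hσσ : σ * σ = 1) (hσ1 : σ ≠ 1)
    (hτ : τ ∈ (R : Subgroup X)) (hττ : τ * τ = 1) (hτ1 : τ ≠ 1) (hx : x ∉ H) : IsConj σ τ := by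
  obtain ⟨k, hk⟩ := odd_mul_conj R H hRH hgood hσ hσσ hσ1 hτ hττ hτ1 hx
  set t := x * τ * x⁻¹ with ht
  clear_value t
  set u := σ * t with hu
  clear_value u
  have htt : t * t = 1 := by
    rw [ht, show x * τ * x⁻¹ * (x * τ * x⁻¹) = x * (τ * τ) * x⁻¹ by group, hττ, mul_one, mul_inv_cancel]
  have h1 : σ * (u ^ k)⁻¹ = u ^ k * σ := by
    have hu1 : σ * u * σ⁻¹ = u⁻¹ := by
      rw [hu, mul_inv_rev, inv_eq_of_mul_eq_one_right htt, ← mul_assoc, hσσ, one_mul,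
        inv_eq_of_mul_eq_one_right hσσ]
    have := congrArg (fun y => y⁻¹) (conj_pow (i := k) (a := σ) (b := u))
    simp only [hu1, inv_pow, inv_inv] at this
    rw [mul_inv_rev, mul_inv_rev, inv_inv, ← mul_assoc] at this
    calc σ * (u ^ k)⁻¹ = σ * (u ^ k)⁻¹ * σ⁻¹ * σ := by group
      _ = _ := by rw [← this]
  refine IsConj.trans (isConj_iff.mpr ⟨u ^ k, ?_⟩) (isConj_iff.mpr ⟨x⁻¹, by rw [ht, inv_inv]; group⟩ : IsConj t τ)
  have h2 : u ^ (2 * k + 1) = 1 := by rw [← hk]; exact pow_orderOf_eq_one u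
  calc u ^ k * σ * (u ^ k)⁻¹ = u ^ k * (σ * (u ^ k)⁻¹) := by rw [mul_assoc]
    _ = u ^ k * (u ^ k * σ) := by rw [h1]
    _ = u ^ (2 * k + 1) * (u⁻¹ * σ) := by group
    _ = t := by rw [h2, one_mul, hu, mul_inv_rev, inv_eq_of_mul_eq_one_right htt,
      inv_eq_of_mul_eq_one_right hσσ, mul_assoc, hσσ, mul_one]

end Cfsg.Lib.TwoDihedral
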