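import Cfsg.Agent.TwoFusion.TwoDihedral.Involutions
import Cfsg.Agent.Fusion.Essential
import Cfsg.Agent.Fusion.GroupSystem

/-!
Alperin's induction for a Sylow 2-subgroup which is the product of two dihedral groups: membership
in a subgroup is a fusion invariant as soon as it is one at the top and at the special sites
`V × D` with `V` a four-group in the other factor.
-/

set_option autoImplicit false
set_option linter.style.haveILetI false
set_option linter.unusedSectionVars false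
set_option linter.unusedVariables false

namespace Cfsg.Lib.TwoDihedral

open Subgroup Cfsg Cfsg.Lib.Fusion Cfsg.FusionSystem
open scoped commutatorElement

section Left

variable {G : Type*} [Group G] {D₁ D₂ : Subgroup G}

/-- `Q` is a four-subgroup of `D₁` (proper) times `D₂`. -/
def LeftSpecial (d₁ : Dih D₁) (D₂ Q : Subgroup G) : Prop :=
  d₁.Ref (Q ⊓ D₁) ∧ ¬ d₁.Big (Q ⊓ D₁) ∧ ¬ D₁ ≤ Q ∧ D₂ ≤ Q

end Left

section Chain

variable {Q : Type*} [Group Q]

/-- The stabilizer of a series. -/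
def stab (N : ℕ → Subgroup Q) (hN : ∀ (β : MulAut Q) (i : ℕ), ∀ x ∈ N i, β x ∈ N i) :
    Subgroup (MulAut Q) where
  carrier := {β | ∀ i, ∀ x ∈ N i, x⁻¹ * β x ∈ N (i + 1)}
  one_mem' := fun i x _ => by simp
  mul_mem' := fun {a b} ha hb i x hx => by
    have := mul_mem (hb i x hx) (ha i (b x) (hN b i x hx))
    simpa [mul_assoc] using this
  inv_mem' := fun {a} ha i x hx => by
    have := inv_mem (ha i (a⁻¹ x) (hN a⁻¹ i x hx))
    simpa using this

theorem stab_normal (N : ℕ → Subgroup Q) (hN : ∀ (β : MulAut Q) (i : ℕ), ∀ x ∈ N i, β x ∈ N i) :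
    (stab N hN).Normal :=
  ⟨fun β hβ γ i x hx => by
    have := hN γ (i + 1) _ (hβ i (γ⁻¹ x) (hN γ⁻¹ i x hx))
    simpa using this⟩

theorem stab_odd_trivial (hQ : IsPGroup 2 Q) (N : ℕ → Subgroup Q)
    (hN : ∀ (β : MulAut Q) (i : ℕ), ∀ x ∈ N i, β x ∈ N i) (h0 : N 0 = ⊤) {n : ℕ} (hn : N n = ⊥)
    {β : MulAut Q} (hβ : β ∈ stab N hN) (hodd : Odd (orderOf β)) : β = 1 := by
  have key : ∀ j, ∀ x ∈ N (n - j), β x = x := by
    intro j
    induction j with
    | zero => intro x hx; rw [Nat.sub_zero, hn, mem_bot] at hx; rw [hx, map_one]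
    | succ j ih =>
      intro x hx
      rcases Nat.lt_or_ge j n with h | h
      · refine fix_of_diff hQ hodd (ih _ ?_)
        rw [show n - j = n - (j + 1) + 1 by omega]
        exact hβ _ x hx
      · exact ih x (by rwa [show n - j = n - (j + 1) by omega])
  exact MulEquiv.ext fun x => key n x (by rw [Nat.sub_self, h0]; exact mem_top x)

theorem upperCentral_invariant (β : MulAut Q) (n : ℕ) :
    ∀ x ∈ Subgroup.upperCentralSeries Q n, β x ∈ Subgroup.upperCentralSeries Q n := by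
  induction n with
  | zero => intro x hx; rw [Subgroup.upperCentralSeries_zero, mem_bot] at hx ⊢; rw [hx, map_one]
  | succ n ih =>
    intro x hx y
    have h := ih _ (Subgroup.mem_upperCentralSeries_succ_iff.mp hx (β⁻¹ y))
    rwa [map_commutatorElement, show β (β⁻¹ y) = y from β.apply_symm_apply y] at h

/-- Closures of iterated squares. -/
def sqSeries (Q : Type*) [Group Q] : ℕ → Subgroup Q
  | 0 => ⊤
  | i + 1 => closure {x | ∃ y ∈ sqSeries Q i, x = y * y}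

theorem sqSeries_invariant (β : MulAut Q) : ∀ (i : ℕ), ∀ x ∈ sqSeries Q i, β x ∈ sqSeries Q i := by
  intro i
  induction i with
  | zero => intro x _; exact mem_top _
  | succ i ih =>
    intro x hx
    have h : sqSeries Q (i + 1) ≤ (sqSeries Q (i + 1)).comap β.toMonoidHom :=
      (closure_le _).mpr fun x ⟨y, hy, e⟩ =>
        subset_closure ⟨β y, ih y hy, by show β x = _; rw [e, map_mul]⟩
    exact h hx

theorem sqSeries_terminates [Finite Q] (hQ : IsPGroup 2 Q) : ∃ n, sqSeries Q n = ⊥ := by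
  have hle : ∀ i, sqSeries Q (i + 1) ≤ sqSeries Q i := fun i =>
    (closure_le _).mpr fun x ⟨y, hy, e⟩ => e ▸ mul_mem hy hy
  have hstep : ∀ i, sqSeries Q i ≠ ⊥ → Nat.card (sqSeries Q (i + 1)) < Nat.card (sqSeries Q i) := by
    intro i hi
    haveI : Nontrivial (sqSeries Q i) := (nontrivial_iff_ne_bot _).mpr hi
    obtain ⟨k, hk⟩ := (hQ.to_subgroup (sqSeries Q i)).exists_card_eq
    obtain ⟨k, rfl⟩ : ∃ j, k = j + 1 := ⟨k - 1, by
      have := Finite.one_lt_card (α := sqSeries Q i)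
      rcases k with _ | k <;> simp_all⟩
    obtain ⟨L, hL⟩ := Sylow.exists_subgroup_card_pow_prime (G := sqSeries Q i) 2 (n := k)
      (by rw [hk]; exact pow_dvd_pow 2 k.le_succ)
    have hidx : L.index = 2 := by
      have := L.card_mul_index
      rw [hL, hk, pow_succ] at this
      exact Nat.eq_of_mul_eq_mul_left (pow_pos two_pos k) this
    have hle' : sqSeries Q (i + 1) ≤ L.map (sqSeries Q i).subtype :=
      (closure_le _).mpr fun x ⟨y, hy, e⟩ =>
        ⟨⟨y, hy⟩ * ⟨y, hy⟩, mul_self_mem_of_index_two hidx _, e.symm⟩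
    refine lt_of_le_of_lt (card_le_of_le hle') ?_
    rw [card_map_of_injective (subtype_injective _), hL, hk]
    exact Nat.pow_lt_pow_right one_lt_two k.lt_succ_self
  by_contra h
  push Not at h
  have key : ∀ i, Nat.card (sqSeries Q i) + i ≤ Nat.card Q := by
    intro i
    induction i with
    | zero => exact Nat.le_of_eq (by simp [sqSeries])
    | succ i ih => have := hstep i (h i); omega
  have := key (Nat.card Q + 1)
  omega

end Chain

variable {G : Type*} [Group G] [Finite G] {S : Sylow 2 G} {D₁ D₂ : Subgroup G}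
  (hp : Cfsg.IsInternalDirectProduct D₁ D₂ (S : Subgroup G)) (d₁ : Dih D₁) (d₂ : Dih D₂)

/-- All maps at the sites are good for the class `Φ`. -/
abbrev Good (Φ : Subgroup G → (G → G) → Prop) (Q : Subgroup G) : Prop :=
  ∀ α ∈ (groupFusionSystem (S : Subgroup G)).autGroup Q, Φ Q (autFun α)

section Site

variable {Φ : Subgroup G → (G → G) → Prop}
  (hΦ : IsMapClass (groupFusionSystem (S : Subgroup G)) Φ) {Q : Subgroup G}
  (hQn : (groupFusionSystem (S : Subgroup G)).IsFullyNormalized Q)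
  (hC : centralizerIn (S : Subgroup G) Q ≤ Q)
  (hIH : ∀ (T : Subgroup G) (f : G → G), Nat.card Q < Nat.card T →
    IsMap (groupFusionSystem (S : Subgroup G)) T f → Φ T f)

include hΦ hQn hC hIH

theorem good_kernel (K₀ : Subgroup (MulAut Q)) (hK₀ : K₀.Normal)
    (hodd : ∀ β ∈ K₀, Odd (orderOf β) → β = 1) {g : G} (hg : g ∈ (S : Subgroup G)) (hgQ : g ∉ Q)
    (hgn : g ∈ normalizer (Q : Set G)) (hgK : conjAut Q g hgn ∈ K₀) : Good (S := S) Φ Q := by
  intro α hα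
  haveI : Finite (MulAut Q) :=
    Finite.of_injective (fun f : MulAut Q => (f : Q → Q)) DFunLike.coe_injective
  refine (good_of_normal (p := 2) S.isPGroup' (saturated_group S) hΦ hQn hIH
    (K := K₀ ⊓ (groupFusionSystem (S : Subgroup G)).autGroup Q) inf_le_right
    ((isPGroup_of_odd_trivial _ fun β hβ => hodd β hβ.1)) ?_ ?_ α hα).2
  · intro h
    exact hgQ (mem_of_inn hC hg hgn
      (h ⟨hgK, autInducedBy_le hQn.1 (conjAut_mem_autInducedBy hgn hg)⟩) hQn.1)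
  · intro γ hγ β hβ
    exact ⟨hK₀.conj_mem β hβ.1 γ, Subgroup.mul_mem _ (Subgroup.mul_mem _ hγ hβ.2) (Subgroup.inv_mem _ hγ)⟩

include hp

theorem good_of_not_product (h : ∃ x ∈ Q, pr hp x ∉ Q) : Good (S := S) Φ Q := by
  set q := hp_symm hp
  have hQS := hQn.1
  have hQ2 : IsPGroup 2 Q := S.isPGroup'.of_injective _ (inclusion_injective hQS)
  let Qh : Subgroup G :=
    { carrier := {x | x ∈ (S : Subgroup G) ∧ (∃ u ∈ Q, pr hp x = pr hp u) ∧
        ∃ u ∈ Q, pr q x = pr q u}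
      one_mem' := ⟨one_mem _, ⟨1, one_mem _, rfl⟩, 1, one_mem _, rfl⟩
      mul_mem' := by
        rintro a b ⟨ha, ⟨u, hu, eu⟩, v, hv, ev⟩ ⟨hb, ⟨u', hu', eu'⟩, v', hv', ev'⟩
        refine ⟨mul_mem ha hb, ⟨u * u', mul_mem hu hu', ?_⟩, v * v', mul_mem hv hv', ?_⟩
        · rw [pr_mul hp ha hb, pr_mul hp (hQS hu) (hQS hu'), eu, eu']
        · rw [pr_mul q ha hb, pr_mul q (hQS hv) (hQS hv'), ev, ev']
      inv_mem' := by
        rintro a ⟨ha, ⟨u, hu, eu⟩, v, hv, ev⟩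
        refine ⟨inv_mem ha, ⟨u⁻¹, Q.inv_mem hu, ?_⟩, v⁻¹, Q.inv_mem hv, ?_⟩
        · rw [pr_inv hp ha, pr_inv hp (hQS hu), eu]
        · rw [pr_inv q ha, pr_inv q (hQS hv), ev] }
  have hlt : Q < Qh := by
    refine lt_of_le_of_ne (fun x hx => ⟨hQS hx, ⟨x, hx, rfl⟩, x, hx, rfl⟩) fun e => ?_
    obtain ⟨x, hx, hxQ⟩ := h
    refine hxQ (e ▸ ⟨hp.1 (pr_mem hp x), ⟨x, hx, pr_left hp (pr_mem hp x)⟩, 1, one_mem _, ?_⟩)
    rw [pr_right (hp := q) (pr_mem hp x), pr_one]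
  obtain ⟨g, ⟨hgh, hgn⟩, hgQ⟩ := SetLike.exists_of_lt
    (lt_normalizerIn (S.isPGroup'.of_injective _ (inclusion_injective (fun x hx => hx.1 : Qh ≤ S))) hlt)
  obtain ⟨hgS, ⟨u, hu, eu⟩, v, hv, ev⟩ := hgh
  haveI : Group.IsNilpotent Q := hQ2.isNilpotent
  set n := Group.nilpotencyClass Q
  -- components of series elements determine series elements
  have joint : ∀ (k : ℕ) (y : Q), (∃ a ∈ Subgroup.upperCentralSeries Q k, pr hp y = pr hp (a : G)) →
      (∃ b ∈ Subgroup.upperCentralSeries Q k, pr q y = pr q (b : G)) → y ∈ Subgroup.upperCentralSeries Q k := by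
    intro k
    induction k with
    | zero =>
      rintro y ⟨a, ha, ea⟩ ⟨b, hb, eb⟩
      rw [Subgroup.upperCentralSeries_zero, mem_bot] at ha hb ⊢
      subst ha; subst hb
      exact Subtype.ext (eq_of_pr hp (hQS y.2) (one_mem _) ea eb)
    | succ k ih =>
      rintro y ⟨a, ha, ea⟩ ⟨b, hb, eb⟩ w
      have key : ∀ {A B : Subgroup G} (r : Cfsg.IsInternalDirectProduct A B (S : Subgroup G))
          (x : Q), pr r (y : G) = pr r (x : G) →
          pr r ((⁅y, w⁆ : Q) : G) = pr r ((⁅x, w⁆ : Q) : G) := by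
        intro A B r x e
        have hy := hQS y.2
        have hx := hQS x.2
        have hw := hQS w.2
        simp only [commutatorElement_def, Subgroup.coe_mul, Subgroup.coe_inv]
        rw [pr_mul r (mul_mem (mul_mem hy hw) (inv_mem hy)) (inv_mem hw),
          pr_mul r (mul_mem hy hw) (inv_mem hy), pr_mul r hy hw, pr_inv r hy,
          pr_mul r (mul_mem (mul_mem hx hw) (inv_mem hx)) (inv_mem hw),
          pr_mul r (mul_mem hx hw) (inv_mem hx), pr_mul r hx hw, pr_inv r hx, e]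
      exact ih _ ⟨_, ha w, key hp a ea⟩ ⟨_, hb w, key q b eb⟩
  refine good_kernel hΦ hQn hC hIH (stab (fun i => Subgroup.upperCentralSeries Q (n - i))
    fun β i => upperCentral_invariant β _) (stab_normal _ _) (fun β hβ ho => ?_) hgS hgQ hgn ?_
  · exact stab_odd_trivial hQ2 _ _ (n := n) (by simp only [Nat.sub_zero]; exact
      Subgroup.upperCentralSeries_nilpotencyClass) (by simp only [Nat.sub_self]; exact Subgroup.upperCentralSeries_zero Q)
      hβ ho
  · intro i x hx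
    dsimp only at hx ⊢
    rcases Nat.lt_or_ge i n with hin | hin
    · rw [show n - i = n - (i + 1) + 1 by omega] at hx
      have hx' : x⁻¹ ∈ Subgroup.upperCentralSeries Q (n - (i + 1) + 1) := inv_mem hx
      refine joint _ _ ⟨⁅x⁻¹, (⟨u, hu⟩ : Q)⁆, hx' _, ?_⟩ ⟨⁅x⁻¹, (⟨v, hv⟩ : Q)⁆, hx' _, ?_⟩
      all_goals
        simp only [commutatorElement_def, Subgroup.coe_mul, Subgroup.coe_inv, conjAut_apply, inv_inv]
      · have hxS := hQS x.2
        rw [pr_mul hp (inv_mem hxS) (mul_mem (mul_mem hgS hxS) (inv_mem hgS)),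
          pr_mul hp (mul_mem hgS hxS) (inv_mem hgS), pr_mul hp hgS hxS, pr_inv hp hgS,
          pr_mul hp (mul_mem (mul_mem (inv_mem hxS) (hQS hu)) hxS) (inv_mem (hQS hu)),
          pr_mul hp (mul_mem (inv_mem hxS) (hQS hu)) hxS, pr_mul hp (inv_mem hxS) (hQS hu),
          pr_inv hp (hQS hu), eu]
        group
      · have hxS := hQS x.2
        rw [pr_mul q (inv_mem hxS) (mul_mem (mul_mem hgS hxS) (inv_mem hgS)),
          pr_mul q (mul_mem hgS hxS) (inv_mem hgS), pr_mul q hgS hxS, pr_inv q hgS,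
          pr_mul q (mul_mem (mul_mem (inv_mem hxS) (hQS hv)) hxS) (inv_mem (hQS hv)),
          pr_mul q (mul_mem (inv_mem hxS) (hQS hv)) hxS, pr_mul q (inv_mem hxS) (hQS hv),
          pr_inv q (hQS hv), ev]
        group
    · rw [show n - i = 0 by omega, Subgroup.upperCentralSeries_zero, mem_bot] at hx
      rw [hx]; simp

include d₁

theorem good_of_cyclic (h1 : ∀ x ∈ Q, pr hp x ∈ Q) (hC1 : Q ⊓ D₁ = d₁.C) :
    Good (S := S) Φ Q := by
  have hQS := hQn.1
  set q := hp_symm hp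
  have hQ2 : IsPGroup 2 Q := S.isPGroup'.of_injective _ (inclusion_injective hQS)
  have hxC : ∀ x ∈ Q, pr hp x ∈ d₁.C := fun x hx => hC1 ▸ ⟨h1 x hx, pr_mem hp x⟩
  have hconj : ∀ x ∈ Q, d₁.t * x * d₁.t⁻¹ = x * (pr hp x * pr hp x)⁻¹ := by
    intro x hx
    have hb := pr_mem q x
    have e := d₁.conj_inv d₁.t_mem d₁.t_out (hxC x hx)
    have hx' := pr_decomp hp (hQS hx)
    set a := pr hp x with ha
    set b := pr q x
    have hab := hp.2.2.1 a (pr_mem hp x) b hb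
    have htb := hp.2.2.1 _ d₁.t_mem b hb
    rw [hx']
    calc d₁.t * (a * b) * d₁.t⁻¹ = d₁.t * a * (b * d₁.t⁻¹) := by group
      _ = d₁.t * a * (d₁.t⁻¹ * b) := by
          rw [← hp.2.2.1 _ (D₁.inv_mem d₁.t_mem) b hb]
      _ = a⁻¹ * b := by rw [← mul_assoc, e]
      _ = a⁻¹ * (b * a * a⁻¹) := by group
      _ = a⁻¹ * (a * b * a⁻¹) := by rw [hab]
      _ = b * a⁻¹ := by group
      _ = a * b * (a * a)⁻¹ := by rw [hab]; group
  have htn : d₁.t ∈ normalizer (Q : Set G) := mem_normalizer_of_maps_finite fun x hx => by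
    rw [hconj x hx]; exact Q.mul_mem hx (Q.inv_mem (Q.mul_mem (h1 x hx) (h1 x hx)))
  have htQ : d₁.t ∉ Q := fun h => d₁.t_out (by
    have : d₁.t ∈ d₁.C := hC1 ▸ ⟨h, d₁.t_mem⟩
    exact this)
  let φ : Q →* Q := MonoidHom.mk' (fun x => ⟨pr hp x, h1 x x.2⟩) fun x y => Subtype.ext (by
    simp only [Subgroup.coe_mul]; exact pr_mul hp (hQS x.2) (hQS y.2))
  have hφ : ∀ i, ∀ x ∈ sqSeries Q i, φ x ∈ sqSeries Q i := by
    intro i
    induction i with
    | zero => intro x _; exact mem_top _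
    | succ i ih =>
      intro x hx
      have h : sqSeries Q (i + 1) ≤ (sqSeries Q (i + 1)).comap φ :=
        (closure_le _).mpr fun x ⟨y, hy, e⟩ =>
          subset_closure ⟨φ y, ih y hy, by rw [e, map_mul]⟩
      exact h hx
  obtain ⟨n, hn⟩ := sqSeries_terminates hQ2
  refine good_kernel hΦ hQn hC hIH (stab (sqSeries Q) fun β => sqSeries_invariant β) (stab_normal _ _)
    (fun β hβ ho => stab_odd_trivial hQ2 _ _ rfl hn hβ ho) (hp.1 d₁.t_mem) htQ htn ?_
  intro i x hx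
  have e : x⁻¹ * conjAut Q d₁.t htn x = (φ x)⁻¹ * (φ x)⁻¹ := Subtype.ext (by
    simp only [Subgroup.coe_mul, Subgroup.coe_inv, conjAut_apply]
    rw [hconj x x.2]
    show (x : G)⁻¹ * ((x : G) * (pr hp x * pr hp x)⁻¹) = (pr hp x)⁻¹ * (pr hp x)⁻¹
    group)
  rw [e]
  exact subset_closure ⟨_, inv_mem (hφ i x hx), rfl⟩

include d₂

theorem good_of_big (h1 : ∀ x ∈ Q, pr hp x ∈ Q) (hr : d₁.Ref (Q ⊓ D₁)) (hb : d₁.Big (Q ⊓ D₁))
    (hr2 : d₂.Ref (Q ⊓ D₂)) (hD : ¬ D₁ ≤ Q) : Good (S := S) Φ Q := by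
  have hQS := hQn.1
  set q := hp_symm hp
  obtain ⟨g, ⟨hgD, hgn⟩, hgQ⟩ := SetLike.exists_of_lt
    (lt_normalizerIn (S.isPGroup'.of_injective _ (inclusion_injective hp.1))
      (lt_of_le_of_ne inf_le_right fun e => hD (e ▸ inf_le_left) : Q ⊓ D₁ < D₁))
  have hgQ' : g ∉ Q := fun h => hgQ ⟨h, hgD⟩
  have hgconj : ∀ x ∈ Q, g * x * g⁻¹ = g * pr hp x * g⁻¹ * ((pr hp x)⁻¹ * x) := by
    intro x hx
    have hb' := pr_mem q x
    have hx' := pr_decomp hp (hQS hx)
    set a := pr hp x with ha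
    set b := pr q x
    rw [hx']
    calc g * (a * b) * g⁻¹ = g * a * (b * g⁻¹) := by group
      _ = g * a * (g⁻¹ * b) := by rw [← hp.2.2.1 _ (D₁.inv_mem hgD) b hb']
      _ = _ := by group
  have hgQn : g ∈ normalizer (Q : Set G) := mem_normalizer_of_maps_finite fun x hx => by
    rw [hgconj x hx]
    exact Q.mul_mem (conj_mem_of_mem_normalizer hgn ⟨h1 x hx, pr_mem hp x⟩).1
      (Q.mul_mem (Q.inv_mem (h1 x hx)) hx)
  let K₀ : Subgroup (MulAut Q) :=
    { carrier := {β | ∀ x : Q, (∀ y : Q, x * y = y * x) → β x = x}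
      one_mem' := fun x _ => rfl
      mul_mem' := fun {a b} ha hb x hx => by rw [MulAut.mul_apply, hb x hx, ha x hx]
      inv_mem' := fun {a} ha x hx => by
        conv_lhs => rw [← ha x hx]
        exact a.symm_apply_apply x }
  have hK₀ : K₀.Normal := ⟨fun β hβ γ x hx => by
    have hc : ∀ y : Q, γ⁻¹ x * y = y * γ⁻¹ x := fun y => by
      have := congrArg (γ⁻¹ : MulAut Q) (hx (γ y))
      simpa using this
    show γ (β (γ⁻¹ x)) = x
    rw [hβ _ hc]
    exact γ.apply_symm_apply x⟩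
  refine good_kernel hΦ hQn hC hIH K₀ hK₀ (fun β hβ ho => odd_fix hp d₁ d₂ S.isPGroup' hQS h1 hr hb
    hr2 ho hβ) (hp.1 hgD) hgQ' hgQn fun x hx => Subtype.ext ?_
  have hc : ∀ y ∈ Q ⊓ D₁, pr hp x * y = y * pr hp x := fun y hy => by
    have := congrArg (fun w : Q => pr hp (w : G)) (hx ⟨y, hy.1⟩)
    simp only [Subgroup.coe_mul] at this
    rwa [pr_mul hp (hQS x.2) (hQS hy.1), pr_mul hp (hQS hy.1) (hQS x.2), pr_left hp hy.2] at this
  rw [conjAut_apply, hgconj x x.2]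
  have hcen : g * pr hp x * g⁻¹ = pr hp x := by
    rcases d₁.center_of_big inf_le_right hr hb (pr_mem hp _) hc with e | e <;> rw [e]
    · simp
    · rw [d₁.z_comm hgD, mul_inv_cancel_right]
  rw [hcen, mul_inv_cancel_left]

theorem four_witness (h1 : ∀ x ∈ Q, pr hp x ∈ Q) (hr : d₁.Ref (Q ⊓ D₁)) (hb : ¬ d₁.Big (Q ⊓ D₁))
    (hD : ¬ D₁ ≤ Q) :
    ∃ g ∈ D₁, ∃ hgn : g ∈ normalizer (Q : Set G),
      (∀ x ∈ Q, g * x * g⁻¹ = x ↔ pr hp x = 1 ∨ pr hp x = d₁.z) ∧ g * g ∈ Q ∧ d₁.z ∈ Q := by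
  have hQS := hQn.1
  set q := hp_symm hp
  obtain ⟨g, ⟨hgD, hgn⟩, hgQ⟩ := SetLike.exists_of_lt
    (lt_normalizerIn (S.isPGroup'.of_injective _ (inclusion_injective hp.1))
      (lt_of_le_of_ne inf_le_right fun e => hD (e ▸ inf_le_left) : Q ⊓ D₁ < D₁))
  have hgQ' : g ∉ Q := fun h => hgQ ⟨h, hgD⟩
  have hzQ : d₁.z ∈ Q := hC ⟨hp.1 d₁.z_mem, mem_centralizer_iff.mpr fun y hy =>
    z_central hp d₁ (hQS hy)⟩
  obtain ⟨r, hr, hrC⟩ := hr
  have hfix : ∀ a ∈ Q ⊓ D₁, (g * a * g⁻¹ = a ↔ a = 1 ∨ a = d₁.z) := by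
    intro a ha
    constructor
    · intro e
      by_cases haC : a ∈ d₁.C
      · exact d₁.four_mem hb ha haC
      · exfalso
        have e' : g * a = a * g := mul_inv_eq_iff_eq_mul.mp e
        by_cases hgC : g ∈ d₁.C
        · have h2 := d₁.conj_inv ha.2 haC hgC
          rw [← e', mul_inv_cancel_right] at h2
          rcases d₁.sq_eq_one_C hgC (mul_eq_one_iff_eq_inv.mpr h2) with e | e
          · exact hgQ' (e ▸ one_mem Q)
          · exact hgQ' (e ▸ hzQ)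
        · have h2 := d₁.mul_refl hgD hgC ha.2 haC
          have hga : g * a * (g * a) = 1 := by
            rw [show g * a * (g * a) = g * (a * g) * a by group, ← e',
              show g * (g * a) * a = g * g * (a * a) by group, d₁.refl g hgD hgC,
              d₁.refl a ha.2 haC, one_mul]
          rcases d₁.sq_eq_one_C h2 hga with e | e
          · exact hgQ' (by rw [mul_eq_one_iff_eq_inv.mp e]; exact Q.inv_mem ha.1)
          · refine hgQ' ?_
            rw [← mul_inv_cancel_right g a, e]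
            exact Q.mul_mem hzQ (Q.inv_mem ha.1)
    · rintro (e | e) <;> rw [e]
      · simp
      · rw [d₁.z_comm hgD, mul_inv_cancel_right]
  have hgconj : ∀ x ∈ Q, g * x * g⁻¹ = g * pr hp x * g⁻¹ * ((pr hp x)⁻¹ * x) := by
    intro x hx
    have hb' := pr_mem q x
    have hx' := pr_decomp hp (hQS hx)
    set a := pr hp x with ha
    set b := pr q x
    rw [hx']
    calc g * (a * b) * g⁻¹ = g * a * (b * g⁻¹) := by group
      _ = g * a * (g⁻¹ * b) := by rw [← hp.2.2.1 _ (D₁.inv_mem hgD) b hb']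
      _ = _ := by group
  refine ⟨g, hgD, mem_normalizer_of_maps_finite fun x hx => ?_, fun x hx => ?_, ?_, hzQ⟩
  · rw [hgconj x hx]
    exact Q.mul_mem (conj_mem_of_mem_normalizer hgn ⟨h1 x hx, pr_mem hp x⟩).1
      (Q.mul_mem (Q.inv_mem (h1 x hx)) hx)
  · rw [← hfix _ ⟨h1 x hx, pr_mem hp x⟩, hgconj x hx]
    constructor
    · intro e
      calc g * pr hp x * g⁻¹ = g * pr hp x * g⁻¹ * ((pr hp x)⁻¹ * x) * (x⁻¹ * pr hp x) := by group
        _ = _ := by rw [e, mul_inv_cancel_left]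
    · intro e; rw [e, mul_inv_cancel_left]
  · by_cases hgC : g ∈ d₁.C
    · have h2 := d₁.conj_inv hr.2 hrC hgC
      have h3 : g * r * g⁻¹ * r⁻¹ = g * g := by
        have h4 := d₁.conj_inv hr.2 hrC (d₁.C.inv_mem hgC)
        rw [inv_inv] at h4
        calc g * r * g⁻¹ * r⁻¹ = g * (r * g⁻¹ * r⁻¹) := by group
          _ = g * g := by rw [h4]
      rw [← h3]
      exact Q.mul_mem (conj_mem_of_mem_normalizer hgn hr).1 (Q.inv_mem hr.1)
    · rw [d₁.refl g hgD hgC]; exact one_mem Q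

theorem good_of_fours (h1 : ∀ x ∈ Q, pr hp x ∈ Q) (hr : d₁.Ref (Q ⊓ D₁)) (hb : ¬ d₁.Big (Q ⊓ D₁))
    (hD : ¬ D₁ ≤ Q) (hr2 : d₂.Ref (Q ⊓ D₂)) (hb2 : ¬ d₂.Big (Q ⊓ D₂)) (hD2 : ¬ D₂ ≤ Q) :
    Good (S := S) Φ Q := by
  classical
  have hQS := hQn.1
  set q := hp_symm hp
  have h2 : ∀ x ∈ Q, pr q x ∈ Q := fun x hx => by
    have := Q.mul_mem (Q.inv_mem (h1 x hx)) hx
    nth_rw 2 [pr_decomp hp (hQS hx)] at this
    rwa [inv_mul_cancel_left] at this
  have hab : ∀ x y : Q, x * y = y * x := fun x y => Subtype.ext (comm_of_pr hp (hQS x.2) (hQS y.2)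
    (d₁.comm_of_not_big inf_le_right hb ⟨h1 _ x.2, pr_mem hp _⟩ ⟨h1 _ y.2, pr_mem hp _⟩)
    (d₂.comm_of_not_big inf_le_right hb2 ⟨h2 _ x.2, pr_mem q _⟩ ⟨h2 _ y.2, pr_mem q _⟩))
  have hinn : ∀ β ∈ Inn Q, β = 1 := by
    rintro _ ⟨a, rfl⟩
    refine MulEquiv.ext fun x => ?_
    rw [MulAut.conj_apply, MulAut.one_apply, hab a x, mul_inv_cancel_right]
  obtain ⟨g, hg, hgn, hgfix, hgg, hz1⟩ := four_witness hp d₁ d₂ hΦ hQn hC hIH h1 hr hb hD
  obtain ⟨g', hg', hgn', hgfix', hgg', hz2⟩ := four_witness q d₂ d₁ hΦ hQn hC hIH h2 hr2 hb2 hD2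
  haveI : Finite (MulAut Q) :=
    Finite.of_injective (fun f : MulAut Q => (f : Q → Q)) DFunLike.coe_injective
  set F := groupFusionSystem (S : Subgroup G) with hF
  obtain ⟨-, hfa, hrec⟩ := fullyNormalized_props S.isPGroup' (saturated_group S) hQn
  obtain ⟨R, hR⟩ := hfa.2
  set H := (goodAut F Φ hΦ Q hQS).subgroupOf (F.autGroup Q) with hH
  have hRH : (R : Subgroup (F.autGroup Q)) ≤ H := by
    rw [hR]; exact fun β hβ => autInducedBy_le_good hΦ hQS hβ
  have hgood : ∀ x : F.autGroup Q, ∀ σ ∈ (R : Subgroup (F.autGroup Q)), σ ≠ 1 →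
      x * σ * x⁻¹ ∈ (R : Subgroup (F.autGroup Q)) → x ∈ H := by
    intro x σ hσ hσ1 hc
    rw [hR] at hσ hc
    exact good_of_conj (p := 2) hΦ hQS hrec hIH x.2 hσ
      (fun hI => hσ1 (Subtype.ext (hinn _ hI))) hc
  have hgS := hp.1 hg
  have hgS' := hp.2.1 hg'
  let mk : ∀ k : G, k ∈ (S : Subgroup G) → k ∈ normalizer (Q : Set G) → F.autGroup Q := fun k hk hn =>
    ⟨conjAut Q k hn, autInducedBy_le hQS (conjAut_mem_autInducedBy hn hk)⟩
  have hmkR : ∀ k hk hn, mk k hk hn ∈ (R : Subgroup (F.autGroup Q)) := fun k hk hn => by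
    rw [hR]; exact conjAut_mem_autInducedBy hn hk
  have hfixmk : ∀ k hk hn (x : Q), (mk k hk hn : MulAut Q) x = x ↔ k * x * k⁻¹ = (x : G) :=
    fun k hk hn x => Subtype.ext_iff.trans (by rw [conjAut_apply])
  have hsqmk : ∀ k hk hn, k * k ∈ Q → mk k hk hn * mk k hk hn = 1 := fun k hk hn hkk =>
    Subtype.ext (MulEquiv.ext fun x => Subtype.ext (by
      show k * (k * x * k⁻¹) * k⁻¹ = (x : G)
      have h := congrArg Subtype.val (hab ⟨k * k, hkk⟩ x)
      simp only [Subgroup.coe_mul] at h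
      calc k * (k * x * k⁻¹) * k⁻¹ = k * k * x * (k * k)⁻¹ := by group
        _ = x := by rw [h, mul_inv_cancel_right]))
  obtain ⟨r, hrQ, hrC⟩ := hr
  obtain ⟨r', hrQ', hrC'⟩ := hr2
  have hrne : ¬ (pr hp r = 1 ∨ pr hp r = d₁.z) := by
    rw [pr_left hp hrQ.2]; rintro (e | e)
    · exact hrC (e ▸ one_mem _)
    · exact hrC (e ▸ d₁.z_mem_C)
  have hgg'S := mul_mem hgS hgS'
  have hgg'n := mul_mem hgn hgn'
  set τ := mk g hgS hgn with hτ
  set ρ := mk (g * g') hgg'S hgg'n with hρ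
  have hτ1 : τ ≠ 1 := fun e => hrne ((hgfix r hrQ.1).mp ((hfixmk g hgS hgn ⟨r, hrQ.1⟩).mp (by
    rw [← hτ, e]; rfl)))
  have hgg'r : g * g' * r * (g * g')⁻¹ = g * r * g⁻¹ := by
    calc g * g' * r * (g * g')⁻¹ = g * (g' * r) * g'⁻¹ * g⁻¹ := by group
      _ = g * (r * g') * g'⁻¹ * g⁻¹ := by rw [hp.2.2.1 r hrQ.2 g' hg']
      _ = _ := by group
  have hρ1 : ρ ≠ 1 := fun e => hrne ((hgfix r hrQ.1).mp (hgg'r ▸
    (hfixmk _ hgg'S hgg'n ⟨r, hrQ.1⟩).mp (by rw [← hρ, e]; rfl)))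
  have hττ : τ * τ = 1 := hsqmk g hgS hgn hgg
  have hρρ : ρ * ρ = 1 := hsqmk _ hgg'S hgg'n (by
    rw [show g * g' * (g * g') = g * (g' * g) * g' by group, ← hp.2.2.1 g hg g' hg',
      show g * (g * g') * g' = g * g * (g' * g') by group]
    exact Q.mul_mem hgg hgg')
  intro α hα
  by_cases hαH : (⟨α, hα⟩ : F.autGroup Q) ∈ H
  · exact hαH.2
  exfalso
  have hconj := conj_of_bad R H hRH hgood (hmkR g hgS hgn) hττ hτ1 (hmkR (g * g') hgg'S hgg'n) hρρ hρ1 hαH
  obtain ⟨γ, hγ⟩ := isConj_iff.mp hconj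
  -- `γ` carries fixed points of `τ` to fixed points of `ρ`
  have hmove : ∀ x : Q, g * x * g⁻¹ = (x : G) →
      ((γ : MulAut Q) x : Q) ∈ ({x : Q | (pr hp x = 1 ∨ pr hp x = d₁.z) ∧
        (pr q x = 1 ∨ pr q x = d₂.z)} : Set Q) := by
    intro x hx
    set y := (γ : MulAut Q) x
    have hy : (ρ : MulAut Q) y = y := by
      have h := congrArg (fun u : F.autGroup Q => (u : MulAut Q) y) hγ
      simp only [Subgroup.coe_mul, Subgroup.coe_inv, MulAut.mul_apply] at h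
      rw [show ((γ : MulAut Q))⁻¹ y = x from (γ : MulAut Q).symm_apply_apply x,
        show (τ : MulAut Q) x = x from (hfixmk g hgS hgn x).mpr hx] at h
      exact h.symm
    have hyG := (hfixmk _ hgg'S hgg'n y).mp hy
    have hyS := hQS y.2
    have hsplit : ∀ {A B : Subgroup G} (w : Cfsg.IsInternalDirectProduct A B (S : Subgroup G))
        (k k' : G), k ∈ A → k' ∈ B → k * k' * (y : G) * (k * k')⁻¹ = y →
        k * pr w y * k⁻¹ = pr w y := by
      intro A B w k k' hk hk' e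
      have := congrArg (pr w) e
      rwa [pr_mul w (mul_mem (mul_mem (w.1 hk) (w.2.1 hk')) hyS)
        (inv_mem (mul_mem (w.1 hk) (w.2.1 hk'))),
        pr_mul w (mul_mem (w.1 hk) (w.2.1 hk')) hyS, pr_inv w (mul_mem (w.1 hk) (w.2.1 hk')),
        pr_mul_of w hk hk'] at this
    refine ⟨?_, ?_⟩
    · have := (hgfix (pr hp y) (h1 _ y.2)).mp (hsplit hp g g' hg hg' hyG)
      rwa [pr_left hp (pr_mem hp _)] at this
    · have := (hgfix' (pr q y) (h2 _ y.2)).mp (hsplit q g' g hg' hg (by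
        rw [← hp.2.2.1 g hg g' hg']; exact hyG))
      rwa [pr_left q (pr_mem q _)] at this
  have hzq : ∀ {a b : G}, a ∈ D₁ → b ∈ D₂ → a * b = 1 → a = 1 ∧ b = 1 := fun ha hb e =>
    uniq hp ha (one_mem _) hb (one_mem _) (e.trans (one_mul 1).symm)
  let z₁ : Q := ⟨d₁.z, hz1⟩
  let z₂ : Q := ⟨d₂.z, hz2⟩
  let w : Q := ⟨r', hrQ'.1⟩
  let pts : Finset Q := {1, z₁, z₂, z₁ * z₂, w}
  have hpts : pts.card = 5 := by
    have hw1 : w ≠ 1 := fun e => hrC' (by rw [show r' = 1 from congrArg Subtype.val e]; exact one_mem _)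
    have e1 : z₁ ≠ 1 := fun e => d₁.z_ne (congrArg Subtype.val e)
    have e2 : z₂ ≠ 1 := fun e => d₂.z_ne (congrArg Subtype.val e)
    have e3 : z₁ ≠ z₂ := fun e => d₁.z_ne (uniq hp d₁.z_mem (one_mem _) (one_mem _) d₂.z_mem
      (by rw [mul_one, one_mul]; exact congrArg Subtype.val e)).1
    have e4 : z₁ * z₂ ≠ 1 := fun e => d₁.z_ne (hzq d₁.z_mem d₂.z_mem (congrArg Subtype.val e)).1
    have e5 : w ≠ z₁ := fun e => d₁.z_ne (uniq hp d₁.z_mem (one_mem _) (one_mem _) hrQ'.2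
      (by rw [mul_one, one_mul]; exact (congrArg Subtype.val e).symm)).1
    have e6 : w ≠ z₂ := fun e => hrC' (by
      rw [show r' = d₂.z from congrArg Subtype.val e]; exact d₂.z_mem_C)
    have e7 : w ≠ z₁ * z₂ := fun e => d₁.z_ne (uniq hp d₁.z_mem (one_mem _) d₂.z_mem hrQ'.2
      (by rw [one_mul]; exact (congrArg Subtype.val e).symm)).1
    simp [pts, Ne.symm e1, Ne.symm e2, e3, Ne.symm e4, Ne.symm hw1, Ne.symm e5, Ne.symm e6,
      Ne.symm e7, e1, e2]
  have hfixpts : ∀ x ∈ pts, g * (x : G) * g⁻¹ = x := by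
    intro x hx
    rw [hgfix x x.2]
    simp only [pts, Finset.mem_insert, Finset.mem_singleton] at hx
    rcases hx with e | e | e | e | e <;> rw [e]
    · exact Or.inl (pr_one hp)
    · exact Or.inr (pr_left hp d₁.z_mem)
    · exact Or.inl (pr_right hp d₂.z_mem)
    · exact Or.inr (pr_mul_of hp d₁.z_mem d₂.z_mem)
    · exact Or.inl (pr_right hp hrQ'.2)
  have hsub : pts.image (fun x => (γ : MulAut Q) x) ⊆ ({1, z₁, z₂, z₁ * z₂} : Finset Q) := by
    intro y hy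
    obtain ⟨x, hx, rfl⟩ := Finset.mem_image.mp hy
    obtain ⟨ha, hb⟩ := hmove x (hfixpts x hx)
    have hdec := pr_decomp hp (hQS ((γ : MulAut Q) x).2)
    simp only [Finset.mem_insert, Finset.mem_singleton]
    rcases ha with ha | ha <;> rcases hb with hb | hb <;> rw [ha, hb] at hdec
    · exact Or.inl (Subtype.ext (by rw [hdec]; simp))
    · exact Or.inr (Or.inr (Or.inl (Subtype.ext (by rw [hdec]; simp [z₂]))))
    · exact Or.inr (Or.inl (Subtype.ext (by rw [hdec]; simp [z₁])))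
    · exact Or.inr (Or.inr (Or.inr (Subtype.ext (by rw [hdec]; rfl))))
  have := Finset.card_le_card hsub
  rw [Finset.card_image_of_injective _ (γ : MulAut Q).injective, hpts] at this
  have h4 : ({1, z₁, z₂, z₁ * z₂} : Finset Q).card ≤ 4 := Finset.card_le_four
  omega

theorem site_cases (hQS' : Q < (S : Subgroup G)) :
    Good (S := S) Φ Q ∨ LeftSpecial d₁ D₂ Q ∨ LeftSpecial d₂ D₁ Q := by
  have hQS := hQn.1
  set q := hp_symm hp
  by_cases h1 : ∀ x ∈ Q, pr hp x ∈ Q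
  swap
  · push Not at h1
    exact Or.inl (good_of_not_product hp hΦ hQn hC hIH h1)
  have h2 : ∀ x ∈ Q, pr q x ∈ Q := fun x hx => by
    have := Q.mul_mem (Q.inv_mem (h1 x hx)) hx
    nth_rw 2 [pr_decomp hp (hQS hx)] at this
    rwa [inv_mul_cancel_left] at this
  have hcen : ∀ {A B : Subgroup G} (w : Cfsg.IsInternalDirectProduct A B (S : Subgroup G)),
      (∀ x ∈ Q, pr w x ∈ Q) → ∀ a ∈ A, (∀ y ∈ Q ⊓ A, a * y = y * a) → a ∈ Q ⊓ A := by
    intro A B w hw a ha hcomm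
    refine ⟨hC ⟨w.1 ha, mem_centralizer_iff.mpr fun y hy => ?_⟩, ha⟩
    refine (comm_of_pr w (w.1 ha) (hQS hy) ?_ ?_).symm
    · rw [pr_left w ha]; exact hcomm _ ⟨hw y hy, pr_mem w y⟩
    · rw [pr_right (hp := hp_symm w) ha]; simp
  rcases d₁.eq_C_or_ref inf_le_right (hcen hp h1) with hC1 | hr
  · exact Or.inl (good_of_cyclic hp d₁ hΦ hQn hC hIH h1 hC1)
  rcases d₂.eq_C_or_ref inf_le_right (hcen q h2) with hC2 | hr2
  · exact Or.inl (good_of_cyclic q d₂ hΦ hQn hC hIH h2 hC2)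
  by_cases hb : d₁.Big (Q ⊓ D₁) ∧ ¬ D₁ ≤ Q
  · exact Or.inl (good_of_big hp d₁ d₂ hΦ hQn hC hIH h1 hr hb.1 hr2 hb.2)
  by_cases hb2 : d₂.Big (Q ⊓ D₂) ∧ ¬ D₂ ≤ Q
  · exact Or.inl (good_of_big q d₂ d₁ hΦ hQn hC hIH h2 hr2 hb2.1 hr hb2.2)
  push Not at hb hb2
  by_cases hD : D₁ ≤ Q <;> by_cases hD2 : D₂ ≤ Q
  · exact absurd (hp.2.2.2.2 ▸ sup_le hD hD2 : (S : Subgroup G) ≤ Q) hQS'.not_ge
  · exact Or.inr (Or.inr ⟨hr2, fun h => hD2 (hb2 h), hD2, hD⟩)
  · exact Or.inr (Or.inl ⟨hr, fun h => hD (hb h), hD, hD2⟩)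
  · exact Or.inl (good_of_fours hp d₁ d₂ hΦ hQn hC hIH h1 hr (fun h => hD (hb h)) hD hr2
      (fun h => hD2 (hb2 h)) hD2)

end Site

include hp d₁ d₂

/-- Membership in `K` is a fusion invariant as soon as it is one at the top and at special sites. -/
theorem memInv (K : Subgroup G) (hK : ∀ s ∈ (S : Subgroup G), ∀ x ∈ K, s * x * s⁻¹ ∈ K)
    (htop : ∀ n ∈ normalizer ((S : Subgroup G) : Set G), ∀ x ∈ (S : Subgroup G), x ∈ K → n * x * n⁻¹ ∈ K)
    (hspec : ∀ Q : Subgroup G, Q ≤ (S : Subgroup G) → centralizerIn (S : Subgroup G) Q ≤ Q →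
      (groupFusionSystem (S : Subgroup G)).IsFullyNormalized Q →
      LeftSpecial d₁ D₂ Q ∨ LeftSpecial d₂ D₁ Q →
      ∀ n ∈ normalizer (Q : Set G), ∀ x ∈ Q, x ∈ K → n * x * n⁻¹ ∈ K) :
    ∀ x ∈ (S : Subgroup G), ∀ g : G, g * x * g⁻¹ ∈ (S : Subgroup G) →
      (x ∈ K ↔ g * x * g⁻¹ ∈ K) := by
  set F := groupFusionSystem (S : Subgroup G)
  let Φ : Subgroup G → (G → G) → Prop := fun P f => ∀ x ∈ P, (x ∈ K ↔ f x ∈ K)
  have iffConj : ∀ (P : Subgroup G) (n : G), n ∈ normalizer (P : Set G) →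
      (∀ m ∈ normalizer (P : Set G), ∀ x ∈ P, x ∈ K → m * x * m⁻¹ ∈ K) →
      ∀ x ∈ P, (x ∈ K ↔ n * x * n⁻¹ ∈ K) := fun P n hn h x hx => ⟨h n hn x hx, fun hm => by
    have := h n⁻¹ (inv_mem hn) _ (conj_mem_of_mem_normalizer hn hx) hm
    simpa [mul_assoc] using this⟩
  have hΦ : IsMapClass F Φ :=
    { conj := fun P g hP hg x hx => ⟨hK g hg x, fun h => by
        have := hK g⁻¹ (inv_mem hg) _ h
        simpa [mul_assoc] using this⟩
      congr := fun P f f' _ e h x hx => by rw [e x hx]; exact h x hx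
      mono := fun P R f _ hR h x hx => h x (hR hx)
      comp := fun P Q f g _ _ hfQ hf hg x hx => (hf x hx).trans (hg _ (hfQ x hx))
      inv := fun P f g hf _ hl h y hy => by
        obtain ⟨x, hx, rfl⟩ := hf.mem_img.mp hy
        rw [hl x hx]; exact (h x hx).symm }
  intro x hx g hgx
  have hmap : IsMap F (zpowers x) (fun y => g * y * g⁻¹) := by
    refine isMap_group_iff.mpr ⟨zpowers_le.mpr hx, ?_, g, fun _ _ => rfl⟩
    rintro _ ⟨i, rfl⟩
    show g * x ^ i * g⁻¹ ∈ (S : Subgroup G)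
    rw [← conj_zpow]; exact zpow_mem hgx i
  refine alperin_induction (p := 2) S.isPGroup' (saturated_group S) hΦ ?_ ?_ hmap x (mem_zpowers x)
  · intro f hf
    obtain ⟨-, hfS, n, hn⟩ := isMap_group_iff.mp hf
    intro y hy
    rw [hn y hy]
    exact iffConj _ n (mem_normalizer_of_maps_finite fun u hu => hn u hu ▸ hfS u hu) htop y hy
  · intro Q hQS' hQn hQc hIH α hα
    have hC := hQc.2 Q (isConj_refl hQn.1)
    rcases site_cases hp d₁ d₂ hΦ hQn hC hIH hQS' with h | h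
    · exact h α hα
    · rw [autGroup_group hQn.1] at hα
      obtain ⟨n, -, hn⟩ := mem_autInducedBy.mp hα
      intro y hy
      rw [autFun_apply_mem α hy, hn]
      exact iffConj Q n (mem_normalizer_of_mem_autInducedBy hn) (hspec Q hQn.1 hC hQn h) y hy

end Cfsg.Lib.TwoDihedral
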