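import Cfsg.Agent.TwoFusion.TwoDihedral.Half
import Cfsg.Agent.TwoFusion.TwoDihedral.Site
import Cfsg.Agent.TwoFusion.FusionTools

/-!
Tools for the fusion in a group with Sylow 2-subgroup a product of two dihedral groups.
-/

set_option autoImplicit false
set_option linter.style.haveILetI false
set_option linter.unusedSectionVars false
set_option linter.unusedVariables false

namespace Cfsg.Lib.TwoDihedral

open Subgroup Cfsg.Lib.Fusion

section Basic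

variable {G : Type*} [Group G]

theorem fix_of_fix_twice {n x : G} (hn : Odd (orderOf n)) (h : n * (n * x * n⁻¹) * n⁻¹ = x) :
    n * x * n⁻¹ = x := by
  obtain ⟨m, hm⟩ := hn
  have h2 : Commute (n ^ 2) x := by
    show n ^ 2 * x = x * n ^ 2
    calc n ^ 2 * x = n * (n * x * n⁻¹) * n⁻¹ * n ^ 2 := by rw [pow_two]; group
      _ = _ := by rw [h]
  have h3 : n = (n ^ 2) ^ (m + 1) := by
    rw [← pow_mul, show 2 * (m + 1) = orderOf n + 1 by omega, pow_succ, pow_orderOf_eq_one, one_mul]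
  have h4 := h2.pow_left (m + 1)
  rw [← h3] at h4
  exact mul_inv_eq_iff_eq_mul.mpr h4.eq

theorem isConj_conj (u x : G) : IsConj x (u * x * u⁻¹) := isConj_iff.mpr ⟨u, rfl⟩

theorem isConj_map {x y : G} (n : G) (h : n * x * n⁻¹ = y) : IsConj x y := isConj_iff.mpr ⟨n, h⟩

variable {S D₁ D₂ : Subgroup G} (hp : Cfsg.IsInternalDirectProduct D₁ D₂ S)

include hp

theorem pr_conj {u x : G} (hu : u ∈ S) (hx : x ∈ S) :
    pr hp (u * x * u⁻¹) = pr hp u * pr hp x * (pr hp u)⁻¹ := by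
  rw [pr_mul hp (mul_mem hu hx) (inv_mem hu), pr_mul hp hu hx, pr_inv hp hu]

theorem pr_pow {x : G} (hx : x ∈ S) (m : ℕ) : pr hp (x ^ m) = pr hp x ^ m := by
  induction m with
  | zero => rw [pow_zero, pow_zero, pr_one]
  | succ m ih => rw [pow_succ, pow_succ, pr_mul hp (pow_mem hx m) hx, ih]

theorem comm_left {a : G} (ha : a ∈ D₁) {b : G} (hb : b ∈ D₂) : a * b = b * a := hp.2.2.1 a ha b hb

/-- The components of a central element are central in the factors. -/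
theorem central_pr {x : G} (hx : x ∈ S) (hc : ∀ y ∈ S, x * y = y * x) {a : G} (ha : a ∈ D₁) :
    pr hp x * a = a * pr hp x := by
  have := congrArg (pr hp) (hc a (hp.1 ha))
  rwa [pr_mul hp hx (hp.1 ha), pr_mul hp (hp.1 ha) hx, pr_left hp ha] at this

theorem central_of_pr {x : G} (hx : x ∈ S) (h1 : ∀ a ∈ D₁, pr hp x * a = a * pr hp x)
    (h2 : ∀ b ∈ D₂, pr (hp_symm hp) x * b = b * pr (hp_symm hp) x) :
    ∀ y ∈ S, x * y = y * x := fun y hy =>
  comm_of_pr hp hx hy (h1 _ (pr_mem hp y)) (h2 _ (pr_mem (hp_symm hp) y))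

end Basic

section Finite

variable {G : Type*} [Group G] [Finite G]

/-- On a subgroup containing the first factor, with elementary second component, the automorphisms
of odd order preserve the two index-two subgroups. -/
theorem parity {S D₁ D₂ : Subgroup G} (hp : Cfsg.IsInternalDirectProduct D₁ D₂ S) (d₁ : Dih D₁)
    {Q : Subgroup G} (hQS : Q ≤ S) (hD : D₁ ≤ Q)
    (h2 : ∀ x ∈ Q, pr (hp_symm hp) x * pr (hp_symm hp) x = 1) (hk : 1 ≤ d₁.k) {n : G}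
    (hn : n ∈ normalizer (Q : Set G)) (ho : Odd (orderOf n)) (j : ℤ) :
    ∀ x ∈ Q, (pr hp x ∈ d₁.half j ↔ pr hp (n * x * n⁻¹) ∈ d₁.half j) := by
  set q := hp_symm hp
  have hsplit : ∀ x ∈ Q, pr hp x * pr hp x = 1 → x * x = 1 := fun x hx h =>
    eq_of_pr hp (mul_mem (hQS hx) (hQS hx)) (one_mem S) (by rw [pr_mul hp (hQS hx) (hQS hx), h, pr_one])
      (by rw [pr_mul q (hQS hx) (hQS hx), h2 x hx, pr_one])
  have hsq : ∀ x ∈ Q, x * x ≠ 1 → pr hp x ∈ d₁.C := fun x hx hne => by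
    by_contra h
    exact hne (hsplit x hx (d₁.refl _ (pr_mem hp x) h))
  have hconjQ : ∀ m ∈ normalizer (Q : Set G), ∀ x ∈ Q, m * x * m⁻¹ ∈ Q := fun m hm x hx =>
    conj_mem_of_mem_normalizer hm hx
  have hM : ∀ m ∈ normalizer (Q : Set G), ∀ x ∈ Q, pr hp x ∈ d₁.C →
      pr hp (m * x * m⁻¹) ∈ d₁.C := by
    intro m hm x hx hxC
    have key : ∀ y ∈ Q, y * y ≠ 1 → pr hp (m * y * m⁻¹) ∈ d₁.C := fun y hy hne =>
      hsq _ (hconjQ m hm y hy) fun e => hne ((conj_eq_one_iff (a := m) (b := y * y)).mp (by rw [← e]; group))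
    by_cases hxx : x * x = 1
    · have hcQ : d₁.c ∈ Q := hD d₁.c_mem
      have hc2 : d₁.c * d₁.c ≠ 1 := d₁.cc_ne hk
      have h1 : pr hp x * pr hp x = 1 := by rw [← pr_mul hp (hQS hx) (hQS hx), hxx, pr_one]
      have hne : x * d₁.c * (x * d₁.c) ≠ 1 := by
        intro e
        apply hc2
        have e' := congrArg (pr hp) e
        rw [pr_mul hp (mul_mem (hQS hx) (hQS hcQ)) (mul_mem (hQS hx) (hQS hcQ)),
          pr_mul hp (hQS hx) (hQS hcQ), pr_left hp d₁.c_mem, pr_one] at e'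
        rw [show pr hp x * d₁.c * (pr hp x * d₁.c) = pr hp x * (d₁.c * pr hp x) * d₁.c by group,
          d₁.comm_C d₁.c_mem_C hxC,
          show pr hp x * (pr hp x * d₁.c) * d₁.c = pr hp x * pr hp x * (d₁.c * d₁.c) by group, h1,
          one_mul] at e'
        exact e'
      have k1 := key _ (Q.mul_mem hx hcQ) hne
      have k2 := key _ hcQ hc2
      have := d₁.C.mul_mem k1 (d₁.C.inv_mem k2)
      rwa [← pr_inv hp (hQS (hconjQ m hm _ hcQ)), ← pr_mul hp (hQS (hconjQ m hm _ (Q.mul_mem hx hcQ)))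
        (inv_mem (hQS (hconjQ m hm _ hcQ))), show m * (x * d₁.c) * m⁻¹ * (m * d₁.c * m⁻¹)⁻¹ =
        m * x * m⁻¹ by group] at this
    · exact key x hx hxx
  have hinC : ∀ x ∈ Q, pr hp x ∈ d₁.C →
      (pr hp x ∈ d₁.half j ↔ pr hp (n * x * n⁻¹) ∈ d₁.half j) := by
    have hpow : ∀ x ∈ Q, pr hp x ^ 2 ^ d₁.k = 1 ↔ x ^ 2 ^ d₁.k = 1 := by
      intro x hx
      rw [← pr_pow hp (hQS hx)]
      refine ⟨fun h => ?_, fun h => by rw [h, pr_one]⟩
      refine eq_of_pr hp (pow_mem (hQS hx) _) (one_mem S) (by rw [h, pr_one]) ?_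
      rw [pr_pow q (hQS hx), pr_one, ← Nat.sub_add_cancel hk, pow_succ', pow_mul, pow_two, h2 x hx,
        one_pow]
    intro x hx hxC
    rw [d₁.half_pow j hxC, d₁.half_pow j (hM n hn x hx hxC), hpow x hx, hpow _ (hconjQ n hn x hx),
      conj_pow, conj_eq_one_iff]
  intro x hx
  by_cases hxC : pr hp x ∈ d₁.C
  · exact hinC x hx hxC
  by_contra hflip
  have hout : ∀ y ∈ Q, pr hp y ∉ d₁.C → ∀ m ∈ normalizer (Q : Set G),
      pr hp (m * y * m⁻¹) ∉ d₁.C := fun y hy hyC m hm h => hyC (by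
    have := hM m⁻¹ (Subgroup.inv_mem _ hm) _ (hconjQ m hm y hy) h
    rwa [inv_inv, show m⁻¹ * (m * y * m⁻¹) * m = y by group] at this)
  have huni : ∀ y ∈ Q, pr hp y ∉ d₁.C →
      ¬ (pr hp y ∈ d₁.half j ↔ pr hp (n * y * n⁻¹) ∈ d₁.half j) := by
    intro y hy hyC h
    apply hflip
    have hyxC : pr hp (y * x) ∈ d₁.C := by
      rw [pr_mul hp (hQS hy) (hQS hx)]; exact d₁.mul_refl (pr_mem hp y) hyC (pr_mem hp x) hxC
    have e := hinC _ (Q.mul_mem hy hx) hyxC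
    rw [show n * (y * x) * n⁻¹ = (n * y * n⁻¹) * (n * x * n⁻¹) by group,
      pr_mul hp (hQS hy) (hQS hx), pr_mul hp (hQS (hconjQ n hn y hy)) (hQS (hconjQ n hn x hx)),
      d₁.mul_half j (pr_mem hp _) (pr_mem hp _), d₁.mul_half j (pr_mem hp _) (pr_mem hp _)] at e
    tauto
  have hiter : ∀ i : ℕ, pr hp (n ^ i * x * (n ^ i)⁻¹) ∈ d₁.half j ↔
      (pr hp x ∈ d₁.half j ↔ Even i) := by
    intro i
    induction i with
    | zero => simp
    | succ i ih =>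
      have hi : n ^ i ∈ normalizer (Q : Set G) := pow_mem hn i
      have := huni _ (hconjQ _ hi x hx) (hout x hx hxC _ hi)
      rw [show n * (n ^ i * x * (n ^ i)⁻¹) * n⁻¹ = n ^ (i + 1) * x * (n ^ (i + 1))⁻¹ by
        rw [pow_succ']; group] at this
      rw [Nat.even_add_one]
      tauto
  have h := hiter (orderOf n)
  rw [pow_orderOf_eq_one, one_mul, inv_one, mul_one] at h
  have hne : ¬ Even (orderOf n) := Nat.not_even_iff_odd.mpr ho
  tauto

variable (S : Sylow 2 G)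

theorem fullyNormalized_top :
    (groupFusionSystem (S : Subgroup G)).IsFullyNormalized (S : Subgroup G) := by
  refine (Cfsg.Lib.Fusion.fullyNormalized_group_iff S le_rfl).mpr
    ⟨inf_le_right, S.isPGroup'.of_injective _ (inclusion_injective inf_le_left), ?_⟩
  intro U hU hUp hle
  have hSU : (S : Subgroup G) ≤ U := (le_normalizerIn le_rfl).trans hle
  rw [S.is_maximal' hUp hSU]
  exact le_antisymm (le_normalizerIn le_rfl) inf_le_left

/-- The normalizer of a fully normalized subgroup is generated by its part in `S` and its elements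
of odd order. -/
theorem normalizer_le {Q : Subgroup G}
    (hQn : (groupFusionSystem (S : Subgroup G)).IsFullyNormalized Q) (T : Subgroup G)
    (hS : ∀ s ∈ (S : Subgroup G), s ∈ normalizer (Q : Set G) → s ∈ T)
    (hodd : ∀ n ∈ normalizer (Q : Set G), Odd (orderOf n) → n ∈ T) :
    normalizer (Q : Set G) ≤ T := by
  haveI : Fact (Nat.Prime 2) := ⟨Nat.prime_two⟩
  have h := (Cfsg.Lib.Fusion.fullyNormalized_group_iff S hQn.1).mp hQn
  obtain ⟨R, hR⟩ := (Cfsg.Lib.Fusion.sylow_subgroupOf_iff h.1 h.2.1).mpr h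
  intro n hn
  have htop : (⊤ : Subgroup (normalizer (Q : Set G))) ≤ T.subgroupOf _ := by
    rw [← Cfsg.Lib.Transfer.pResidual_sup_sylow R]
    refine sup_le ((closure_le _).mpr fun x hx => hodd x x.2 ?_) ?_
    · rw [Subgroup.orderOf_coe]; exact Nat.coprime_two_right.mp hx
    · rw [hR]; exact fun x hx => hS x hx.1 x.2
  exact htop (mem_top (⟨n, hn⟩ : normalizer (Q : Set G)))

/-- Elements of the normalizer respecting membership in `K` on `Q`. -/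
def resp (Q K : Subgroup G) : Subgroup G where
  carrier := {n | n ∈ normalizer (Q : Set G) ∧ ∀ x ∈ Q, (x ∈ K ↔ n * x * n⁻¹ ∈ K)}
  one_mem' := ⟨one_mem _, fun x _ => by simp⟩
  mul_mem' := fun {a b} ha hb => ⟨mul_mem ha.1 hb.1, fun x hx => by
    rw [show a * b * x * (a * b)⁻¹ = a * (b * x * b⁻¹) * a⁻¹ by group]
    exact (hb.2 x hx).trans (ha.2 _ (conj_mem_of_mem_normalizer hb.1 hx))⟩
  inv_mem' := fun {a} ha => ⟨inv_mem ha.1, fun x hx => by
    have h := ha.2 _ (conj_mem_of_mem_normalizer (inv_mem ha.1) hx)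
    rw [inv_inv] at h ⊢
    rw [show a * (a⁻¹ * x * a) * a⁻¹ = x by group] at h
    exact h.symm⟩

theorem resp_all {Q K : Subgroup G}
    (hQn : (groupFusionSystem (S : Subgroup G)).IsFullyNormalized Q)
    (hK : ∀ s ∈ (S : Subgroup G), ∀ x ∈ K, s * x * s⁻¹ ∈ K)
    (hodd : ∀ n ∈ normalizer (Q : Set G), Odd (orderOf n) →
      ∀ x ∈ Q, (x ∈ K ↔ n * x * n⁻¹ ∈ K)) :
    ∀ n ∈ normalizer (Q : Set G), ∀ x ∈ Q, x ∈ K → n * x * n⁻¹ ∈ K := by
  intro n hn x hx hxK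
  refine ((normalizer_le S hQn (resp Q K) (fun s hs hsn => ⟨hsn, fun y _ => ⟨hK s hs y, fun h => ?_⟩⟩)
    (fun m hm ho => ⟨hm, hodd m hm ho⟩) hn).2 x hx).mp hxK
  have := hK s⁻¹ (inv_mem hs) _ h
  simpa [mul_assoc] using this

/-- On central elements the normalizer of `S` acts through elements of odd order. -/
theorem central_act {n : G} (hn : n ∈ normalizer ((S : Subgroup G) : Set G)) :
    ∃ b ∈ normalizer ((S : Subgroup G) : Set G), Odd (orderOf b) ∧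
      ∀ x ∈ (S : Subgroup G), (∀ y ∈ (S : Subgroup G), x * y = y * x) →
        n * x * n⁻¹ = b * x * b⁻¹ := by
  haveI : Fact (Nat.Prime 2) := ⟨Nat.prime_two⟩
  obtain ⟨a, b, ha, hb, hab, ⟨k, hk⟩, hb'⟩ := Cfsg.Lib.Transfer.exists_pPart 2 n
  have haN : a ∈ normalizer ((S : Subgroup G) : Set G) := (zpowers_le.2 hn) ha
  have hbN : b ∈ normalizer ((S : Subgroup G) : Set G) := (zpowers_le.2 hn) hb
  have haS : a ∈ (S : Subgroup G) := by
    have h := (IsPGroup.of_card ((Nat.card_zpowers a).trans hk)).inf_normalizer_sylow S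
    exact (h.le ⟨mem_zpowers a, haN⟩ : a ∈ zpowers a ⊓ (S : Subgroup G)).2
  refine ⟨b, hbN, Nat.coprime_two_right.mp hb', fun x hx hxc => ?_⟩
  have hbx : b * x * b⁻¹ ∈ (S : Subgroup G) := conj_mem_of_mem_normalizer hbN hx
  have hbxc : a * (b * x * b⁻¹) = b * x * b⁻¹ * a := by
    have h1 := hxc _ (conj_mem_of_mem_normalizer (inv_mem hbN) haS)
    rw [inv_inv] at h1
    calc a * (b * x * b⁻¹) = b * (b⁻¹ * a * b * x) * b⁻¹ := by group
      _ = b * (x * (b⁻¹ * a * b)) * b⁻¹ := by rw [h1]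
      _ = _ := by group
  rw [← hab, show a * b * x * (a * b)⁻¹ = a * (b * x * b⁻¹) * a⁻¹ by group, hbxc,
    mul_inv_cancel_right]

/-- Central elements conjugate in `G` are conjugate under an element of odd order normalizing `S`. -/
theorem central_conj {x y : G} (hx : x ∈ (S : Subgroup G)) (hy : y ∈ (S : Subgroup G))
    (hxc : ∀ z ∈ (S : Subgroup G), x * z = z * x) (hyc : ∀ z ∈ (S : Subgroup G), y * z = z * y)
    (h : IsConj x y) :
    ∃ b ∈ normalizer ((S : Subgroup G) : Set G), Odd (orderOf b) ∧ b * x * b⁻¹ = y := by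
  haveI : Fact (Nat.Prime 2) := ⟨Nat.prime_two⟩
  obtain ⟨g, hg⟩ := isConj_iff.mp h
  obtain ⟨n, hn, e⟩ := Sylow.conj_eq_normalizer_conj_of_mem_centralizer S x g⁻¹
    (mem_centralizer_iff.mpr fun z hz => (hxc z hz).symm)
    (by
      rw [inv_inv, hg]
      exact mem_centralizer_iff.mpr fun z hz => (hyc z hz).symm)
  rw [inv_inv, hg] at e
  obtain ⟨b, hb, hbo, hbe⟩ := central_act S (inv_mem hn)
  refine ⟨b, hb, hbo, ?_⟩
  rw [← hbe x hx hxc, inv_inv]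
  exact e.symm

variable {S} {D₁ D₂ : Subgroup G}
  (hp : Cfsg.IsInternalDirectProduct D₁ D₂ (S : Subgroup G)) (d₁ : Dih D₁) (d₂ : Dih D₂)

include hp

/-- An element of odd order fixing the centre of `Q` centralizes `Q`. -/
theorem odd_centralizes {Q : Subgroup G} (hQS : Q ≤ (S : Subgroup G))
    (h1 : ∀ x ∈ Q, pr hp x ∈ Q)
    (hr : d₁.Ref (Q ⊓ D₁)) (hb : d₁.Big (Q ⊓ D₁)) (hr2 : d₂.Ref (Q ⊓ D₂)) {n : G}
    (hn : n ∈ normalizer (Q : Set G)) (ho : Odd (orderOf n))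
    (hfix : ∀ x ∈ Q, (∀ y ∈ Q, x * y = y * x) → n * x * n⁻¹ = x) :
    ∀ x ∈ Q, n * x * n⁻¹ = x := by
  set α : MulAut Q := Q.normalizerMonoidHom ⟨n, hn⟩ with hα
  have ho' : Odd (orderOf α) := by
    have h := orderOf_map_dvd Q.normalizerMonoidHom ⟨n, hn⟩
    rw [Subgroup.orderOf_mk] at h
    exact ho.of_dvd_nat h
  have h := odd_fix hp d₁ d₂ S.isPGroup' hQS h1 hr hb hr2 ho' fun x hx =>
    Subtype.ext (hfix x x.2 fun y hy => congrArg Subtype.val (hx ⟨y, hy⟩))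
  intro x hx
  have := congrArg (fun β : MulAut Q => ((β ⟨x, hx⟩ : Q) : G)) h
  exact this

/-- A fusion-invariant subgroup of index two. -/
theorem contra_index_two (h2 : ∀ N : Subgroup G, N.Normal → N.index ≠ 2) (K : Subgroup G)
    (hKS : K ≤ (S : Subgroup G)) {g : G} (hg : g ∈ (S : Subgroup G)) (hgK : g ∉ K)
    (hxor : ∀ b ∈ (S : Subgroup G), b * g ∈ K ↔ b ∉ K)
    (hinv : (∀ s ∈ (S : Subgroup G), ∀ x ∈ K, s * x * s⁻¹ ∈ K) →
      ∀ x ∈ (S : Subgroup G), ∀ a : G, a * x * a⁻¹ ∈ (S : Subgroup G) →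
        (x ∈ K ↔ a * x * a⁻¹ ∈ K)) : False := by
  have hrel : K.relIndex (S : Subgroup G) = 2 :=
    relIndex_eq_two_iff.mpr ⟨g, hg, fun b hb => by
      have := hxor b hb
      by_cases hbK : b ∈ K
      · exact Or.inr ⟨hbK, fun h => this.mp h hbK⟩
      · exact Or.inl ⟨this.mpr hbK, hbK⟩⟩
  haveI := Cfsg.Lib.TwoFusion.normal_of_relIndex_two hrel
  have hK : ∀ s ∈ (S : Subgroup G), ∀ x ∈ K, s * x * s⁻¹ ∈ K := fun s hs x hx =>
    (Subgroup.Normal.conj_mem (H := K.subgroupOf (S : Subgroup G)) inferInstance ⟨x, hKS hx⟩ hx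
      ⟨s, hs⟩ : _)
  obtain ⟨M, hM, hMi, -, -⟩ := Cfsg.Lib.TwoFusion.exists_index_two_of_transfer S K hKS hrel g hg hgK
    fun k a h => (hinv hK _ (pow_mem hg k) a h).symm
  exact h2 M hM hMi

/-- Twisting both factors by central homomorphisms. -/
theorem twist (f g : G → G) (hf : ∀ a ∈ D₁, f a ∈ D₂ ∧ ∀ y ∈ D₂, f a * y = y * f a)
    (hfm : ∀ a ∈ D₁, ∀ b ∈ D₁, f (a * b) = f a * f b)
    (hg : ∀ b ∈ D₂, g b ∈ D₁ ∧ ∀ y ∈ D₁, g b * y = y * g b)
    (hgm : ∀ a ∈ D₂, ∀ b ∈ D₂, g (a * b) = g a * g b)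
    (hfg : ∀ b ∈ D₂, f (g b) = 1) (hgf : ∀ a ∈ D₁, g (f a) = 1) :
    ∃ S₁ S₂ : Subgroup G, Cfsg.IsInternalDirectProduct S₁ S₂ (S : Subgroup G) ∧
      Nonempty (D₁ ≃* S₁) ∧ Nonempty (D₂ ≃* S₂) ∧
      (∀ x, x ∈ S₁ ↔ ∃ a ∈ D₁, a * f a = x) ∧ (∀ x, x ∈ S₂ ↔ ∃ b ∈ D₂, g b * b = x) := by
  have hf1 : f 1 = 1 := by simpa using (hfm 1 (one_mem _) 1 (one_mem _))
  have hg1 : g 1 = 1 := by simpa using (hgm 1 (one_mem _) 1 (one_mem _))
  let φ₁ : D₁ →* G :=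
    { toFun := fun a => (a : G) * f a
      map_one' := by simp [hf1]
      map_mul' := fun a b => by
        simp only [Subgroup.coe_mul]
        rw [hfm a a.2 b b.2, show (a : G) * b * (f a * f b) = a * ((b : G) * f a) * f b by group,
          hp.2.2.1 b b.2 _ (hf a a.2).1]
        group }
  let φ₂ : D₂ →* G :=
    { toFun := fun b => g b * (b : G)
      map_one' := by simp [hg1]
      map_mul' := fun a b => by
        simp only [Subgroup.coe_mul]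
        rw [hgm a a.2 b b.2, show g a * g b * ((a : G) * b) = g a * (g b * (a : G)) * b by group,
          hp.2.2.1 _ (hg b b.2).1 a a.2]
        group }
  have hi1 : Function.Injective φ₁ := fun a b h =>
    Subtype.ext (uniq hp a.2 b.2 (hf a a.2).1 (hf b b.2).1 h).1
  have hi2 : Function.Injective φ₂ := fun a b h =>
    Subtype.ext (uniq hp (hg a a.2).1 (hg b b.2).1 a.2 b.2 h).2
  refine ⟨φ₁.range, φ₂.range, ⟨?_, ?_, ?_, ?_, ?_⟩, ⟨MonoidHom.ofInjective hi1⟩,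
    ⟨MonoidHom.ofInjective hi2⟩, fun x => ⟨fun ⟨a, e⟩ => ⟨a, a.2, e⟩, fun ⟨a, ha, e⟩ => ⟨⟨a, ha⟩, e⟩⟩,
    fun x => ⟨fun ⟨a, e⟩ => ⟨a, a.2, e⟩, fun ⟨a, ha, e⟩ => ⟨⟨a, ha⟩, e⟩⟩⟩
  · rintro _ ⟨a, rfl⟩; exact mul_mem (hp.1 a.2) (hp.2.1 (hf a a.2).1)
  · rintro _ ⟨a, rfl⟩; exact mul_mem (hp.1 (hg a a.2).1) (hp.2.1 a.2)
  · rintro _ ⟨a, rfl⟩ _ ⟨b, rfl⟩
    refine comm_of_pr hp (mul_mem (hp.1 a.2) (hp.2.1 (hf a a.2).1))
      (mul_mem (hp.1 (hg b b.2).1) (hp.2.1 b.2)) ?_ ?_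
    · show pr hp ((a : G) * f a) * pr hp (g b * (b : G)) = pr hp (g b * (b : G)) * pr hp ((a : G) * f a)
      rw [pr_mul_of hp a.2 (hf a a.2).1, pr_mul_of hp (hg b b.2).1 b.2]
      exact ((hg b b.2).2 a a.2).symm
    · show pr (hp_symm hp) ((a : G) * f a) * pr (hp_symm hp) (g b * (b : G)) =
        pr (hp_symm hp) (g b * (b : G)) * pr (hp_symm hp) ((a : G) * f a)
      rw [hp.2.2.1 _ a.2 _ (hf a a.2).1, hp.2.2.1 _ (hg b b.2).1 _ b.2,
        pr_mul_of (hp_symm hp) (hf a a.2).1 a.2, pr_mul_of (hp_symm hp) b.2 (hg b b.2).1]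
      exact (hf a a.2).2 b b.2
  · rw [eq_bot_iff]
    rintro _ ⟨⟨a, rfl⟩, ⟨b, hb⟩⟩
    obtain ⟨e1, e2⟩ := uniq hp (hg b b.2).1 a.2 b.2 (hf a a.2).1 hb
    have : f (a : G) = 1 := by rw [← e1]; exact hfg b b.2
    show (a : G) * f a ∈ (⊥ : Subgroup G)
    rw [this, mul_one, mem_bot, ← e1, e2, this, hg1]
  · refine le_antisymm (sup_le ?_ ?_) ?_
    · rintro _ ⟨a, rfl⟩; exact mul_mem (hp.1 a.2) (hp.2.1 (hf a a.2).1)
    · rintro _ ⟨a, rfl⟩; exact mul_mem (hp.1 (hg a a.2).1) (hp.2.1 a.2)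
    intro x hx
    obtain ⟨a, ha, b, hb, rfl⟩ := exists_decomp hp hx
    have hb' : (f a)⁻¹ * b ∈ D₂ := mul_mem (inv_mem (hf a ha).1) hb
    have hgi : ∀ y ∈ D₂, g y⁻¹ = (g y)⁻¹ := fun y hy =>
      eq_inv_of_mul_eq_one_left (by rw [← hgm _ (inv_mem hy) y hy, inv_mul_cancel, hg1])
    have hgb : g ((f a)⁻¹ * b) = g b := by
      rw [hgm _ (inv_mem (hf a ha).1) b hb, hgi _ (hf a ha).1, hgf a ha, inv_one, one_mul]
    have ha' : a * (g b)⁻¹ ∈ D₁ := mul_mem ha (inv_mem (hg b hb).1)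
    have hfi : ∀ y ∈ D₁, f y⁻¹ = (f y)⁻¹ := fun y hy =>
      eq_inv_of_mul_eq_one_left (by rw [← hfm _ (inv_mem hy) y hy, inv_mul_cancel, hf1])
    have hfa : f (a * (g b)⁻¹) = f a := by
      rw [hfm a ha _ (inv_mem (hg b hb).1), hfi _ (hg b hb).1, hfg b hb, inv_one, mul_one]
    have e : a * b = (a * (g b)⁻¹ * f a) * (g b * ((f a)⁻¹ * b)) := by
      rw [show a * (g b)⁻¹ * f a * (g b * ((f a)⁻¹ * b)) =
        a * (g b)⁻¹ * (f a * g b) * ((f a)⁻¹ * b) by group, ← hp.2.2.1 _ (hg b hb).1 _ (hf a ha).1]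
      group
    rw [e]
    exact mul_mem (mem_sup_left ⟨⟨_, ha'⟩, by show a * (g b)⁻¹ * f (a * (g b)⁻¹) = _; rw [hfa]⟩)
      (mem_sup_right ⟨⟨_, hb'⟩, by show g ((f a)⁻¹ * b) * ((f a)⁻¹ * b) = _; rw [hgb]⟩)

include d₁ d₂

/-- A factor is strongly closed when its involutions are. -/
theorem isStronglyClosed_of_involutions
    (h : ∀ x ∈ D₁, x * x = 1 → ∀ g : G, g * x * g⁻¹ ∈ (S : Subgroup G) → g * x * g⁻¹ ∈ D₁) :
    Cfsg.IsStronglyClosed D₁ (S : Subgroup G) := by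
  have hD : ∀ s ∈ (S : Subgroup G), ∀ x ∈ D₁, s * x * s⁻¹ ∈ D₁ := by
    intro s hs x hx
    refine mem_left hp (mul_mem (mul_mem hs (hp.1 hx)) (inv_mem hs)) ?_
    rw [pr_conj (hp_symm hp) hs (hp.1 hx), pr_right (hp := hp_symm hp) hx, mul_one, mul_inv_cancel]
  have hgen : ∀ x ∈ D₁, ∃ a ∈ D₁, ∃ b ∈ D₁, a * a = 1 ∧ b * b = 1 ∧ x = a * b := by
    intro x hx
    by_cases hxC : x ∈ d₁.C
    · refine ⟨x * d₁.t, mul_mem hx d₁.t_mem, d₁.t, d₁.t_mem, d₁.refl _ (mul_mem hx d₁.t_mem)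
        fun hC => d₁.t_out ?_, d₁.t_sq, by rw [mul_assoc, d₁.t_sq, mul_one]⟩
      show d₁.t ∈ d₁.C
      simpa using d₁.C.mul_mem (d₁.C.inv_mem hxC) hC
    · exact ⟨x, hx, 1, one_mem _, d₁.refl x hx hxC, one_mul 1, (mul_one x).symm⟩
  have key : ∀ (P : Subgroup G), P ≤ (S : Subgroup G) → D₁ ≤ P → ∀ n ∈ normalizer (P : Set G),
      ∀ x ∈ P, x ∈ D₁ → n * x * n⁻¹ ∈ D₁ := by
    intro P hP hDP n hn x hx hxD
    obtain ⟨a, ha, b, hb, haa, hbb, rfl⟩ := hgen x hxD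
    rw [show n * (a * b) * n⁻¹ = (n * a * n⁻¹) * (n * b * n⁻¹) by group]
    exact mul_mem (h a ha haa n (hP (conj_mem_of_mem_normalizer hn (hDP ha))))
      (h b hb hbb n (hP (conj_mem_of_mem_normalizer hn (hDP hb))))
  refine ⟨hp.1, fun x hx g hg => (memInv hp d₁ d₂ D₁ hD
    (fun n hn y hy hyD => key _ le_rfl hp.1 n hn y hy hyD) ?_ x (hp.1 hx) g hg).mp hx⟩
  rintro Q hQS hC hQn (hsp | hsp) n hn y hy hyD
  · exact h y hyD (d₁.sq_of_not_big inf_le_right hsp.2.1 ⟨hy, hyD⟩) n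
      (hQS (conj_mem_of_mem_normalizer hn hy))
  · exact key Q hQS hsp.2.2.2 n hn y hy hyD

/-- A factor is strongly closed when its involutions form a class of their own. -/
theorem isStronglyClosed_of_classes {u v w : G}
    (h1 : ∀ a ∈ D₁, a * a = 1 → a ≠ 1 → IsConj a u)
    (h2 : ∀ b ∈ D₂, b * b = 1 → b ≠ 1 → IsConj b v)
    (h3 : ∀ a ∈ D₁, a * a = 1 → a ≠ 1 → ∀ b ∈ D₂, b * b = 1 → b ≠ 1 → IsConj (a * b) w)
    (huv : ¬ IsConj u v) (huw : ¬ IsConj u w) :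
    Cfsg.IsStronglyClosed D₁ (S : Subgroup G) := by
  refine isStronglyClosed_of_involutions hp d₁ d₂ fun x hx hxx g hg => ?_
  by_cases hx1 : x = 1
  · rw [hx1, mul_one, mul_inv_cancel]; exact one_mem _
  have hu : IsConj u (g * x * g⁻¹) := (h1 x hx hxx hx1).symm.trans (isConj_conj g x)
  have hy2 : g * x * g⁻¹ * (g * x * g⁻¹) = 1 := by
    rw [show g * x * g⁻¹ * (g * x * g⁻¹) = g * (x * x) * g⁻¹ by group, hxx, mul_one, mul_inv_cancel]
  have hne : g * x * g⁻¹ ≠ 1 := fun e => hx1 (conj_eq_one_iff.mp e)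
  set y := g * x * g⁻¹
  obtain ⟨a, ha, b, hb, e⟩ := exists_decomp hp hg
  rw [e] at hu hy2 hne ⊢
  obtain ⟨haa, hbb⟩ := uniq hp (mul_mem ha ha) (one_mem _) (mul_mem hb hb) (one_mem _) (by
    rw [mul_one, ← hy2, show a * b * (a * b) = a * (b * a) * b by group, ← hp.2.2.1 a ha b hb]
    group)
  by_cases hb1 : b = 1
  · rw [hb1, mul_one]; exact ha
  exfalso
  by_cases ha1 : a = 1
  · exact huv (hu.trans (by rw [ha1, one_mul]; exact h2 b hb hbb hb1))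
  · exact huw (hu.trans (h3 a ha haa ha1 b hb hbb hb1))

end Finite

end Cfsg.Lib.TwoDihedral
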